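import Mathlib

/-!
# Presentations around `J₁`: the relators, as expressions in any group
-/

set_option autoImplicit false

namespace Cfsg.Agent.Lib.J1Ord.Pres

section Expr

variable {Γ : Type*} [Group Γ]

/-- the word for the involution `(0 1)(2 3)` -/
def uaE (x s : Γ) : Γ := x * s⁻¹ * x * s * x
/-- the word for the involution `(0 3)(1 2)` -/
def ubE (x s : Γ) : Γ := s * uaE x s * s⁻¹
/-- the word for the three-cycle `(0 1 4)` -/
def ddE (x s : Γ) : Γ := s⁻¹ * x * s * x * s⁻¹ * x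

/-- The relators common to all presentations. -/
def baseE (x s t w : Γ) : List Γ :=
  [x * x, s * s * s, (x * s) ^ 5, t * t, t * x * t⁻¹ * x⁻¹, t * s * t⁻¹ * s⁻¹, w ^ 7,
    s * w * s⁻¹ * w⁻¹ * w⁻¹,
    w * t * w⁻¹ * (uaE x s)⁻¹,
    w * uaE x s * w⁻¹ * (ubE x s)⁻¹,
    w * ubE x s * w⁻¹ * (t * uaE x s)⁻¹,
    uaE x s * uaE x s,
    (uaE x s * s) ^ 3]

/-- The commutator relator of the candidate `f`, with `w ^ j` in front. -/
def comE (x s w c : Γ) : Γ := ddE x s * c * (ddE x s)⁻¹ * c⁻¹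

/-- candidate A: `w (x s x s⁻¹) w⁻¹` -/
def cAE (x s w : Γ) : Γ := w * (x * s * x * s⁻¹) * w⁻¹
/-- candidate B: `w (x s) w⁻¹` -/
def cBE (x s w : Γ) : Γ := w * (x * s) * w⁻¹
/-- candidate C: `w³ (x s⁻¹) w⁻³` -/
def cCE (x s w : Γ) : Γ := w * w * w * (x * s⁻¹) * w⁻¹ * w⁻¹ * w⁻¹
/-- candidate D: `w³ (x s x s x) w⁻³` -/
def cDE (x s w : Γ) : Γ := w * w * w * (x * s * x * s * x) * w⁻¹ * w⁻¹ * w⁻¹

/-- The relators of the normalizer: on `a, s, t, w`. -/
def normE (a s t w : Γ) : List Γ :=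
  [a * a, s * s * s, (a * s) ^ 3, t * t, t * a * t⁻¹ * a⁻¹, t * s * t⁻¹ * s⁻¹, w ^ 7,
    s * w * s⁻¹ * w⁻¹ * w⁻¹,
    w * t * w⁻¹ * a⁻¹,
    w * a * w⁻¹ * (s * a * s⁻¹)⁻¹,
    w * (s * a * s⁻¹) * w⁻¹ * (t * a)⁻¹]

variable {Δ : Type*} [Group Δ] (φ : Γ →* Δ) (x s t w : Γ)

theorem map_uaE : φ (uaE x s) = uaE (φ x) (φ s) := by
  simp [uaE]
theorem map_ubE : φ (ubE x s) = ubE (φ x) (φ s) := by
  simp [ubE, map_uaE]
theorem map_ddE : φ (ddE x s) = ddE (φ x) (φ s) := by
  simp [ddE]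
theorem map_baseE : (baseE x s t w).map φ = baseE (φ x) (φ s) (φ t) (φ w) := by
  simp [baseE, map_uaE, map_ubE]
theorem map_normE : (normE x s t w).map φ = normE (φ x) (φ s) (φ t) (φ w) := by
  simp [normE]
theorem map_comE (c : Γ) : φ (comE x s w c) = comE (φ x) (φ s) (φ w) (φ c) := by
  simp [comE, map_ddE]
theorem map_cAE : φ (cAE x s w) = cAE (φ x) (φ s) (φ w) := by
  simp [cAE]
theorem map_cBE : φ (cBE x s w) = cBE (φ x) (φ s) (φ w) := by
  simp [cBE]
theorem map_cCE : φ (cCE x s w) = cCE (φ x) (φ s) (φ w) := by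
  simp [cCE]
theorem map_cDE : φ (cDE x s w) = cDE (φ x) (φ s) (φ w) := by
  simp [cDE]

end Expr

/-- The free group on four letters. -/
abbrev F4 := FreeGroup (Fin 4)

/-- first generator -/
def X : F4 := FreeGroup.of 0
/-- second generator -/
def S : F4 := FreeGroup.of 1
/-- third generator -/
def Tz : F4 := FreeGroup.of 2
/-- fourth generator -/
def W : F4 := FreeGroup.of 3

/-- the word for `a` -/
def Ua : F4 := uaE X S

/-- The common relators. -/
def base : List F4 := baseE X S Tz W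

/-- relators of the normalizer -/
def normR : List F4 := normE X S Tz W

/-- Relators with candidate A. -/
def relA : List F4 := base ++ [comE X S W (cAE X S W)]
/-- Relators with candidate B. -/
def relB : List F4 := base ++ [comE X S W (cBE X S W)]
/-- Relators with candidate C. -/
def relC : List F4 := base ++ [comE X S W (cCE X S W)]
/-- Relators with candidate D. -/
def relD : List F4 := base ++ [comE X S W (cDE X S W)]

/-- The subgroup generators. -/
def Hgens : List F4 := [Ua, S, Tz, W]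

end Cfsg.Agent.Lib.J1Ord.Pres
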