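import Mathlib

/-!
# The Diophantine system for the order of a group with involution centralizer `Z₂ × A₅`
-/

set_option autoImplicit false

namespace Cfsg.Agent.Lib.J1Ord.Dio

/-- Newton iteration with fuel (an untrusted guess for the integer square root). -/
def newton : ℕ → ℕ → ℕ → ℕ
  | 0, _, x => x
  | f + 1, n, x => newton f n ((x + n / x) / 2)

/-- Correct the guess downward. -/
def fixDown : ℕ → ℕ → ℕ → ℕ
  | 0, _, x => x
  | f + 1, n, x => if x * x > n then fixDown f n (x - 1) else x

def guess (n : ℕ) : ℕ := fixDown 3 n (newton 40 n (n + 1))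

/-- `n` is visibly not a square. -/
def notSq (n : ℤ) : Bool :=
  decide (n < 0) || (let x : ℤ := (guess n.toNat : ℤ); decide (x * x < n) && decide (n < (x + 1) * (x + 1)))

lemma notSq_spec {n : ℤ} (h : notSq n = true) (r : ℤ) : r * r ≠ n := by
  intro hr
  simp only [notSq, Bool.or_eq_true, decide_eq_true_eq, Bool.and_eq_true] at h
  rcases h with h | ⟨h1, h2⟩
  · nlinarith [mul_self_nonneg r]
  · set x : ℤ := (guess n.toNat : ℤ) with hx
    have hx0 : 0 ≤ x := Int.natCast_nonneg _
    have h3 : x * x < r * r := by rw [hr]; exact h1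
    have h4 : r * r < (x + 1) * (x + 1) := by rw [hr]; exact h2
    have h5 : x < |r| := by
      apply lt_of_mul_self_lt_mul_self₀ (abs_nonneg r)
      rwa [abs_mul_abs_self]
    have h6 : |r| < x + 1 := by
      apply lt_of_mul_self_lt_mul_self₀ (by linarith)
      rwa [abs_mul_abs_self]
    omega

/-- The test for one pair. -/
def chk (s M : ℤ) : Bool :=
  let m := s - 1
  let W := s * M
  (decide (s = 210) && decide (M = 7)) || (decide (s = -14) && decide (M = -105)) || decide (W = 720) || decide (W = 1200) ||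
    decide ((25 * m * W) % (W - 720) ≠ 0) || decide ((9 * m * W) % (W - 1200) ≠ 0) ||
    notSq (s * s - 4 * ((25 * m * W) / (W - 720))) || notSq (s * s - 4 * ((9 * m * W) / (W - 1200)))

/-- All the pairs with `0 < s M ≤ 7920`. -/
def chkAll : Bool :=
  (List.range 1321).all fun L =>
    (List.range (7920 / L + 1)).all fun S =>
      (decide ((S : ℤ) % 8 ≠ 2) || chk S L) && (decide ((-(S : ℤ)) % 8 ≠ 2) || chk (-(S : ℤ)) (-(L : ℤ)))

set_option maxRecDepth 1000000 in
lemma chkAll_true : chkAll = true := by decide +kernel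

lemma chk_spec {s M A₁ A₂ B₁ B₂ : ℤ} (hs0 : s ≠ 0) (hs1 : s ≠ 1) (hM : M ≠ 0) (hsA : A₁ + A₂ = -s) (hsB : B₁ + B₂ = s)
    (hI : (s * M - 720) * (A₁ * A₂) = 25 * (s - 1) * (s * M))
    (hII : (s * M - 1200) * (B₁ * B₂) = 9 * (s - 1) * (s * M)) (h : chk s M = true) :
    (s = 210 ∧ M = 7) ∨ (s = -14 ∧ M = -105) := by
  have hs1' : s - 1 ≠ 0 := sub_ne_zero.2 hs1
  have hW0 : s * M ≠ 0 := mul_ne_zero hs0 hM
  have h1 : s * M - 720 ≠ 0 := by
    intro h0
    rw [h0, zero_mul] at hI
    have : (25 : ℤ) * (s - 1) * (s * M) ≠ 0 := mul_ne_zero (mul_ne_zero (by norm_num) hs1') hW0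
    exact this hI.symm
  have h2 : s * M - 1200 ≠ 0 := by
    intro h0
    rw [h0, zero_mul] at hII
    have : (9 : ℤ) * (s - 1) * (s * M) ≠ 0 := mul_ne_zero (mul_ne_zero (by norm_num) hs1') hW0
    exact this hII.symm
  have hP : (25 * (s - 1) * (s * M)) / (s * M - 720) = A₁ * A₂ := Int.ediv_eq_of_eq_mul_right h1 hI.symm
  have hQ : (9 * (s - 1) * (s * M)) / (s * M - 1200) = B₁ * B₂ := Int.ediv_eq_of_eq_mul_right h2 hII.symm
  have hP' : (25 * (s - 1) * (s * M)) % (s * M - 720) = 0 := Int.emod_eq_zero_of_dvd ⟨_, hI.symm⟩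
  have hQ' : (9 * (s - 1) * (s * M)) % (s * M - 1200) = 0 := Int.emod_eq_zero_of_dvd ⟨_, hII.symm⟩
  simp only [chk, Bool.or_eq_true, Bool.and_eq_true, decide_eq_true_eq] at h
  rcases h with ((((((h | h) | h) | h) | h) | h) | h) | h
  · exact Or.inl h
  · exact Or.inr h
  · exact absurd (by rw [h]; norm_num) h1
  · exact absurd (by rw [h]; norm_num) h2
  · exact absurd hP' h
  · exact absurd hQ' h
  · rw [hP] at h
    exact absurd (show (A₁ - A₂) * (A₁ - A₂) = s * s - 4 * (A₁ * A₂) by
      have : s = -(A₁ + A₂) := by linarith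
      rw [this]
      ring) (notSq_spec h _)
  · rw [hQ] at h
    exact absurd (show (B₁ - B₂) * (B₁ - B₂) = s * s - 4 * (B₁ * B₂) by
      have : s = B₁ + B₂ := by linarith
      rw [this]
      ring) (notSq_spec h _)

/-- The pairs with large `W` and `s > 0`. -/
def chkBig : Bool :=
  (List.range 543).all fun S => (List.range 122).all fun X =>
    let s : ℤ := S
    let x : ℤ := X
    decide (s % 8 ≠ 2) || decide (x % 8 ≠ 5) || decide (x < 29) || decide (2 * x > s) ||
      (let p := x * (s - x)
       let d := p - 25 * (s - 1)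
       decide (d ≤ 0) || decide ((720 * p) % (s * d) ≠ 0) || decide (720 * p / d ≤ 7920))

set_option maxRecDepth 1000000 in
lemma chkBig_true : chkBig = true := by decide +kernel

lemma big_pos_aux {x y s M : ℤ} (hx8 : x % 8 = 5) (hy8 : y % 8 = 5) (hxy : x ≤ y) (hs : x + y = s) (hs8 : s % 8 = 2)
    (hs10 : 10 ≤ s) (hW : 7920 < s * M) (h : (s * M - 720) * (x * y) = 25 * (s - 1) * (s * M)) : False := by
  set W := s * M with hWdef
  have hm : 0 < s - 1 := by omega
  have hW0 : 0 < W := by omega
  have hR : 0 < 25 * (s - 1) * W := by positivity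
  have hp0 : 0 < x * y := by
    have h3 : 0 < (W - 720) * (x * y) := by rw [h]; exact hR
    exact (pos_iff_pos_of_mul_pos h3).1 (by omega)
  have hy0 : 0 < y := by omega
  have hx0 : 0 < x := by
    by_contra hx
    have : x * y ≤ 0 := mul_nonpos_of_nonpos_of_nonneg (by omega) hy0.le
    omega
  have h1 : 25 * (s - 1) < x * y := by
    by_contra hc
    push Not at hc
    have h4 : (W - 720) * (x * y) ≤ (W - 720) * (25 * (s - 1)) := mul_le_mul_of_nonneg_left hc (by omega)
    nlinarith
  have h2 : 2 * (x * y) < 55 * (s - 1) := by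
    by_contra hc
    push Not at hc
    have h4 : (W - 720) * (55 * (s - 1)) ≤ (W - 720) * (2 * (x * y)) := mul_le_mul_of_nonneg_left hc (by omega)
    nlinarith
  have hx29 : 29 ≤ x := by
    by_contra hc
    have hc' : x = 5 ∨ x = 13 ∨ x = 21 := by omega
    have hy : y = s - x := by omega
    rw [hy] at h1
    rcases hc' with rfl | rfl | rfl <;> omega
  have hp : 29 * s - 841 ≤ x * y := by
    have : 0 ≤ (x - 29) * (y - 29) := mul_nonneg (by omega) (by omega)
    rw [← hs]
    nlinarith
  have hs542 : s ≤ 542 := by omega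
  have hx121 : x ≤ 121 := by
    by_contra hc
    have h5 : 122 * 122 ≤ x * y := mul_le_mul (by omega) (by omega) (by norm_num) hx0.le
    omega
  have hd : W * (x * y - 25 * (s - 1)) = 720 * (x * y) := by linear_combination h
  have hchk := chkBig_true
  simp only [chkBig, List.all_eq_true, List.mem_range] at hchk
  have hS : s.toNat < 543 := by omega
  have hX : x.toNat < 122 := by omega
  have hc := hchk s.toNat hS x.toNat hX
  have hsc : ((s.toNat : ℕ) : ℤ) = s := Int.toNat_of_nonneg (by omega)
  have hxc : ((x.toNat : ℕ) : ℤ) = x := Int.toNat_of_nonneg (by omega)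
  rw [hsc, hxc] at hc
  simp only [Bool.or_eq_true, decide_eq_true_eq] at hc
  have hy' : s - x = y := by omega
  rw [hy'] at hc
  have hd0 : 0 < x * y - 25 * (s - 1) := by omega
  rcases hc with (((hc | hc) | hc) | hc) | ((hc | hc) | hc)
  · exact hc hs8
  · exact hc hx8
  · omega
  · omega
  · omega
  · apply hc
    apply Int.emod_eq_zero_of_dvd
    exact ⟨M, by rw [← hd, hWdef]; ring⟩
  · have h6 : 720 * (x * y) / (x * y - 25 * (s - 1)) = W :=
      Int.ediv_eq_of_eq_mul_right hd0.ne' (by rw [← hd]; ring)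
    omega

lemma big_neg_aux {b S L : ℤ} (hb8 : b % 8 = 5) (hb0 : 0 < b) (hS8 : S % 8 = 6) (hS6 : 6 ≤ S) (hW : 7920 < S * L)
    (h : (S * L - 720) * (b * (S + b)) = 25 * (S + 1) * (S * L)) : False := by
  set W := S * L with hWdef
  have hm : 0 < S + 1 := by omega
  have hW0 : 0 < W := by omega
  have h1 : 25 * (S + 1) < b * (S + b) := by
    by_contra hc
    push Not at hc
    have h4 : (W - 720) * (b * (S + b)) ≤ (W - 720) * (25 * (S + 1)) := mul_le_mul_of_nonneg_left hc (by omega)
    nlinarith
  have h2 : 2 * (b * (S + b)) < 55 * (S + 1) := by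
    by_contra hc
    push Not at hc
    have h4 : (W - 720) * (55 * (S + 1)) ≤ (W - 720) * (2 * (b * (S + b))) := mul_le_mul_of_nonneg_left hc (by omega)
    nlinarith
  have hb29 : b < 29 := by
    by_contra hc
    have : 29 * (S + 29) ≤ b * (S + b) := mul_le_mul (by omega) (by omega) (by omega) (by omega)
    omega
  have hd : W * (b * (S + b) - 25 * (S + 1)) = 720 * (b * (S + b)) := by linear_combination h
  have hc' : b = 5 ∨ b = 13 ∨ b = 21 := by omega
  rcases hc' with rfl | rfl | rfl
  · omega
  · omega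
  · have hS' : S = 70 ∨ S = 78 ∨ S = 86 ∨ S = 94 ∨ S = 102 := by omega
    rw [hWdef] at hd
    rcases hS' with rfl | rfl | rfl | rfl | rfl <;> omega

/-- **The Diophantine system.** -/
theorem dio {s M A₁ A₂ B₁ B₂ : ℤ} (hs8 : s % 8 = 2) (hs2 : s ≠ 2) (hA₁ : A₁ % 8 = 3) (hA₂ : A₂ % 8 = 3)
    (hB₁ : B₁ % 8 = 5) (hB₂ : B₂ % 8 = 5) (hsA : A₁ + A₂ = -s) (hsB : B₁ + B₂ = s) (hpos : 0 < (s - 1) * M)
    (hI : (s * M - 720) * (A₁ * A₂) = 25 * (s - 1) * (s * M))
    (hII : (s * M - 1200) * (B₁ * B₂) = 9 * (s - 1) * (s * M)) :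
    (s = 210 ∧ M = 7) ∨ (s = -14 ∧ M = -105) := by
  have hs0 : s ≠ 0 := by omega
  have hs1 : s ≠ 1 := by omega
  have hM : M ≠ 0 := by
    rintro rfl
    simp at hpos
  have hcases : 10 ≤ s ∨ s ≤ -6 := by omega
  by_cases hW : s * M ≤ 7920
  · -- finite search
    have hchk := chkAll_true
    simp only [chkAll, List.all_eq_true, List.mem_range, Bool.and_eq_true, Bool.or_eq_true, decide_eq_true_eq] at hchk
    rcases hcases with hs | hs
    · have hM0 : 0 < M := by
        by_contra hc
        have : (s - 1) * M ≤ 0 := mul_nonpos_of_nonneg_of_nonpos (by omega) (by omega)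
        omega
      have hL : M.toNat < 1321 := by nlinarith [Int.toNat_of_nonneg hM0.le]
      have hLc : ((M.toNat : ℕ) : ℤ) = M := Int.toNat_of_nonneg hM0.le
      have hSc : ((s.toNat : ℕ) : ℤ) = s := Int.toNat_of_nonneg (by omega)
      have hS : s.toNat < 7920 / M.toNat + 1 := by
        rw [Nat.lt_succ_iff, Nat.le_div_iff_mul_le (by omega)]
        zify
        rw [hLc, hSc]
        exact hW
      have h1 := (hchk M.toNat hL s.toNat hS).1
      rw [hSc, hLc] at h1
      rcases h1 with h1 | h1
      · exact absurd hs8 h1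
      · exact chk_spec hs0 hs1 hM hsA hsB hI hII h1
    · have hM0 : M < 0 := by
        by_contra hc
        have : (s - 1) * M ≤ 0 := mul_nonpos_of_nonpos_of_nonneg (by omega) (by omega)
        omega
      have hLc : (((-M).toNat : ℕ) : ℤ) = -M := Int.toNat_of_nonneg (by omega)
      have hSc : (((-s).toNat : ℕ) : ℤ) = -s := Int.toNat_of_nonneg (by omega)
      have hL : (-M).toNat < 1321 := by
        have : (-s) * (-M) ≤ 7920 := by linarith
        have h6 : 6 * (-M) ≤ (-s) * (-M) := mul_le_mul_of_nonneg_right (by omega) (by omega)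
        omega
      have hS : (-s).toNat < 7920 / (-M).toNat + 1 := by
        rw [Nat.lt_succ_iff, Nat.le_div_iff_mul_le (by omega)]
        zify
        rw [hLc, hSc]
        linarith
      have h1 := (hchk (-M).toNat hL (-s).toNat hS).2
      rw [hSc, hLc, neg_neg, neg_neg] at h1
      rcases h1 with h1 | h1
      · exact absurd hs8 h1
      · exact chk_spec hs0 hs1 hM hsA hsB hI hII h1
  · exfalso
    push Not at hW
    rcases hcases with hs | hs
    · -- `s > 0`: `A₁, A₂ < 0`
      have hx : (-A₁) % 8 = 5 := by omega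
      have hy : (-A₂) % 8 = 5 := by omega
      have h' : (s * M - 720) * ((-A₁) * (-A₂)) = 25 * (s - 1) * (s * M) := by linear_combination hI
      rcases le_total (-A₁) (-A₂) with hle | hle
      · exact big_pos_aux hx hy hle (by omega) hs8 hs hW h'
      · exact big_pos_aux hy hx hle (by omega) hs8 hs hW (by linear_combination h')
    · -- `s < 0`
      have hM0 : M < 0 := by
        by_contra hc
        have : (s - 1) * M ≤ 0 := mul_nonpos_of_nonpos_of_nonneg (by omega) (by omega)
        omega
      have hR : 25 * (s - 1) * (s * M) < 0 := by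
        have : 25 * (s - 1) < 0 := by omega
        exact mul_neg_of_neg_of_pos this (by omega)
      have hP : A₁ * A₂ < 0 := by
        by_contra hc
        push Not at hc
        have : 0 ≤ (s * M - 720) * (A₁ * A₂) := mul_nonneg (by omega) hc
        omega
      have hS8 : (-s) % 8 = 6 := by omega
      have hW' : 7920 < (-s) * (-M) := by linarith
      rcases mul_neg_iff.1 hP with ⟨h1, h2⟩ | ⟨h1, h2⟩
      · exact big_neg_aux (b := -A₂) (by omega) (by omega) hS8 (by omega) hW' (by
          have : -s + -A₂ = A₁ := by omega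
          rw [this]
          linear_combination -hI)
      · exact big_neg_aux (b := -A₁) (by omega) (by omega) hS8 (by omega) hW' (by
          have : -s + -A₁ = A₂ := by omega
          rw [this]
          linear_combination -hI)

end Cfsg.Agent.Lib.J1Ord.Dio
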