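import Mathlib
import Cfsg.Agent.Lib.J1Ord.Dio

/-!
# The combinatorics of the table: from column relations to the order
-/

set_option autoImplicit false
set_option linter.unusedSectionVars false

namespace Cfsg.Agent.Lib.J1Ord.Tab

open Finset

/-- The value on `t`. -/
def Q (a b c e : ℤ) : ℤ := a - 3 * b - 2 * c + 4 * e
/-- The value on `c`. -/
def V (a b c e : ℤ) : ℤ := a + c + e
/-- The rational part of the value on `d₁`. -/
def Aa (a b c e : ℤ) : ℤ := a - b + c - e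
/-- The `φ`-part of the value on `d₁`. -/
def Bb (b c : ℤ) : ℤ := b - c

/-- The pattern of a row. -/
def pat (a b c : ℤ) : ℕ :=
  if a = 0 ∧ b = 0 ∧ c = 0 then 0
  else if b = 0 ∧ c = 0 then 1
  else if a = 0 ∧ c = 0 then 2
  else if a = 0 ∧ b = 0 then 3
  else if c = 0 then 4
  else if b = 0 then 5
  else if a = 0 then 6
  else 7

/-- The sign of a row. -/
def eps (a b c : ℤ) : ℤ := if a ≠ 0 then a else if b ≠ 0 then b else c

def pz : ℕ → ℤ
  | 1 => 1 | 4 => 1 | 5 => 1 | 7 => 1 | _ => 0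
def py : ℕ → ℤ
  | 2 => 1 | 4 => 1 | 6 => 1 | 7 => -1 | _ => 0
def pt : ℕ → ℤ
  | 3 => 1 | 5 => -1 | 6 => 1 | 7 => -1 | _ => 0

/-- Entries of a root column. -/
def Un (w : ℤ) : Prop := w = 0 ∨ w = 1 ∨ w = -1

/-- Admissible triples. -/
structure Adm (a b c : ℤ) : Prop where
  ha : Un a
  hb : Un b
  hc : Un c
  h1 : Un (b - c)
  h2 : Un (a + c)
  h3 : Un (a + c - b)

lemma pat_spec {a b c : ℤ} (h : Adm a b c) :
    a = eps a b c * pz (pat a b c) ∧ b = eps a b c * py (pat a b c) ∧ c = eps a b c * pt (pat a b c) ∧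
      pat a b c < 8 ∧ (pat a b c ≠ 0 → eps a b c = 1 ∨ eps a b c = -1) ∧
      (a - 3 * b - 2 * c = 0 → pat a b c = 0) ∧ (pat a b c = 0 → a = 0 ∧ b = 0 ∧ c = 0) := by
  obtain ⟨ha, hb, hc, h1, h2, h3⟩ := h
  unfold Un at *
  rcases ha with rfl | rfl | rfl <;> rcases hb with rfl | rfl | rfl <;> rcases hc with rfl | rfl | rfl <;>
    first
    | (exfalso; omega)
    | decide

/-- Pointwise counting identities. -/
lemma pat_count {a b c : ℤ} (h : Adm a b c) :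
    let k := pat a b c
    let e : ℕ → ℤ := fun i => if k = i then 1 else 0
    a * a = e 1 + e 4 + e 5 + e 7 ∧ b * b = e 2 + e 4 + e 6 + e 7 ∧ c * c = e 3 + e 5 + e 6 + e 7 ∧
      a * b = e 4 - e 7 ∧ a * c = - e 5 - e 7 ∧ b * c = e 6 + e 7 := by
  obtain ⟨ha, hb, hc, h1, h2, h3⟩ := h
  unfold Un at *
  rcases ha with rfl | rfl | rfl <;> rcases hb with rfl | rfl | rfl <;> rcases hc with rfl | rfl | rfl <;>
    first
    | (exfalso; omega)
    | decide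

/-- The equation of the case `k = 1`. -/
def eqnB (g h : ℤ) : Bool :=
  decide (3 * (2 * g + 1) * (g * h * (h - g - 1) - 9 * g * (h - g - 1) + 4 * h * (h - g - 1) + 36 * g * h) =
    10 * ((g - 2) * (g - 2)) * h * (h - g - 1))

set_option maxRecDepth 100000 in
theorem no_sol : ∀ i : ℕ, i < 115 → ∀ j : ℕ, j < 115 → eqnB (8 * (i : ℤ) - 458) (8 * (j : ℤ) - 459) = false := by
  decide +kernel

lemma one_P1 {g I : ℚ} (hI0 : I ≠ 0) (hG : g ≠ 0) (h6 : 2 * g + 1 ≠ 0)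
    (t1 : 1 / 1 + 4 * (1 / g) + 4 * (1 / g) + 25 * (1 / (-(2 * g + 1))) = 720 / I) :
    I * (g - 2) ^ 2 = 360 * g * (2 * g + 1) := by
  have h : 1 + 8 * (1 / g) - 25 * (1 / (2 * g + 1)) = 720 / I := by
    rw [← t1]
    rw [one_div_neg_eq_neg_one_div]
    ring
  have h6' : g * 2 + 1 ≠ 0 := by rwa [mul_comm]
  field_simp at h
  linarith

lemma one_P2 {g f I : ℚ} (hI0 : I ≠ 0) (hG : g ≠ 0) (hF : f ≠ 0) (h6 : 2 * g + 1 ≠ 0) (h7 : f - g - 1 ≠ 0)
    (P1 : I * (g - 2) ^ 2 = 360 * g * (2 * g + 1))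
    (t2 : 1 / 1 - 9 * (1 / f) + 4 * (1 / g) + 36 * (1 / (f - g - 1)) = 1200 / I) :
    3 * (2 * g + 1) * (g * f * (f - g - 1) - 9 * g * (f - g - 1) + 4 * f * (f - g - 1) + 36 * g * f) =
      10 * ((g - 2) * (g - 2)) * f * (f - g - 1) := by
  have e : 1200 / I = 10 * (g - 2) ^ 2 / (3 * g * (2 * g + 1)) := by
    rw [div_eq_div_iff hI0 (by positivity)]
    linear_combination (-10) * P1
  rw [e] at t2
  have h6' : g * 2 + 1 ≠ 0 := by rwa [mul_comm]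
  field_simp at t2
  linarith

lemma bound_I {g I : ℤ} (gm : g % 8 = 6) (P1 : I * (g - 2) ^ 2 = 360 * g * (2 * g + 1)) : I ≤ 1755 := by
  have hne : g - 2 ≠ 0 := by omega
  have hsq : 0 < (g - 2) ^ 2 := by positivity
  have hpoly : 0 ≤ (g - 6) * (23 * g - 26) := by
    rcases (by omega : g ≤ -2 ∨ 6 ≤ g) with hh | hh
    · nlinarith [mul_nonneg (show 0 ≤ 6 - g by omega) (show 0 ≤ 26 - 23 * g by omega)]
    · exact mul_nonneg (by omega) (by omega)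
  by_contra hc
  have h1756 : 1756 ≤ I := by omega
  have h1 : 8 * (g * (2 * g + 1)) ≤ 39 * (g - 2) ^ 2 := by nlinarith
  have h2 : 1756 * (g - 2) ^ 2 ≤ I * (g - 2) ^ 2 := mul_le_mul_of_nonneg_right h1756 hsq.le
  have h3 : 8 * (I * (g - 2) ^ 2) = 360 * (8 * (g * (2 * g + 1))) := by rw [P1]; ring
  nlinarith

lemma zero_I {m M A₁ A₂ : ℚ} (hm : m ≠ 0) (hM : M ≠ 0) (h1 : A₁ ≠ 0) (h2 : A₂ ≠ 0) (hs : A₁ + A₂ = -(m + 1))
    (t : 1 / 1 + 1 / m + 25 * (1 / A₁ + 1 / A₂) = 720 / (m * M)) :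
    ((m + 1) * M - 720) * (A₁ * A₂) = 25 * m * ((m + 1) * M) := by
  field_simp at t
  linear_combination t - 25 * m * M * hs

lemma zero_II {m M A₁ A₂ : ℚ} (hm : m ≠ 0) (hM : M ≠ 0) (h1 : A₁ ≠ 0) (h2 : A₂ ≠ 0) (hs : A₁ + A₂ = (m + 1))
    (t : 1 / 1 + 1 / m - 9 * (1 / A₁ + 1 / A₂) = 1200 / (m * M)) :
    ((m + 1) * M - 1200) * (A₁ * A₂) = 9 * m * ((m + 1) * M) := by
  field_simp at t
  linear_combination t + 9 * m * M * hs

lemma zero_III {s B₁ B₂ C₁ C₂ : ℚ} (hss : s ≠ 0) (h1 : B₁ ≠ 0) (h2 : B₂ ≠ 0) (h3 : C₁ ≠ 0) (h4 : C₂ ≠ 0)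
    (hB : B₁ + B₂ = s) (hC : C₁ + C₂ = -s) (t : 9 * (1 / B₁ + 1 / B₂) + 9 * (1 / C₁ + 1 / C₂) = 0) :
    C₁ * C₂ = B₁ * B₂ := by
  field_simp at t
  have e : s * (C₁ * C₂ - B₁ * B₂) = 0 := by
    linear_combination t / 9 - C₁ * C₂ * hB - B₁ * B₂ * hC
  have := (mul_eq_zero.1 e).resolve_left hss
  linarith

lemma zero_arith {m M A₁ A₂ B₁ B₂ C₁ C₂ I : ℤ} (hm : (8 : ℤ) ∣ m - 1) (hm1 : m ≠ 1)
    (hA₁ : (8 : ℤ) ∣ A₁ - -5) (hA₂ : (8 : ℤ) ∣ A₂ - -5) (hB₁ : (8 : ℤ) ∣ B₁ - -3) (hB₂ : (8 : ℤ) ∣ B₂ - -3)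
    (hC₁ : (8 : ℤ) ∣ C₁ - 3) (hC₂ : (8 : ℤ) ∣ C₂ - 3)
    (s1 : 1 + m + (C₁ + C₂) = 0) (s2 : B₁ + B₂ + (A₁ + A₂) = 0) (s3 : -(C₁ + C₂) + (A₁ + A₂) = 0)
    (hI : I = m * M) (hIpos : 0 < I)
    (t1 : (1 / 1 + 1 / (m : ℚ)) + 25 * (1 / (A₁ : ℚ) + 1 / (A₂ : ℚ)) = 720 / (I : ℚ))
    (t2 : (1 / 1 + 1 / (m : ℚ)) - 9 * (1 / (B₁ : ℚ) + 1 / (B₂ : ℚ)) = 1200 / (I : ℚ))
    (t3 : 9 * (1 / (B₁ : ℚ) + 1 / (B₂ : ℚ)) + 9 * (1 / (C₁ : ℚ) + 1 / (C₂ : ℚ)) = 0) :
    I = 1463 ∨ (I = 1575 ∧ m = -15 ∧ ((A₁ = 35 ∧ A₂ = -21) ∨ (A₁ = -21 ∧ A₂ = 35)) ∧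
      ((B₁ = 21 ∧ B₂ = -35) ∨ (B₁ = -35 ∧ B₂ = 21)) ∧ ((C₁ = 35 ∧ C₂ = -21) ∨ (C₁ = -21 ∧ C₂ = 35))) := by
  have hm0 : m ≠ 0 := by omega
  have hM0 : M ≠ 0 := by
    rintro rfl
    rw [mul_zero] at hI
    omega
  have na1 : A₁ ≠ 0 := by omega
  have na2 : A₂ ≠ 0 := by omega
  have nb1 : B₁ ≠ 0 := by omega
  have nb2 : B₂ ≠ 0 := by omega
  have nc1 : C₁ ≠ 0 := by omega
  have nc2 : C₂ ≠ 0 := by omega
  have hIq : (I : ℚ) = (m : ℚ) * (M : ℚ) := by exact_mod_cast hI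
  rw [hIq] at t1 t2
  have eI := zero_I (m := (m : ℚ)) (M := (M : ℚ)) (A₁ := (A₁ : ℚ)) (A₂ := (A₂ : ℚ))
    (by exact_mod_cast hm0) (by exact_mod_cast hM0) (by exact_mod_cast na1) (by exact_mod_cast na2)
    (by
      have : A₁ + A₂ = -(m + 1) := by omega
      exact_mod_cast this) t1
  have eII := zero_II (m := (m : ℚ)) (M := (M : ℚ)) (A₁ := (B₁ : ℚ)) (A₂ := (B₂ : ℚ))
    (by exact_mod_cast hm0) (by exact_mod_cast hM0) (by exact_mod_cast nb1) (by exact_mod_cast nb2)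
    (by
      have : B₁ + B₂ = (m + 1) := by omega
      exact_mod_cast this) t2
  have eI' : ((m + 1) * M - 720) * (A₁ * A₂) = 25 * m * ((m + 1) * M) := by exact_mod_cast eI
  have eII' : ((m + 1) * M - 1200) * (B₁ * B₂) = 9 * m * ((m + 1) * M) := by exact_mod_cast eII
  have hdio := Dio.dio (s := m + 1) (M := M) (A₁ := A₁) (A₂ := A₂) (B₁ := B₁) (B₂ := B₂)
    (by omega) (by omega) (by omega) (by omega) (by omega) (by omega) (by omega) (by omega)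
    (by rw [add_sub_cancel_right, ← hI]; exact hIpos)
    (by rw [add_sub_cancel_right]; exact eI')
    (by rw [add_sub_cancel_right]; exact eII')
  rcases hdio with ⟨e1, e2⟩ | ⟨e1, e2⟩
  · left
    have : m = 209 := by omega
    rw [hI, this, e2]
    norm_num
  · right
    have hm15 : m = -15 := by omega
    subst hm15
    subst e2
    have sA : A₂ = 14 - A₁ := by omega
    have sB : B₂ = -14 - B₁ := by omega
    have sC : C₂ = 14 - C₁ := by omega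
    have pA : A₁ * A₂ = -735 := by
      norm_num at eI'
      omega
    have pB : B₁ * B₂ = -735 := by
      norm_num at eII'
      omega
    have pC : C₁ * C₂ = -735 := by
      have e3 := zero_III (s := ((-14 : ℤ) : ℚ)) (B₁ := (B₁ : ℚ)) (B₂ := (B₂ : ℚ)) (C₁ := (C₁ : ℚ)) (C₂ := (C₂ : ℚ))
        (by norm_num) (by exact_mod_cast nb1) (by exact_mod_cast nb2) (by exact_mod_cast nc1) (by exact_mod_cast nc2)
        (by
          have : B₁ + B₂ = -14 := by omega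
          exact_mod_cast this)
        (by
          have : C₁ + C₂ = - (-14) := by omega
          exact_mod_cast this) t3
      have e3' : C₁ * C₂ = B₁ * B₂ := by exact_mod_cast e3
      rw [e3', pB]
    subst sA sB sC
    have qA : (A₁ - 35) * (A₁ + 21) = 0 := by linarith
    have qB : (B₁ + 35) * (B₁ - 21) = 0 := by linarith
    have qC : (C₁ - 35) * (C₁ + 21) = 0 := by linarith
    refine ⟨by rw [hI]; norm_num, rfl, ?_, ?_, ?_⟩
    · rcases mul_eq_zero.1 qA with e | e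
      · left; omega
      · right; omega
    · rcases mul_eq_zero.1 qB with e | e
      · right; omega
      · left; omega
    · rcases mul_eq_zero.1 qC with e | e
      · left; omega
      · right; omega

section

variable {ι : Type*} [Fintype ι] [DecidableEq ι]

/-- Columns of norm four. -/
lemma root_col {d : ι → ℕ} (hd : ∀ j, 0 < d j) {w : ι → ℤ} (h4 : ∑ j, w j * w j = 4) (h0 : ∑ j, (d j : ℤ) * w j = 0)
    (j : ι) : Un (w j) := by
  by_contra hc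
  have hbig : 4 ≤ w j * w j := by
    unfold Un at hc
    have h2 : 2 ≤ w j ∨ w j ≤ -2 := by omega
    rcases h2 with h2 | h2 <;> nlinarith
  have hsplit := Finset.add_sum_erase univ (fun k => w k * w k) (mem_univ j)
  rw [h4] at hsplit
  have hnn : 0 ≤ ∑ k ∈ univ.erase j, w k * w k := Finset.sum_nonneg fun k _ => mul_self_nonneg _
  have hzero : ∑ k ∈ univ.erase j, w k * w k = 0 := by omega
  have hk : ∀ k ∈ univ.erase j, w k * w k = 0 := (Finset.sum_eq_zero_iff_of_nonneg fun k _ => mul_self_nonneg _).1 hzero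
  have hsplit2 := Finset.add_sum_erase univ (fun k => (d k : ℤ) * w k) (mem_univ j)
  have hz2 : ∑ k ∈ univ.erase j, (d k : ℤ) * w k = 0 := by
    apply Finset.sum_eq_zero
    intro k hk'
    have := hk k hk'
    rw [mul_self_eq_zero.1 this, mul_zero]
  rw [hz2, add_zero, h0] at hsplit2
  have hdj : (d j : ℤ) ≠ 0 := by exact_mod_cast (hd j).ne'
  have hw0 : w j = 0 := (mul_eq_zero.1 hsplit2).resolve_left hdj
  rw [hw0] at hbig
  omega

/-- The table of values. -/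
structure Tab (i₀ : ι) (d : ι → ℕ) (z y t x : ι → ℤ) (I : ℕ) : Prop where
  d_pos : ∀ j, 0 < d j
  d_one : ∀ j, d j = 1 → j = i₀
  d_i₀ : d i₀ = 1
  z_i₀ : z i₀ = 1
  y_i₀ : y i₀ = 0
  t_i₀ : t i₀ = 0
  x_i₀ : x i₀ = 0
  gzz : ∑ j, z j * z j = 4
  gyy : ∑ j, y j * y j = 4
  gtt : ∑ j, t j * t j = 4
  gxx : ∑ j, x j * x j = 2
  gzy : ∑ j, z j * y j = 0
  gzt : ∑ j, z j * t j = -2
  gyt : ∑ j, y j * t j = 2
  gzx : ∑ j, z j * x j = 0
  gyx : ∑ j, y j * x j = 0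
  gtx : ∑ j, t j * x j = 0
  dz : ∑ j, (d j : ℤ) * z j = 0
  dy : ∑ j, (d j : ℤ) * y j = 0
  dt : ∑ j, (d j : ℤ) * t j = 0
  dx : ∑ j, (d j : ℤ) * x j = 0
  mod8 : ∀ j, (8 : ℤ) ∣ (d j : ℤ) - Q (z j) (y j) (t j) (x j)
  cq : ∑ j, ((Q (z j) (y j) (t j) (x j) : ℤ) : ℚ) ^ 2 * ((Q (z j) (y j) (t j) (x j) : ℤ) : ℚ) / (d j : ℚ) = 3600 / (I : ℚ)
  cv : ∑ j, ((Q (z j) (y j) (t j) (x j) : ℤ) : ℚ) ^ 2 * ((V (z j) (y j) (t j) (x j) : ℤ) : ℚ) / (d j : ℚ) = 720 / (I : ℚ)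
  ca : ∑ j, ((Q (z j) (y j) (t j) (x j) : ℤ) : ℚ) ^ 2 * ((Aa (z j) (y j) (t j) (x j) : ℤ) : ℚ) / (d j : ℚ) = 1200 / (I : ℚ)
  cb : ∑ j, ((Q (z j) (y j) (t j) (x j) : ℤ) : ℚ) ^ 2 * ((Bb (y j) (t j) : ℤ) : ℚ) / (d j : ℚ) = 0
  sq : ∑ j, (d j) ^ 2 = 120 * I
  Ipos : 0 < I
  dvd : ∀ j, (Q (z j) (y j) (t j) (x j) = 1 ∨ Q (z j) (y j) (t j) (x j) = -1) → (d j : ℤ) ∣ (I : ℤ)
  gal : ∀ j, ∃ j', d j' = d j ∧ Q (z j') (y j') (t j') (x j') = Q (z j) (y j) (t j) (x j) ∧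
    V (z j') (y j') (t j') (x j') = V (z j) (y j) (t j) (x j) ∧
    Aa (z j') (y j') (t j') (x j') = Aa (z j) (y j) (t j) (x j) + Bb (y j) (t j) ∧
    Bb (y j') (t j') = - Bb (y j) (t j)

variable {i₀ : ι} {d : ι → ℕ} {z y t x : ι → ℤ} {I : ℕ} (h : Tab i₀ d z y t x I)

include h

lemma adm (j : ι) : Adm (z j) (y j) (t j) := by
  have e1 : ∑ k, (y k - t k) * (y k - t k) = 4 := by
    have : ∀ k, (y k - t k) * (y k - t k) = y k * y k + (-2) * (y k * t k) + t k * t k := fun k => by ring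
    simp only [this, Finset.sum_add_distrib, ← Finset.mul_sum]
    rw [h.gyy, h.gtt, h.gyt]
    norm_num
  have e2 : ∑ k, (z k + t k) * (z k + t k) = 4 := by
    have : ∀ k, (z k + t k) * (z k + t k) = z k * z k + 2 * (z k * t k) + t k * t k := fun k => by ring
    simp only [this, Finset.sum_add_distrib, ← Finset.mul_sum]
    rw [h.gzz, h.gtt, h.gzt]
    norm_num
  have e3 : ∑ k, (z k + t k - y k) * (z k + t k - y k) = 4 := by
    have : ∀ k, (z k + t k - y k) * (z k + t k - y k) = z k * z k + t k * t k + y k * y k + 2 * (z k * t k) + (-2) * (z k * y k)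
        + (-2) * (y k * t k) := fun k => by ring
    simp only [this, Finset.sum_add_distrib, ← Finset.mul_sum]
    rw [h.gzz, h.gtt, h.gyy, h.gzt, h.gzy, h.gyt]
    norm_num
  have d1 : ∑ k, (d k : ℤ) * (y k - t k) = 0 := by
    simp_rw [mul_sub, Finset.sum_sub_distrib]
    rw [h.dy, h.dt]
    norm_num
  have d2 : ∑ k, (d k : ℤ) * (z k + t k) = 0 := by
    simp_rw [mul_add, Finset.sum_add_distrib]
    rw [h.dz, h.dt]
    norm_num
  have d3 : ∑ k, (d k : ℤ) * (z k + t k - y k) = 0 := by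
    simp_rw [mul_sub, mul_add, Finset.sum_sub_distrib, Finset.sum_add_distrib]
    rw [h.dz, h.dt, h.dy]
    norm_num
  exact ⟨root_col h.d_pos h.gzz h.dz j, root_col h.d_pos h.gyy h.dy j, root_col h.d_pos h.gtt h.dt j,
    root_col h.d_pos e1 d1 j, root_col h.d_pos e2 d2 j, root_col h.d_pos e3 d3 j⟩

/-- The pattern of a row. -/
def pc (z y t : ι → ℤ) (j : ι) : ℕ := pat (z j) (y j) (t j)
/-- The fibers. -/
def F (z y t : ι → ℤ) (k : ℕ) : Finset ι := univ.filter fun j => pc z y t j = k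
/-- The sign. -/
def ε (z y t : ι → ℤ) (j : ι) : ℤ := eps (z j) (y j) (t j)

omit h in
lemma mem_F {k : ℕ} {j : ι} : j ∈ F z y t k ↔ pc z y t j = k := by simp [F]

/-- The counts. -/
lemma counts : ((F z y t 1).card : ℤ) + (F z y t 4).card + (F z y t 5).card + (F z y t 7).card = 4 ∧
    ((F z y t 2).card : ℤ) + (F z y t 4).card + (F z y t 6).card + (F z y t 7).card = 4 ∧
    ((F z y t 3).card : ℤ) + (F z y t 5).card + (F z y t 6).card + (F z y t 7).card = 4 ∧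
    ((F z y t 4).card : ℤ) - (F z y t 7).card = 0 ∧
    -((F z y t 5).card : ℤ) - (F z y t 7).card = -2 ∧
    ((F z y t 6).card : ℤ) + (F z y t 7).card = 2 := by
  have hc : ∀ i : ℕ, ∑ j, (if pc z y t j = i then (1 : ℤ) else 0) = (F z y t i).card := by
    intro i
    rw [Finset.sum_boole]
    rfl
  have hp := fun j => pat_count (adm h j)
  simp only at hp
  refine ⟨?_, ?_, ?_, ?_, ?_, ?_⟩
  · rw [← hc 1, ← hc 4, ← hc 5, ← hc 7, ← Finset.sum_add_distrib, ← Finset.sum_add_distrib, ← Finset.sum_add_distrib]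
    exact (Finset.sum_congr rfl fun j _ => (hp j).1.symm).trans h.gzz
  · rw [← hc 2, ← hc 4, ← hc 6, ← hc 7, ← Finset.sum_add_distrib, ← Finset.sum_add_distrib, ← Finset.sum_add_distrib]
    exact (Finset.sum_congr rfl fun j _ => (hp j).2.1.symm).trans h.gyy
  · rw [← hc 3, ← hc 5, ← hc 6, ← hc 7, ← Finset.sum_add_distrib, ← Finset.sum_add_distrib, ← Finset.sum_add_distrib]
    exact (Finset.sum_congr rfl fun j _ => (hp j).2.2.1.symm).trans h.gtt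
  · rw [← hc 4, ← hc 7, ← Finset.sum_sub_distrib]
    exact (Finset.sum_congr rfl fun j _ => (hp j).2.2.2.1.symm).trans h.gzy
  · rw [← hc 5, ← hc 7, ← Finset.sum_neg_distrib, ← Finset.sum_sub_distrib]
    exact (Finset.sum_congr rfl fun j _ => (hp j).2.2.2.2.1.symm).trans h.gzt
  · rw [← hc 6, ← hc 7, ← Finset.sum_add_distrib]
    exact (Finset.sum_congr rfl fun j _ => (hp j).2.2.2.2.2.symm).trans h.gyt

lemma i₀_mem : i₀ ∈ F z y t 1 := by
  rw [mem_F, pc, h.z_i₀, h.y_i₀, h.t_i₀]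
  decide

omit h in
lemma sum_two {M : Type*} [AddCommMonoid M] (f : ι → M) {a b : ι} (hab : a ≠ b) :
    ∑ j, f j = f a + f b + ∑ j ∈ (univ.erase a).erase b, f j := by
  rw [← Finset.add_sum_erase univ f (mem_univ a),
    ← Finset.add_sum_erase (univ.erase a) f (mem_erase.2 ⟨hab.symm, mem_univ b⟩), add_assoc]

lemma x_rows₀ : ∃ ξ ξ', ξ ≠ ξ' ∧ (x ξ = 1 ∨ x ξ = -1) ∧ x ξ' = - x ξ ∧ d ξ' = d ξ ∧
    ∀ j, j ≠ ξ → j ≠ ξ' → x j = 0 := by
  have h1 : ∃ ξ, x ξ ≠ 0 := by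
    by_contra hc
    push Not at hc
    have := h.gxx
    simp [hc] at this
  obtain ⟨ξ, hξ⟩ := h1
  have h2 : ∃ ξ', ξ' ≠ ξ ∧ x ξ' ≠ 0 := by
    by_contra hc
    push Not at hc
    have hs := Finset.add_sum_erase univ (fun k => (d k : ℤ) * x k) (mem_univ ξ)
    have : ∑ k ∈ univ.erase ξ, (d k : ℤ) * x k = 0 := Finset.sum_eq_zero fun k hk => by
      rw [hc k (ne_of_mem_erase hk), mul_zero]
    rw [this, add_zero, h.dx] at hs
    have hd : (d ξ : ℤ) ≠ 0 := by exact_mod_cast (h.d_pos ξ).ne'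
    exact hξ ((mul_eq_zero.1 hs).resolve_left hd)
  obtain ⟨ξ', hne, hξ'⟩ := h2
  have hs := sum_two (fun k => x k * x k) hne.symm
  rw [h.gxx] at hs
  have hnn : 0 ≤ ∑ k ∈ (univ.erase ξ).erase ξ', x k * x k := Finset.sum_nonneg fun k _ => mul_self_nonneg _
  have ge1 : ∀ w : ℤ, w ≠ 0 → 1 ≤ w * w := fun w hw => by
    have : 0 < w * w := mul_self_pos.2 hw
    omega
  have g1 := ge1 _ hξ
  have g2 := ge1 _ hξ'
  have e1 : x ξ * x ξ = 1 := by omega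
  have e2 : x ξ' * x ξ' = 1 := by omega
  have e3 : ∑ k ∈ (univ.erase ξ).erase ξ', x k * x k = 0 := by omega
  have hz : ∀ j, j ≠ ξ → j ≠ ξ' → x j = 0 := fun j h1 h2 => by
    have := (Finset.sum_eq_zero_iff_of_nonneg fun k _ => mul_self_nonneg _).1 e3 j
      (mem_erase.2 ⟨h2, mem_erase.2 ⟨h1, mem_univ j⟩⟩)
    exact mul_self_eq_zero.1 this
  have hd := sum_two (fun k => (d k : ℤ) * x k) hne.symm
  have e4 : ∑ k ∈ (univ.erase ξ).erase ξ', (d k : ℤ) * x k = 0 := Finset.sum_eq_zero fun k hk => by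
    have hk' := mem_erase.1 hk
    rw [hz k (ne_of_mem_erase hk'.2) hk'.1, mul_zero]
  rw [h.dx, e4, add_zero] at hd
  rcases mul_self_eq_one_iff.1 e1 with a1 | a1 <;> rcases mul_self_eq_one_iff.1 e2 with a2 | a2 <;>
    rw [a1, a2] at hd
  · exfalso
    have := h.d_pos ξ
    have := h.d_pos ξ'
    omega
  · refine ⟨ξ, ξ', hne.symm, Or.inl a1, by omega, by omega, hz⟩
  · refine ⟨ξ, ξ', hne.symm, Or.inr a1, by omega, by omega, hz⟩
  · exfalso
    have := h.d_pos ξ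
    have := h.d_pos ξ'
    omega

omit h in
lemma col_eq {w x : ι → ℤ} (hw : ∑ j, w j * x j = 0) {ξ ξ' : ι} (hne : ξ ≠ ξ') (hx : x ξ = 1 ∨ x ξ = -1)
    (hx' : x ξ' = - x ξ) (hz : ∀ j, j ≠ ξ → j ≠ ξ' → x j = 0) : w ξ' = w ξ := by
  have hd := sum_two (fun k => w k * x k) hne
  have e4 : ∑ k ∈ (univ.erase ξ).erase ξ', w k * x k = 0 := Finset.sum_eq_zero fun k hk => by
    have hk' := mem_erase.1 hk
    rw [hz k (ne_of_mem_erase hk'.2) hk'.1, mul_zero]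
  rw [hw, e4, add_zero] at hd
  rw [hx'] at hd
  rcases hx with hx | hx <;> rw [hx] at hd <;> omega

/-- The combination of the count sums which isolates `x`. -/
lemma sum_x : ∑ j, ((Q (z j) (y j) (t j) (x j) : ℤ) : ℚ) ^ 2 * (x j : ℚ) / (d j : ℚ) = 0 := by
  have : ∀ j, ((Q (z j) (y j) (t j) (x j) : ℤ) : ℚ) ^ 2 * (x j : ℚ) / (d j : ℚ) =
      (1 / 15 : ℚ) * (((Q (z j) (y j) (t j) (x j) : ℤ) : ℚ) ^ 2 * ((Q (z j) (y j) (t j) (x j) : ℤ) : ℚ) / (d j : ℚ))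
      + (1 / 3 : ℚ) * (((Q (z j) (y j) (t j) (x j) : ℤ) : ℚ) ^ 2 * ((V (z j) (y j) (t j) (x j) : ℤ) : ℚ) / (d j : ℚ))
      + (-2 / 5 : ℚ) * (((Q (z j) (y j) (t j) (x j) : ℤ) : ℚ) ^ 2 * ((Aa (z j) (y j) (t j) (x j) : ℤ) : ℚ) / (d j : ℚ))
      + (-1 / 5 : ℚ) * (((Q (z j) (y j) (t j) (x j) : ℤ) : ℚ) ^ 2 * ((Bb (y j) (t j) : ℤ) : ℚ) / (d j : ℚ)) := by
    intro j
    have e : (x j : ℚ) = (1 / 15 : ℚ) * ((Q (z j) (y j) (t j) (x j) : ℤ) : ℚ) + (1 / 3 : ℚ) * ((V (z j) (y j) (t j) (x j) : ℤ) : ℚ)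
        + (-2 / 5 : ℚ) * ((Aa (z j) (y j) (t j) (x j) : ℤ) : ℚ) + (-1 / 5 : ℚ) * ((Bb (y j) (t j) : ℤ) : ℚ) := by
      simp only [Q, V, Aa, Bb]
      push_cast
      ring
    rw [e]
    generalize ((Q (z j) (y j) (t j) (x j) : ℤ) : ℚ) = a1
    generalize ((V (z j) (y j) (t j) (x j) : ℤ) : ℚ) = a2
    generalize ((Aa (z j) (y j) (t j) (x j) : ℤ) : ℚ) = a3
    generalize ((Bb (y j) (t j) : ℤ) : ℚ) = a4
    ring
  rw [Finset.sum_congr rfl fun j _ => this j]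
  simp only [Finset.sum_add_distrib, ← Finset.mul_sum]
  rw [h.cq, h.cv, h.ca, h.cb]
  ring

/-- The two rows on which `x` does not vanish. -/
lemma x_rows : ∃ ξ ξ', ξ ≠ ξ' ∧ (x ξ = 1 ∨ x ξ = -1) ∧ x ξ' = - x ξ ∧ d ξ' = d ξ ∧
    (∀ j, j ≠ ξ → j ≠ ξ' → x j = 0) ∧ z ξ = 0 ∧ y ξ = 0 ∧ t ξ = 0 ∧ z ξ' = 0 ∧ y ξ' = 0 ∧ t ξ' = 0 := by
  obtain ⟨ξ, ξ', hne, hx, hx', hd, hz⟩ := x_rows₀ h
  have ez := col_eq h.gzx hne hx hx' hz
  have ey := col_eq h.gyx hne hx hx' hz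
  have et := col_eq h.gtx hne hx hx' hz
  have hs := sum_two (fun j => ((Q (z j) (y j) (t j) (x j) : ℤ) : ℚ) ^ 2 * (x j : ℚ) / (d j : ℚ)) hne
  rw [sum_x h] at hs
  have e4 : ∑ k ∈ (univ.erase ξ).erase ξ', ((Q (z k) (y k) (t k) (x k) : ℤ) : ℚ) ^ 2 * (x k : ℚ) / (d k : ℚ) = 0 :=
    Finset.sum_eq_zero fun k hk => by
      have hk' := mem_erase.1 hk
      rw [hz k (ne_of_mem_erase hk'.2) hk'.1]
      simp
  rw [e4, add_zero] at hs
  rw [hd, hx', ez, ey, et] at hs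
  have hd0 : (d ξ : ℚ) ≠ 0 := by exact_mod_cast (h.d_pos ξ).ne'
  have hq0 : z ξ - 3 * y ξ - 2 * t ξ = 0 := by
    have hxq : (x ξ : ℚ) ≠ 0 := by
      rcases hx with hx | hx <;> rw [hx] <;> norm_num
    have hc : ((Q (z ξ) (y ξ) (t ξ) (x ξ) : ℤ) : ℚ) ^ 2 = ((Q (z ξ) (y ξ) (t ξ) (-x ξ) : ℤ) : ℚ) ^ 2 := by
      push_cast at hs
      field_simp at hs
      have h5 := (mul_eq_zero.1 (show (x ξ : ℚ) * (((Q (z ξ) (y ξ) (t ξ) (x ξ) : ℤ) : ℚ) ^ 2 + -((Q (z ξ) (y ξ) (t ξ) (-x ξ) : ℤ) : ℚ) ^ 2) = 0 by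
        rw [← hs]; ring)).resolve_left hxq
      linarith
    have hc' : (Q (z ξ) (y ξ) (t ξ) (x ξ)) ^ 2 = (Q (z ξ) (y ξ) (t ξ) (-x ξ)) ^ 2 := by exact_mod_cast hc
    simp only [Q] at hc'
    have : 16 * (z ξ - 3 * y ξ - 2 * t ξ) * x ξ = 0 := by nlinarith
    have hxn : x ξ ≠ 0 := by
      rcases hx with hx | hx <;> rw [hx] <;> norm_num
    have h16 := (mul_eq_zero.1 this).resolve_right hxn
    omega
  have hp := pat_spec (adm h ξ)
  obtain ⟨h0, h1, h2⟩ := hp.2.2.2.2.2.2 (hp.2.2.2.2.2.1 hq0)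
  refine ⟨ξ, ξ', hne, hx, hx', hd, hz, h0, h1, h2, by rw [ez, h0], by rw [ey, h1], by rw [et, h2]⟩

/-- The value on `t` attached to a pattern. -/
def qk (k : ℕ) : ℤ := pz k - 3 * py k - 2 * pt k

/-- The signed degree sum of a fiber. -/
def S (d : ι → ℕ) (z y t : ι → ℤ) (k : ℕ) : ℤ := ∑ j ∈ F z y t k, ε z y t j * (d j : ℤ)
/-- The signed reciprocal degree sum of a fiber. -/
def T (d : ι → ℕ) (z y t : ι → ℤ) (k : ℕ) : ℚ := ∑ j ∈ F z y t k, (ε z y t j : ℚ) / (d j : ℚ)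

lemma row_pat (j : ι) : z j = ε z y t j * pz (pc z y t j) ∧ y j = ε z y t j * py (pc z y t j) ∧
    t j = ε z y t j * pt (pc z y t j) ∧ pc z y t j < 8 ∧ (pc z y t j ≠ 0 → ε z y t j = 1 ∨ ε z y t j = -1) := by
  have := pat_spec (adm h j)
  exact ⟨this.1, this.2.1, this.2.2.1, this.2.2.2.1, this.2.2.2.2.1⟩

lemma pat_zero {j : ι} (hj : pc z y t j = 0) : z j = 0 ∧ y j = 0 ∧ t j = 0 :=
  (pat_spec (adm h j)).2.2.2.2.2.2 hj

omit h in
lemma sum_fib {M : Type*} [AddCommMonoid M] (hlt : ∀ j, pc z y t j < 8) (f : ι → M) :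
    ∑ j, f j = ∑ k ∈ range 8, ∑ j ∈ F z y t k, f j := by
  rw [← Finset.sum_fiberwise_of_maps_to (s := univ) (t := range 8) (g := pc z y t)
    (fun j _ => mem_range.2 (hlt j))]
  rfl

lemma sum_S (α β γ : ℤ) : ∑ j, (d j : ℤ) * (α * z j + β * y j + γ * t j) =
    ∑ k ∈ range 8, (α * pz k + β * py k + γ * pt k) * S d z y t k := by
  rw [sum_fib (fun j => (row_pat h j).2.2.2.1)]
  refine Finset.sum_congr rfl fun k _ => ?_
  rw [S, Finset.mul_sum]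
  refine Finset.sum_congr rfl fun j hj => ?_
  have hjk := mem_F.1 hj
  obtain ⟨e1, e2, e3, -, -⟩ := row_pat h j
  rw [hjk] at e1 e2 e3
  rw [e1, e2, e3]
  ring

lemma sum_T (α β γ : ℤ) : ∑ j, ((z j - 3 * y j - 2 * t j : ℤ) : ℚ) ^ 2 * ((α * z j + β * y j + γ * t j : ℤ) : ℚ) / (d j : ℚ) =
    ∑ k ∈ range 8, ((qk k : ℤ) : ℚ) ^ 2 * ((α * pz k + β * py k + γ * pt k : ℤ) : ℚ) * T d z y t k := by
  rw [sum_fib (fun j => (row_pat h j).2.2.2.1)]
  refine Finset.sum_congr rfl fun k _ => ?_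
  rw [T, Finset.mul_sum]
  refine Finset.sum_congr rfl fun j hj => ?_
  have hjk := mem_F.1 hj
  obtain ⟨e1, e2, e3, -, e5⟩ := row_pat h j
  rw [hjk] at e1 e2 e3 e5
  by_cases hk : k = 0
  · subst hk
    obtain ⟨a1, a2, a3⟩ := pat_zero h hjk
    rw [a1, a2, a3]
    simp [qk, pz, py, pt]
  · have hε : ((ε z y t j : ℤ) : ℚ) * (ε z y t j : ℤ) = 1 := by
      rcases e5 hk with e | e <;> rw [e] <;> norm_num
    rw [e1, e2, e3]
    simp only [qk]
    push_cast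
    generalize ((ε z y t j : ℤ) : ℚ) = E at hε
    have : (E * (pz k : ℚ) - 3 * (E * (py k : ℚ)) - 2 * (E * (pt k : ℚ))) ^ 2 =
        ((pz k : ℚ) - 3 * (py k : ℚ) - 2 * (pt k : ℚ)) ^ 2 := by
      linear_combination ((pz k : ℚ) - 3 * (py k : ℚ) - 2 * (pt k : ℚ)) ^ 2 * hε
    rw [this]
    ring

/-- Removing the two `x`-rows from the count sums. -/
lemma reduce (α β γ δ : ℤ) :
    ∑ j, ((Q (z j) (y j) (t j) (x j) : ℤ) : ℚ) ^ 2 * ((α * z j + β * y j + γ * t j + δ * x j : ℤ) : ℚ) / (d j : ℚ) =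
    ∑ j, ((z j - 3 * y j - 2 * t j : ℤ) : ℚ) ^ 2 * ((α * z j + β * y j + γ * t j : ℤ) : ℚ) / (d j : ℚ) := by
  obtain ⟨ξ, ξ', hne, hx, hx', hd, hz, a1, a2, a3, a4, a5, a6⟩ := x_rows h
  rw [sum_two _ hne, sum_two (fun j => ((z j - 3 * y j - 2 * t j : ℤ) : ℚ) ^ 2 * ((α * z j + β * y j + γ * t j : ℤ) : ℚ) / (d j : ℚ)) hne]
  have e : ∑ j ∈ (univ.erase ξ).erase ξ', ((Q (z j) (y j) (t j) (x j) : ℤ) : ℚ) ^ 2 * ((α * z j + β * y j + γ * t j + δ * x j : ℤ) : ℚ) / (d j : ℚ) =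
      ∑ j ∈ (univ.erase ξ).erase ξ', ((z j - 3 * y j - 2 * t j : ℤ) : ℚ) ^ 2 * ((α * z j + β * y j + γ * t j : ℤ) : ℚ) / (d j : ℚ) := by
    refine Finset.sum_congr rfl fun k hk => ?_
    have hk' := mem_erase.1 hk
    rw [hz k (ne_of_mem_erase hk'.2) hk'.1]
    simp [Q]
  rw [e, a1, a2, a3, a4, a5, a6, hd, hx']
  simp only [Q]
  push_cast
  ring

lemma S_eqs : S d z y t 1 + S d z y t 4 + S d z y t 5 + S d z y t 7 = 0 ∧
    S d z y t 2 + S d z y t 4 + S d z y t 6 - S d z y t 7 = 0 ∧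
    S d z y t 3 - S d z y t 5 + S d z y t 6 - S d z y t 7 = 0 := by
  have h1 := sum_S h 1 0 0
  have h2 := sum_S h 0 1 0
  have h3 := sum_S h 0 0 1
  simp only [one_mul, zero_mul, add_zero, zero_add, h.dz, h.dy, h.dt] at h1 h2 h3
  simp only [Finset.sum_range_succ, Finset.sum_range_zero, pz, py, pt] at h1 h2 h3
  refine ⟨?_, ?_, ?_⟩ <;> omega

lemma T_eqs : T d z y t 1 + 4 * T d z y t 3 + 4 * T d z y t 4 + 25 * T d z y t 6 = 720 / (I : ℚ) ∧
    T d z y t 1 - 9 * T d z y t 2 + 4 * T d z y t 3 + 36 * T d z y t 7 = 1200 / (I : ℚ) ∧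
    9 * T d z y t 2 - 4 * T d z y t 3 + 4 * T d z y t 4 + 9 * T d z y t 5 = 0 := by
  have h1 := (reduce h 1 0 1 1).symm.trans ((Finset.sum_congr rfl fun j _ => by
    simp only [V]; congr 3; ring).trans h.cv)
  have h2 := (reduce h 1 (-1) 1 (-1)).symm.trans ((Finset.sum_congr rfl fun j _ => by
    simp only [Aa]; congr 3; ring).trans h.ca)
  have h3 := (reduce h 0 1 (-1) 0).symm.trans ((Finset.sum_congr rfl fun j _ => by
    simp only [Bb]; congr 3; ring).trans h.cb)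
  rw [sum_T h] at h1 h2 h3
  simp only [Finset.sum_range_succ, Finset.sum_range_zero, pz, py, pt, qk] at h1 h2 h3
  push_cast at h1 h2 h3
  refine ⟨?_, ?_, ?_⟩
  · linarith
  · linarith
  · linarith

/-- Signed degree. -/
def Dd (d : ι → ℕ) (z y t : ι → ℤ) (j : ι) : ℤ := ε z y t j * (d j : ℤ)

lemma x_zero {j : ι} (hj : pc z y t j ≠ 0) : x j = 0 := by
  obtain ⟨ξ, ξ', hne, hx, hx', hd, hz, a1, a2, a3, a4, a5, a6⟩ := x_rows h
  by_contra hc
  apply hj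
  by_cases h1 : j = ξ
  · subst h1
    rw [pc, a1, a2, a3]
    rfl
  · by_cases h2 : j = ξ'
    · subst h2
      rw [pc, a4, a5, a6]
      rfl
    · exact absurd (hz j h1 h2) hc

lemma eps_unit {j : ι} (hj : pc z y t j ≠ 0) : ε z y t j = 1 ∨ ε z y t j = -1 :=
  (row_pat h j).2.2.2.2 hj

lemma Q_fib {j : ι} (hj : pc z y t j ≠ 0) :
    Q (z j) (y j) (t j) (x j) = ε z y t j * qk (pc z y t j) := by
  obtain ⟨e1, e2, e3, -, -⟩ := row_pat h j
  rw [x_zero h hj]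
  conv_lhs => rw [e1, e2, e3]
  simp only [Q, qk]
  ring

lemma D_mod {j : ι} (hj : pc z y t j ≠ 0) : (8 : ℤ) ∣ Dd d z y t j - qk (pc z y t j) := by
  obtain ⟨c, hc⟩ := h.mod8 j
  rw [Q_fib h hj] at hc
  refine ⟨ε z y t j * c, ?_⟩
  rcases eps_unit h hj with e | e <;> rw [Dd, e] <;> rw [e] at hc <;> linarith

lemma D_ne {j : ι} (hj : pc z y t j ≠ 0) : Dd d z y t j ≠ 0 := by
  have := h.d_pos j
  rcases eps_unit h hj with e | e <;> rw [Dd, e] <;> omega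

lemma D_abs {j : ι} (hj : pc z y t j ≠ 0) : Dd d z y t j = d j ∨ Dd d z y t j = -(d j : ℤ) := by
  rcases eps_unit h hj with e | e <;> rw [Dd, e] <;> omega

lemma eps_div {j : ι} (hj : pc z y t j ≠ 0) :
    (ε z y t j : ℚ) / (d j : ℚ) = 1 / ((Dd d z y t j : ℤ) : ℚ) := by
  have hd : (d j : ℚ) ≠ 0 := by exact_mod_cast (h.d_pos j).ne'
  rcases eps_unit h hj with e | e <;> rw [Dd, e] <;> push_cast <;> field_simp

omit h in
lemma S_one {k : ℕ} {a : ι} (hF : F z y t k = {a}) : S d z y t k = Dd d z y t a := by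
  rw [S, hF, Finset.sum_singleton, Dd]

lemma T_one {k : ℕ} (hk : k ≠ 0) {a : ι} (hF : F z y t k = {a}) : T d z y t k = 1 / ((Dd d z y t a : ℤ) : ℚ) := by
  have : pc z y t a = k := mem_F.1 (by rw [hF]; simp)
  rw [T, hF, Finset.sum_singleton, eps_div h (by omega)]

omit h in
lemma S_two {k : ℕ} {a b : ι} (hab : a ≠ b) (hF : F z y t k = {a, b}) :
    S d z y t k = Dd d z y t a + Dd d z y t b := by
  rw [S, hF, Finset.sum_pair hab, Dd, Dd]

lemma T_two {k : ℕ} (hk : k ≠ 0) {a b : ι} (hab : a ≠ b) (hF : F z y t k = {a, b}) :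
    T d z y t k = 1 / ((Dd d z y t a : ℤ) : ℚ) + 1 / ((Dd d z y t b : ℤ) : ℚ) := by
  have h1 : pc z y t a = k := mem_F.1 (by rw [hF]; simp)
  have h2 : pc z y t b = k := mem_F.1 (by rw [hF]; simp)
  rw [T, hF, Finset.sum_pair hab, eps_div h (by omega), eps_div h (by omega)]

lemma d_sq_le (j : ι) : (d j) ^ 2 ≤ 120 * I := by
  rw [← h.sq]
  exact Finset.single_le_sum (f := fun j => (d j) ^ 2) (fun _ _ => Nat.zero_le _) (mem_univ j)

/-- Galois conjugate of a row of pattern 3. -/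
lemma gal3 {j : ι} (hj : pc z y t j = 3) : ∃ j', pc z y t j' = 4 ∧ Dd d z y t j' = Dd d z y t j := by
  obtain ⟨j', hd, e1, e2, e3, e4⟩ := h.gal j
  have hne : pc z y t j ≠ 0 := by omega
  have hx := x_zero h hne
  obtain ⟨a1, a2, a3, -, -⟩ := row_pat h j
  have hε := eps_unit h hne
  rw [hj] at a1 a2 a3
  simp only [pz, py, pt, mul_zero, mul_one] at a1 a2 a3
  simp only [Q, V, Aa, Bb, a1, a2, a3, hx] at e1 e2 e3 e4
  refine ⟨j', ?_, ?_⟩
  · rcases hε with e | e <;> rw [e] at e1 e2 e3 e4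
    · have b1 : z j' = 1 := by omega
      have b2 : y j' = 1 := by omega
      have b3 : t j' = 0 := by omega
      rw [pc, b1, b2, b3]; rfl
    · have b1 : z j' = -1 := by omega
      have b2 : y j' = -1 := by omega
      have b3 : t j' = 0 := by omega
      rw [pc, b1, b2, b3]; rfl
  · rw [Dd, Dd, hd]
    congr 1
    rcases hε with e | e <;> rw [e] at e1 e2 e3 e4 <;> rw [e]
    · have b1 : z j' = 1 := by omega
      have b2 : y j' = 1 := by omega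
      have b3 : t j' = 0 := by omega
      rw [ε, b1, b2, b3]; rfl
    · have b1 : z j' = -1 := by omega
      have b2 : y j' = -1 := by omega
      have b3 : t j' = 0 := by omega
      rw [ε, b1, b2, b3]; rfl

/-- Galois conjugate of a row of pattern 2. -/
lemma gal2 {j : ι} (hj : pc z y t j = 2) : ∃ j', pc z y t j' = 5 ∧ Dd d z y t j' = - Dd d z y t j := by
  obtain ⟨j', hd, e1, e2, e3, e4⟩ := h.gal j
  have hne : pc z y t j ≠ 0 := by omega
  have hx := x_zero h hne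
  obtain ⟨a1, a2, a3, -, -⟩ := row_pat h j
  have hε := eps_unit h hne
  rw [hj] at a1 a2 a3
  simp only [pz, py, pt, mul_zero, mul_one] at a1 a2 a3
  simp only [Q, V, Aa, Bb, a1, a2, a3, hx] at e1 e2 e3 e4
  refine ⟨j', ?_, ?_⟩
  · rcases hε with e | e <;> rw [e] at e1 e3 e4
    · have b1 : z j' = -1 := by omega
      have b2 : y j' = 0 := by omega
      have b3 : t j' = 1 := by omega
      rw [pc, b1, b2, b3]; rfl
    · have b1 : z j' = 1 := by omega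
      have b2 : y j' = 0 := by omega
      have b3 : t j' = -1 := by omega
      rw [pc, b1, b2, b3]; rfl
  · rw [Dd, Dd, hd, ← neg_mul]
    congr 1
    rcases hε with e | e <;> rw [e] at e1 e3 e4 <;> rw [e]
    · have b1 : z j' = -1 := by omega
      have b2 : y j' = 0 := by omega
      have b3 : t j' = 1 := by omega
      rw [ε, b1, b2, b3]; rfl
    · have b1 : z j' = 1 := by omega
      have b2 : y j' = 0 := by omega
      have b3 : t j' = -1 := by omega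
      rw [ε, b1, b2, b3]; rfl

lemma case_one (h7 : (F z y t 7).card = 1) : False := by
  obtain ⟨c1, c2, c3, c4, c5, c6⟩ := counts h
  rw [h7] at c1 c2 c3 c4 c5 c6
  have n4 : (F z y t 4).card = 1 := by omega
  have n5 : (F z y t 5).card = 1 := by omega
  have n6 : (F z y t 6).card = 1 := by omega
  have n1 : (F z y t 1).card = 1 := by omega
  have n2 : (F z y t 2).card = 1 := by omega
  have n3 : (F z y t 3).card = 1 := by omega
  obtain ⟨j1, f1⟩ := Finset.card_eq_one.1 n1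
  obtain ⟨j2, f2⟩ := Finset.card_eq_one.1 n2
  obtain ⟨j3, f3⟩ := Finset.card_eq_one.1 n3
  obtain ⟨j4, f4⟩ := Finset.card_eq_one.1 n4
  obtain ⟨j5, f5⟩ := Finset.card_eq_one.1 n5
  obtain ⟨j6, f6⟩ := Finset.card_eq_one.1 n6
  obtain ⟨j7, f7⟩ := Finset.card_eq_one.1 h7
  have hj1 : j1 = i₀ := by
    have := i₀_mem h
    rw [f1] at this
    exact (Finset.mem_singleton.1 this).symm
  subst hj1
  have p2 : pc z y t j2 = 2 := mem_F.1 (by rw [f2]; simp)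
  have p3 : pc z y t j3 = 3 := mem_F.1 (by rw [f3]; simp)
  have p6 : pc z y t j6 = 6 := mem_F.1 (by rw [f6]; simp)
  have p7 : pc z y t j7 = 7 := mem_F.1 (by rw [f7]; simp)
  obtain ⟨j4', p4', e4⟩ := gal3 h p3
  have : j4' = j4 := Finset.mem_singleton.1 (by rw [← f4]; exact mem_F.2 p4')
  subst this
  obtain ⟨j5', p5', e5⟩ := gal2 h p2
  have : j5' = j5 := Finset.mem_singleton.1 (by rw [← f5]; exact mem_F.2 p5')
  subst this
  have hone : Dd d z y t j1 = 1 := by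
    rw [Dd, ε, h.z_i₀, h.y_i₀, h.t_i₀, h.d_i₀]
    rfl
  obtain ⟨s1, s2, s3⟩ := S_eqs h
  obtain ⟨t1, t2, t3⟩ := T_eqs h
  simp only [S_one f1, S_one f2, S_one f3, S_one f4, S_one f5, S_one f6, S_one f7, e4, e5, hone] at s1 s2 s3
  rw [T_one h (by norm_num) f1, T_one h (by norm_num) f3, T_one h (by norm_num) f4, T_one h (by norm_num) f6, e4, hone] at t1
  rw [T_one h (by norm_num) f1, T_one h (by norm_num) f2, T_one h (by norm_num) f3, T_one h (by norm_num) f7, hone] at t2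
  have m3 := D_mod h (j := j3) (by omega)
  have m2 := D_mod h (j := j2) (by omega)
  rw [p3] at m3
  rw [p2] at m2
  have q3 : qk 3 = -2 := by decide
  have q2 : qk 2 = -3 := by decide
  rw [q3] at m3
  rw [q2] at m2
  have ne3 := D_ne h (j := j3) (by omega)
  have ne2 := D_ne h (j := j2) (by omega)
  have ne6 := D_ne h (j := j6) (by omega)
  have ne7 := D_ne h (j := j7) (by omega)
  have ab3 := D_abs h (j := j3) (by omega)
  have ab2 := D_abs h (j := j2) (by omega)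
  have sq3 := d_sq_le h j3
  have sq2 := d_sq_le h j2
  generalize Dd d z y t j3 = g at *
  generalize Dd d z y t j2 = f at *
  generalize hD6 : Dd d z y t j6 = D6 at *
  generalize hD7 : Dd d z y t j7 = D7 at *
  have e6 : D6 = -2 * g - 1 := by omega
  have e7 : D7 = f - g - 1 := by omega
  have gm : g % 8 = 6 := by omega
  have fm : f % 8 = 5 := by omega
  have hI0 : (I : ℚ) ≠ 0 := by exact_mod_cast h.Ipos.ne'
  have hG : (g : ℚ) ≠ 0 := by exact_mod_cast ne3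
  have hF : (f : ℚ) ≠ 0 := by exact_mod_cast ne2
  have h6 : (2 * (g : ℚ) + 1) ≠ 0 := by
    have : (2 * g + 1 : ℤ) ≠ 0 := by omega
    exact_mod_cast this
  have h7' : ((f : ℚ) - g - 1) ≠ 0 := by
    have : (f - g - 1 : ℤ) ≠ 0 := by omega
    exact_mod_cast this
  subst e6 e7
  push_cast at t1 t2
  have h6' : (-2 * (g : ℚ) - 1) = -(2 * (g : ℚ) + 1) := by ring
  rw [h6'] at t1
  have P1q := one_P1 hI0 hG h6 t1
  have P1 : (I : ℤ) * (g - 2) ^ 2 = 360 * g * (2 * g + 1) := by exact_mod_cast P1q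
  have hI : (I : ℤ) ≤ 1755 := bound_I gm P1
  have hI' : I ≤ 1755 := by exact_mod_cast hI
  have bd : ∀ w : ℕ, w ^ 2 ≤ 120 * I → w ≤ 458 := by
    intro w hw
    by_contra hc
    have : 459 ≤ w := by omega
    have : 459 ^ 2 ≤ w ^ 2 := Nat.pow_le_pow_left this 2
    omega
  have b3 := bd _ sq3
  have b2 := bd _ sq2
  have P2q := one_P2 hI0 hG hF h6 h7' P1q t2
  have P2 : 3 * (2 * g + 1) * (g * f * (f - g - 1) - 9 * g * (f - g - 1) + 4 * f * (f - g - 1) + 36 * g * f) =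
      10 * ((g - 2) * (g - 2)) * f * (f - g - 1) := by exact_mod_cast P2q
  obtain ⟨i1, hi1, hi1'⟩ : ∃ i : ℕ, i < 115 ∧ g = 8 * (i : ℤ) - 458 :=
    ⟨((g + 458) / 8).toNat, by omega, by omega⟩
  obtain ⟨i2, hi2, hi2'⟩ : ∃ i : ℕ, i < 115 ∧ f = 8 * (i : ℤ) - 459 :=
    ⟨((f + 459) / 8).toNat, by omega, by omega⟩
  have := no_sol i1 hi1 i2 hi2
  rw [← hi1', ← hi2', eqnB, decide_eq_false_iff_not] at this
  exact this P2

omit h in
lemma S_empty {k : ℕ} (hF : F z y t k = ∅) : S d z y t k = 0 := by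
  rw [S, hF, Finset.sum_empty]

omit h in
lemma T_empty {k : ℕ} (hF : F z y t k = ∅) : T d z y t k = 0 := by
  rw [T, hF, Finset.sum_empty]

lemma case_zero (h7 : (F z y t 7).card = 0) : I = 1463 ∨ (I = 1575 ∧ ∃ ρ ξ ξ' κ, ρ ≠ i₀ ∧ d ρ = 15 ∧ z ρ = -1 ∧ y ρ = 0 ∧ t ρ = 0 ∧ x ρ = 0 ∧
      d κ = 21 ∧ Q (z κ) (y κ) (t κ) (x κ) = 5 ∧ ξ ≠ ξ' ∧ (x ξ = 1 ∨ x ξ = -1) ∧ x ξ' = - x ξ ∧ d ξ' = d ξ ∧
      z ξ = 0 ∧ y ξ = 0 ∧ t ξ = 0 ∧ z ξ' = 0 ∧ y ξ' = 0 ∧ t ξ' = 0 ∧ (∀ j, j ≠ ξ → j ≠ ξ' → x j = 0) ∧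
      (∀ j, j ≠ i₀ → j ≠ ρ → j ≠ ξ → j ≠ ξ' → 7 ∣ d j ∨ Q (z j) (y j) (t j) (x j) = 0) ∧
      (∀ j, z j ≠ 0 → j = i₀ ∨ j = ρ ∨ 7 ∣ d j)) := by
  obtain ⟨c1, c2, c3, c4, c5, c6⟩ := counts h
  rw [h7] at c1 c2 c3 c4 c5 c6
  have n4 : (F z y t 4).card = 0 := by omega
  have n5 : (F z y t 5).card = 2 := by omega
  have n6 : (F z y t 6).card = 2 := by omega
  have n1 : (F z y t 1).card = 2 := by omega
  have n2 : (F z y t 2).card = 2 := by omega
  have n3 : (F z y t 3).card = 0 := by omega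
  have f3 := Finset.card_eq_zero.1 n3
  have f4 := Finset.card_eq_zero.1 n4
  have f7 := Finset.card_eq_zero.1 h7
  obtain ⟨ρ, hρ, f1⟩ : ∃ ρ, i₀ ≠ ρ ∧ F z y t 1 = {i₀, ρ} := by
    obtain ⟨u, v, huv, f1⟩ := Finset.card_eq_two.1 n1
    have := i₀_mem h
    rw [f1] at this
    rcases Finset.mem_insert.1 this with e | e
    · subst e
      exact ⟨v, huv, f1⟩
    · have e' := Finset.mem_singleton.1 e
      subst e'
      exact ⟨u, huv.symm, by rw [f1, Finset.pair_comm]⟩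
  obtain ⟨b1, b2, hb, f2⟩ := Finset.card_eq_two.1 n2
  obtain ⟨g1, g2, hg, f5⟩ := Finset.card_eq_two.1 n5
  obtain ⟨a1, a2, ha, f6⟩ := Finset.card_eq_two.1 n6
  clear c1 c2 c3 c4 c5 c6 n1 n2 n3 n4 n5 n6 h7
  have pρ : pc z y t ρ = 1 := mem_F.1 (by rw [f1]; simp)
  have pb1 : pc z y t b1 = 2 := mem_F.1 (by rw [f2]; simp)
  have pb2 : pc z y t b2 = 2 := mem_F.1 (by rw [f2]; simp)
  have pg1 : pc z y t g1 = 5 := mem_F.1 (by rw [f5]; simp)
  have pg2 : pc z y t g2 = 5 := mem_F.1 (by rw [f5]; simp)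
  have pa1 : pc z y t a1 = 6 := mem_F.1 (by rw [f6]; simp)
  have pa2 : pc z y t a2 = 6 := mem_F.1 (by rw [f6]; simp)
  have hone : Dd d z y t i₀ = 1 := by
    rw [Dd, ε, h.z_i₀, h.y_i₀, h.t_i₀, h.d_i₀]
    rfl
  obtain ⟨s1, s2, s3⟩ := S_eqs h
  obtain ⟨t1, t2, t3⟩ := T_eqs h
  simp only [S_two hρ f1, S_two hb f2, S_two hg f5, S_two ha f6, S_empty f3, S_empty f4, S_empty f7, hone] at s1 s2 s3
  rw [T_two h (by norm_num) hρ f1, T_two h (by norm_num) ha f6, T_empty f3, T_empty f4, hone] at t1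
  rw [T_two h (by norm_num) hρ f1, T_two h (by norm_num) hb f2, T_empty f3, T_empty f7, hone] at t2
  rw [T_two h (by norm_num) hb f2, T_two h (by norm_num) hg f5, T_empty f3, T_empty f4] at t3
  have qq1 : qk 1 = 1 := by decide
  have qq2 : qk 2 = -3 := by decide
  have qq5 : qk 5 = 3 := by decide
  have qq6 : qk 6 = -5 := by decide
  have mρ := D_mod h (j := ρ) (by omega)
  have mb1 := D_mod h (j := b1) (by omega)
  have mb2 := D_mod h (j := b2) (by omega)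
  have mg1 := D_mod h (j := g1) (by omega)
  have mg2 := D_mod h (j := g2) (by omega)
  have ma1 := D_mod h (j := a1) (by omega)
  have ma2 := D_mod h (j := a2) (by omega)
  rw [pρ, qq1] at mρ
  rw [pb1, qq2] at mb1
  rw [pb2, qq2] at mb2
  rw [pg1, qq5] at mg1
  rw [pg2, qq5] at mg2
  rw [pa1, qq6] at ma1
  rw [pa2, qq6] at ma2
  have aρ := D_abs h (j := ρ) (by omega)
  have ab1 := D_abs h (j := b1) (by omega)
  have ab2 := D_abs h (j := b2) (by omega)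
  have ag1 := D_abs h (j := g1) (by omega)
  have ag2 := D_abs h (j := g2) (by omega)
  have aa1 := D_abs h (j := a1) (by omega)
  have aa2 := D_abs h (j := a2) (by omega)
  have hdρ := h.d_pos ρ
  have hρ1 : d ρ ≠ 1 := fun e => hρ (h.d_one ρ e).symm
  have hερ := eps_unit h (j := ρ) (by omega)
  have hQρ := Q_fib h (j := ρ) (by omega)
  rw [pρ, qq1, mul_one] at hQρ
  have hdvd := h.dvd ρ (by rw [hQρ]; exact hερ)
  have hdvd' : Dd d z y t ρ ∣ (I : ℤ) := by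
    rcases aρ with e | e
    · rw [e]; exact hdvd
    · rw [e]; exact (neg_dvd).2 hdvd
  obtain ⟨M, hM⟩ := hdvd'
  have hIpos : (0 : ℤ) < I := by exact_mod_cast h.Ipos
  have hdρ1 : Dd d z y t ρ ≠ 1 := by
    rcases aρ with e | e <;> rw [e] <;> omega
  have hmain := zero_arith mρ hdρ1 ma1 ma2 mb1 mb2 mg1 mg2
    (by linarith) (by linarith) (by linarith) hM hIpos
    (by push_cast; push_cast at t1; linarith) (by push_cast; push_cast at t2; linarith) (by push_cast; push_cast at t3; linarith)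
  rcases hmain with e | ⟨eI, em, eA, eB, eC⟩
  · left
    exact_mod_cast e
  · right
    have eI' : I = 1575 := by exact_mod_cast eI
    refine ⟨eI', ?_⟩
    clear s1 s2 s3 t1 t2 t3 mρ mb1 mb2 mg1 mg2 ma1 ma2 hM hIpos eI hdvd
    obtain ⟨ξ, ξ', hne, hx, hx', hd, hz, e1, e2, e3, e4, e5, e6⟩ := x_rows h
    have d7 : ∀ (D : ℤ) (n : ℕ), (D = n ∨ D = -(n : ℤ)) → (D = 21 ∨ D = -21 ∨ D = 35 ∨ D = -35) → 7 ∣ n := by
      intro D n h1 h2
      omega
    have db1 : 7 ∣ d b1 := d7 _ _ ab1 (by rcases eB with ⟨e, -⟩ | ⟨e, -⟩ <;> simp [e])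
    have db2 : 7 ∣ d b2 := d7 _ _ ab2 (by rcases eB with ⟨-, e⟩ | ⟨-, e⟩ <;> simp [e])
    have dg1 : 7 ∣ d g1 := d7 _ _ ag1 (by rcases eC with ⟨e, -⟩ | ⟨e, -⟩ <;> simp [e])
    have dg2 : 7 ∣ d g2 := d7 _ _ ag2 (by rcases eC with ⟨-, e⟩ | ⟨-, e⟩ <;> simp [e])
    have da1 : 7 ∣ d a1 := d7 _ _ aa1 (by rcases eA with ⟨e, -⟩ | ⟨e, -⟩ <;> simp [e])
    have da2 : 7 ∣ d a2 := d7 _ _ aa2 (by rcases eA with ⟨-, e⟩ | ⟨-, e⟩ <;> simp [e])
    have hall : ∀ j, pc z y t j ≠ 0 → j = i₀ ∨ j = ρ ∨ 7 ∣ d j := by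
      intro j hj
      have hlt := (row_pat h j).2.2.2.1
      have hcases : pc z y t j = 1 ∨ pc z y t j = 2 ∨ pc z y t j = 3 ∨ pc z y t j = 4 ∨ pc z y t j = 5 ∨
        pc z y t j = 6 ∨ pc z y t j = 7 := by omega
      rcases hcases with hk | hk | hk | hk | hk | hk | hk
      · have hm := mem_F.2 hk
        rw [f1] at hm
        simp only [Finset.mem_insert, Finset.mem_singleton] at hm
        rcases hm with e | e
        · exact Or.inl e
        · exact Or.inr (Or.inl e)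
      · have hm := mem_F.2 hk
        rw [f2] at hm
        simp only [Finset.mem_insert, Finset.mem_singleton] at hm
        right; right
        rcases hm with e | e <;> subst e <;> assumption
      · have hm := mem_F.2 hk
        rw [f3] at hm
        simp at hm
      · have hm := mem_F.2 hk
        rw [f4] at hm
        simp at hm
      · have hm := mem_F.2 hk
        rw [f5] at hm
        simp only [Finset.mem_insert, Finset.mem_singleton] at hm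
        right; right
        rcases hm with e | e <;> subst e <;> assumption
      · have hm := mem_F.2 hk
        rw [f6] at hm
        simp only [Finset.mem_insert, Finset.mem_singleton] at hm
        right; right
        rcases hm with e | e <;> subst e <;> assumption
      · have hm := mem_F.2 hk
        rw [f7] at hm
        simp at hm
    have hdρ15 : d ρ = 15 := by omega
    have hερ' : ε z y t ρ = -1 := by
      rw [Dd, hdρ15] at em
      omega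
    obtain ⟨r1, r2, r3, -, -⟩ := row_pat h ρ
    rw [pρ, hερ'] at r1 r2 r3
    have hκ : ∃ κ, pc z y t κ = 6 ∧ Dd d z y t κ = -21 := by
      rcases eA with ⟨-, e⟩ | ⟨e, -⟩
      · exact ⟨a2, pa2, e⟩
      · exact ⟨a1, pa1, e⟩
    obtain ⟨κ, pκ, eκ⟩ := hκ
    have aκ := D_abs h (j := κ) (by omega)
    have hdκ : d κ = 21 := by omega
    have hεκ : ε z y t κ = -1 := by
      rw [Dd, hdκ] at eκ
      omega
    have hQκ := Q_fib h (j := κ) (by omega)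
    rw [pκ, qq6, hεκ] at hQκ
    refine ⟨ρ, ξ, ξ', κ, hρ.symm, hdρ15, by simpa [pz] using r1, by simpa [py] using r2, by simpa [pt] using r3,
      x_zero h (by omega), hdκ, by rw [hQκ]; norm_num, hne, hx, hx', hd, e1, e2, e3, e4, e5, e6, hz, ?_, ?_⟩
    · intro j h1 h2 h3 h4
      by_cases h0 : pc z y t j = 0
      · right
        obtain ⟨a, b, c⟩ := pat_zero h h0
        rw [a, b, c, hz j h3 h4]
        rfl
      · left
        rcases hall j h0 with e | e | e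
        · exact absurd e h1
        · exact absurd e h2
        · exact e
    · intro j hj
      by_cases h0 : pc z y t j = 0
      · exact absurd (pat_zero h h0).1 hj
      · exact hall j h0

/-- The main result on the table. -/
theorem main : I = 1463 ∨ (I = 1575 ∧ ∃ ρ ξ ξ' κ, ρ ≠ i₀ ∧ d ρ = 15 ∧ z ρ = -1 ∧ y ρ = 0 ∧ t ρ = 0 ∧ x ρ = 0 ∧
      d κ = 21 ∧ Q (z κ) (y κ) (t κ) (x κ) = 5 ∧ ξ ≠ ξ' ∧ (x ξ = 1 ∨ x ξ = -1) ∧ x ξ' = - x ξ ∧ d ξ' = d ξ ∧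
      z ξ = 0 ∧ y ξ = 0 ∧ t ξ = 0 ∧ z ξ' = 0 ∧ y ξ' = 0 ∧ t ξ' = 0 ∧ (∀ j, j ≠ ξ → j ≠ ξ' → x j = 0) ∧
      (∀ j, j ≠ i₀ → j ≠ ρ → j ≠ ξ → j ≠ ξ' → 7 ∣ d j ∨ Q (z j) (y j) (t j) (x j) = 0) ∧
      (∀ j, z j ≠ 0 → j = i₀ ∨ j = ρ ∨ 7 ∣ d j)) := by
  obtain ⟨c1, c2, c3, c4, c5, c6⟩ := counts h
  have h1 : 0 < (F z y t 1).card := Finset.card_pos.2 ⟨i₀, i₀_mem h⟩
  have h7 : (F z y t 7).card = 0 ∨ (F z y t 7).card = 1 := by omega
  rcases h7 with h7 | h7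
  · exact case_zero h h7
  · exact (case_one h h7).elim

end

end Cfsg.Agent.Lib.J1Ord.Tab
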