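import Mathlib
import Cfsg.Agent.Lib.J1Ord.Tab

/-!
# From the Gram matrix of the column values to that of the lattice coordinates
-/

set_option autoImplicit false

namespace Cfsg.Agent.Lib.J1Ord.Tab

open Finset

variable {ι : Type*} [Fintype ι]

/-- The Gram matrix of the column values. -/
structure Gr (q v a b : ι → ℤ) : Prop where
  qq : ∑ j, q j * q j = 120
  vv : ∑ j, v j * v j = 6
  aa : ∑ j, a j * a j = 6
  ab : ∑ j, a j * b j = -2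
  bb : ∑ j, b j * b j = 4
  qv : ∑ j, q j * v j = 0
  qa : ∑ j, q j * a j = 0
  qb : ∑ j, q j * b j = 0
  va : ∑ j, v j * a j = 0
  vb : ∑ j, v j * b j = 0

lemma Gr.master {q v a b : ι → ℤ} (h : Gr q v a b) (α₁ α₂ α₃ α₄ β₁ β₂ β₃ β₄ : ℤ) :
    ∑ j, (α₁ * q j + α₂ * v j + α₃ * a j + α₄ * b j) * (β₁ * q j + β₂ * v j + β₃ * a j + β₄ * b j) =
      120 * α₁ * β₁ + 6 * α₂ * β₂ + 6 * α₃ * β₃ + 4 * α₄ * β₄ - 2 * (α₃ * β₄ + α₄ * β₃) := by
  have : ∀ j, (α₁ * q j + α₂ * v j + α₃ * a j + α₄ * b j) * (β₁ * q j + β₂ * v j + β₃ * a j + β₄ * b j) =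
      (α₁ * β₁) * (q j * q j) + (α₂ * β₂) * (v j * v j) + (α₃ * β₃) * (a j * a j) + (α₄ * β₄) * (b j * b j) +
      (α₃ * β₄ + α₄ * β₃) * (a j * b j) + (α₁ * β₂ + α₂ * β₁) * (q j * v j) + (α₁ * β₃ + α₃ * β₁) * (q j * a j) +
      (α₁ * β₄ + α₄ * β₁) * (q j * b j) + (α₂ * β₃ + α₃ * β₂) * (v j * a j) + (α₂ * β₄ + α₄ * β₂) * (v j * b j) :=
    fun j => by ring
  simp only [this, sum_add_distrib, ← mul_sum]
  rw [h.qq, h.vv, h.aa, h.ab, h.bb, h.qv, h.qa, h.qb, h.va, h.vb]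
  ring

lemma Gr.gram15 {q v a b : ι → ℤ} (h : Gr q v a b) {α₁ α₂ α₃ α₄ β₁ β₂ β₃ β₄ : ℤ} {u w : ι → ℤ}
    (hu : ∀ j, 15 * u j = α₁ * q j + α₂ * v j + α₃ * a j + α₄ * b j)
    (hw : ∀ j, 15 * w j = β₁ * q j + β₂ * v j + β₃ * a j + β₄ * b j) :
    225 * ∑ j, u j * w j = 120 * α₁ * β₁ + 6 * α₂ * β₂ + 6 * α₃ * β₃ + 4 * α₄ * β₄ - 2 * (α₃ * β₄ + α₄ * β₃) := by
  rw [mul_sum, ← h.master]
  refine sum_congr rfl fun j _ => ?_
  rw [← hu, ← hw]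
  ring

/-- The Gram matrix of the lattice coordinates. -/
lemma gram_fields {z y t x : ι → ℤ}
    (h : Gr (fun j => Q (z j) (y j) (t j) (x j)) (fun j => V (z j) (y j) (t j) (x j))
      (fun j => Aa (z j) (y j) (t j) (x j)) (fun j => Bb (y j) (t j))) :
    ∑ j, z j * z j = 4 ∧ ∑ j, y j * y j = 4 ∧ ∑ j, t j * t j = 4 ∧ ∑ j, x j * x j = 2 ∧
    ∑ j, z j * y j = 0 ∧ ∑ j, z j * t j = -2 ∧ ∑ j, y j * t j = 2 ∧
    ∑ j, z j * x j = 0 ∧ ∑ j, y j * x j = 0 ∧ ∑ j, t j * x j = 0 := by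
  have hz : ∀ j, 15 * z j = 1 * Q (z j) (y j) (t j) (x j) + 5 * V (z j) (y j) (t j) (x j) +
      9 * Aa (z j) (y j) (t j) (x j) + 12 * Bb (y j) (t j) := fun j => by simp only [Q, V, Aa, Bb]; ring
  have hy : ∀ j, 15 * y j = (-2) * Q (z j) (y j) (t j) (x j) + 5 * V (z j) (y j) (t j) (x j) +
      (-3) * Aa (z j) (y j) (t j) (x j) + 6 * Bb (y j) (t j) := fun j => by simp only [Q, V, Aa, Bb]; ring
  have ht : ∀ j, 15 * t j = (-2) * Q (z j) (y j) (t j) (x j) + 5 * V (z j) (y j) (t j) (x j) +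
      (-3) * Aa (z j) (y j) (t j) (x j) + (-9) * Bb (y j) (t j) := fun j => by simp only [Q, V, Aa, Bb]; ring
  have hx : ∀ j, 15 * x j = 1 * Q (z j) (y j) (t j) (x j) + 5 * V (z j) (y j) (t j) (x j) +
      (-6) * Aa (z j) (y j) (t j) (x j) + (-3) * Bb (y j) (t j) := fun j => by simp only [Q, V, Aa, Bb]; ring
  have e1 := h.gram15 hz hz
  have e2 := h.gram15 hy hy
  have e3 := h.gram15 ht ht
  have e4 := h.gram15 hx hx
  have e5 := h.gram15 hz hy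
  have e6 := h.gram15 hz ht
  have e7 := h.gram15 hy ht
  have e8 := h.gram15 hz hx
  have e9 := h.gram15 hy hx
  have e10 := h.gram15 ht hx
  norm_num at e1 e2 e3 e4 e5 e6 e7 e8 e9 e10
  refine ⟨?_, ?_, ?_, ?_, ?_, ?_, ?_, ?_, ?_, ?_⟩ <;> omega

/-- The pairing of the lattice coordinates with the degrees. -/
lemma deg_fields {d z y t x : ι → ℤ} (h1 : ∑ j, d j * Q (z j) (y j) (t j) (x j) = 0)
    (h2 : ∑ j, d j * V (z j) (y j) (t j) (x j) = 0) (h3 : ∑ j, d j * Aa (z j) (y j) (t j) (x j) = 0)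
    (h4 : ∑ j, d j * Bb (y j) (t j) = 0) :
    ∑ j, d j * z j = 0 ∧ ∑ j, d j * y j = 0 ∧ ∑ j, d j * t j = 0 ∧ ∑ j, d j * x j = 0 := by
  have key : ∀ (α₁ α₂ α₃ α₄ : ℤ) (u : ι → ℤ), (∀ j, 15 * u j = α₁ * Q (z j) (y j) (t j) (x j) + α₂ * V (z j) (y j) (t j) (x j) +
      α₃ * Aa (z j) (y j) (t j) (x j) + α₄ * Bb (y j) (t j)) → ∑ j, d j * u j = 0 := by
    intro α₁ α₂ α₃ α₄ u hu
    have : 15 * ∑ j, d j * u j = 0 := by
      rw [mul_sum]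
      have e : ∀ j, 15 * (d j * u j) = α₁ * (d j * Q (z j) (y j) (t j) (x j)) + α₂ * (d j * V (z j) (y j) (t j) (x j)) +
          α₃ * (d j * Aa (z j) (y j) (t j) (x j)) + α₄ * (d j * Bb (y j) (t j)) := fun j => by
        have := hu j
        calc 15 * (d j * u j) = d j * (15 * u j) := by ring
          _ = _ := by rw [this]; ring
      simp only [e, sum_add_distrib, ← mul_sum]
      rw [h1, h2, h3, h4]
      ring
    omega
  refine ⟨key 1 5 9 12 z (fun j => by simp only [Q, V, Aa, Bb]; ring), key (-2) 5 (-3) 6 y (fun j => by simp only [Q, V, Aa, Bb]; ring),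
    key (-2) 5 (-3) (-9) t (fun j => by simp only [Q, V, Aa, Bb]; ring), key 1 5 (-6) (-3) x (fun j => by simp only [Q, V, Aa, Bb]; ring)⟩

end Cfsg.Agent.Lib.J1Ord.Tab
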