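import Mathlib

/-!
# The model `Z₂ × A₅` of an involution centralizer: finite computations
-/

set_option autoImplicit false

namespace Cfsg.Agent.Lib.J1Ord

open Equiv Multiplicative

/-- The alternating group of degree five. -/
abbrev A5 := alternatingGroup (Fin 5)
/-- The model of the centralizer. -/
abbrev Mdl := Multiplicative (ZMod 2) × A5

def u₁ : A5 := ⟨swap 0 1 * swap 2 3, Perm.mem_alternatingGroup.2 (by decide)⟩
def u₂ : A5 := ⟨swap 0 2 * swap 1 3, Perm.mem_alternatingGroup.2 (by decide)⟩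
def u₃ : A5 := ⟨swap 0 3 * swap 1 2, Perm.mem_alternatingGroup.2 (by decide)⟩
def r₀ : A5 := ⟨swap 0 1 * swap 1 2, Perm.mem_alternatingGroup.2 (by decide)⟩
def f₀ : A5 := ⟨swap 0 1 * swap 1 2 * swap 2 3 * swap 3 4, Perm.mem_alternatingGroup.2 (by decide)⟩

def zM : Mdl := (ofAdd 1, 1)
def cM : Mdl := (ofAdd 1, r₀)
def d1M : Mdl := (ofAdd 1, f₀)
def d2M : Mdl := (ofAdd 1, f₀ * f₀)
def w1M : Mdl := (1, u₁)
def w2M : Mdl := (ofAdd 1, u₁)

/-- Membership in the four-group. -/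
def inV (x : A5) : Prop := x = 1 ∨ x = u₁ ∨ x = u₂ ∨ x = u₃

instance : DecidablePred inV := fun x => by unfold inV; infer_instance

section
set_option maxRecDepth 100000
set_option synthInstance.maxSize 5000
set_option synthInstance.maxHeartbeats 200000

lemma inV_mul : ∀ x y : A5, inV x → inV y → inV (x * y) := by decide +kernel
lemma inV_inv : ∀ x : A5, inV x → inV x⁻¹ := by decide +kernel

lemma center_model : ∀ x : Mdl, (∀ y : Mdl, x * y = y * x) → x * x = 1 → x ≠ 1 → x = zM := by decide +kernel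

lemma zM_central : ∀ x : Mdl, x * zM = zM * x := by decide +kernel

lemma zM_ne_one : zM ≠ 1 := by decide +kernel

lemma conj_T : ∀ x : Mdl, inV x.2 → x ≠ 1 →
    (x = zM) ∨ (∃ h : Mdl, h * x * h⁻¹ = w1M) ∨ (∃ h : Mdl, h * x * h⁻¹ = w2M) := by decide +kernel

lemma conj_M : ∀ x : Mdl, x.1 = 1 → inV x.2 → x ≠ 1 → ∃ h : Mdl, h * x * h⁻¹ = w1M := by decide +kernel

lemma T_sq : ∀ x : Mdl, inV x.2 → x * x = 1 := by decide +kernel

lemma card_TM : (Finset.univ.filter (fun x : Mdl => inV x.2)).card = 8 := by decide +kernel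
lemma card_MM : (Finset.univ.filter (fun x : Mdl => x.1 = 1 ∧ inV x.2)).card = 4 := by decide +kernel

lemma zM_inV : inV zM.2 := by decide +kernel
lemma zM_notM : ¬ (zM.1 = 1 ∧ inV zM.2) := by decide +kernel
lemma w2M_inV : inV w2M.2 := by decide +kernel
lemma w2M_notM : ¬ (w2M.1 = 1 ∧ inV w2M.2) := by decide +kernel
lemma w2M_ne : w2M ≠ 1 := by decide +kernel
lemma w1M_inM : w1M.1 = 1 ∧ inV w1M.2 := by decide +kernel

lemma card_mdl : Fintype.card Mdl = 120 := by decide +kernel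

/-- counting: involutions `x` with `x * g` also an involution. -/
lemma cnt_zM : (Finset.univ.filter (fun x : Mdl => x * x = 1 ∧ x ≠ 1 ∧ (x * zM) * (x * zM) = 1 ∧ x * zM ≠ 1)).card = 30 := by
  decide +kernel
lemma cnt_cM : (Finset.univ.filter (fun x : Mdl => x * x = 1 ∧ x ≠ 1 ∧ (x * cM) * (x * cM) = 1 ∧ x * cM ≠ 1)).card = 6 := by
  decide +kernel
lemma cnt_d1M : (Finset.univ.filter (fun x : Mdl => x * x = 1 ∧ x ≠ 1 ∧ (x * d1M) * (x * d1M) = 1 ∧ x * d1M ≠ 1)).card = 10 := by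
  decide +kernel

lemma cen_zM : (Finset.univ.filter (fun x : Mdl => x * zM = zM * x)).card = 120 := by decide +kernel
lemma cen_cM : (Finset.univ.filter (fun x : Mdl => x * cM = cM * x)).card = 6 := by decide +kernel
lemma cen_d1M : (Finset.univ.filter (fun x : Mdl => x * d1M = d1M * x)).card = 10 := by decide +kernel

lemma c_pow : cM ^ 3 = zM := by decide +kernel
lemma d1_pow : d1M ^ 5 = zM := by decide +kernel
lemma c_six : cM ^ 6 = 1 := by decide +kernel
lemma d1_ten : d1M ^ 10 = 1 := by decide +kernel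
lemma d2_ten : d2M ^ 10 = 1 := by decide +kernel

lemma c_sq : cM * cM ≠ 1 := by decide +kernel
lemma d1_sq : d1M * d1M ≠ 1 := by decide +kernel
lemma d2_sq : d2M * d2M ≠ 1 := by decide +kernel
lemma d1_six : d1M ^ 6 ≠ 1 := by decide +kernel
lemma d2_six : d2M ^ 6 ≠ 1 := by decide +kernel
lemma d2_pow : d2M ^ 5 = zM := by decide +kernel

lemma conj_c5 : ∃ h : Mdl, h * cM * h⁻¹ = cM ^ 5 := by decide +kernel
lemma conj_c24 : ∃ h : Mdl, h * cM ^ 2 * h⁻¹ = cM ^ 4 := by decide +kernel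
lemma conj_d9 : ∃ h : Mdl, h * d1M * h⁻¹ = d1M ^ 9 := by decide +kernel
lemma conj_d3 : ∃ h : Mdl, h * d1M ^ 3 * h⁻¹ = d2M := by decide +kernel
lemma conj_d7 : ∃ h : Mdl, h * d1M ^ 7 * h⁻¹ = d2M := by decide +kernel
lemma nconj_d12 : ∀ h : Mdl, h * d1M * h⁻¹ ≠ d2M := by decide +kernel
lemma d2_three : d2M ^ 3 = d1M := by decide +kernel
lemma mdl_nc : cM * d1M ≠ d1M * cM := by decide +kernel
lemma z_seven : zM ^ 7 ≠ 1 := by decide +kernel
lemma c_seven : cM ^ 7 ≠ 1 := by decide +kernel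
lemma d1_seven : d1M ^ 7 ≠ 1 := by decide +kernel
lemma d2_seven : d2M ^ 7 ≠ 1 := by decide +kernel

end

end Cfsg.Agent.Lib.J1Ord
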