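import Mathlib
import Cfsg.Prelude.Def_SporadicB
import Cfsg.Agent.Lib.J1Ord.Model
import Cfsg.Agent.Lib.Transfer.IndexTwo
import Cfsg.Agent.Lib.Recog13.Signed

/-!
# A finite simple group with involution centralizer `Z₂ × A₅`: local structure
-/

set_option autoImplicit false

namespace Cfsg.Agent.Lib.J1Ord

open Cfsg Subgroup

universe u

/-- The subgroup `T`. -/
def TM : Subgroup Mdl where
  carrier := {x | inV x.2}
  mul_mem' := fun {a b} ha hb => inV_mul a.2 b.2 ha hb
  one_mem' := Or.inl rfl
  inv_mem' := fun {a} ha => inV_inv a.2 ha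

/-- The subgroup `M`. -/
def MM : Subgroup Mdl where
  carrier := {x | x.1 = 1 ∧ inV x.2}
  mul_mem' := fun {a b} ha hb => ⟨by rw [Prod.fst_mul, ha.1, hb.1, one_mul], inV_mul a.2 b.2 ha.2 hb.2⟩
  one_mem' := ⟨rfl, Or.inl rfl⟩
  inv_mem' := fun {a} ha => ⟨by rw [Prod.fst_inv, ha.1, inv_one], inV_inv a.2 ha.2⟩

lemma mem_TM {x : Mdl} : x ∈ TM ↔ inV x.2 := Iff.rfl
lemma mem_MM {x : Mdl} : x ∈ MM ↔ x.1 = 1 ∧ inV x.2 := Iff.rfl

lemma card_TM' : Nat.card TM = 8 := by
  classical
  have : Nat.card TM = Nat.card {x : Mdl // inV x.2} := rfl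
  rw [this, Nat.card_eq_fintype_card, Fintype.card_subtype, ← card_TM]

lemma card_MM' : Nat.card MM = 4 := by
  classical
  have : Nat.card MM = Nat.card {x : Mdl // x.1 = 1 ∧ inV x.2} := rfl
  rw [this, Nat.card_eq_fintype_card, Fintype.card_subtype, ← card_MM]

lemma MM_le_TM : MM ≤ TM := fun _ h => h.2

variable {G : Type u} [Group G] {t : G} (e : ↥(centralizer ({t} : Set G)) ≃* Mdl)

/-- The embedding of the model. -/
noncomputable def emb : Mdl →* G := (centralizer ({t} : Set G)).subtype.comp e.symm.toMonoidHom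

lemma emb_inj : Function.Injective (emb e) := by
  intro a b h
  exact e.symm.injective (Subtype.ext h)

lemma emb_comm (x : Mdl) : emb e x * t = t * emb e x := by
  have h := (e.symm x).2
  rw [mem_centralizer_iff] at h
  exact (h t rfl).symm

lemma exists_emb {g : G} (hg : g * t = t * g) : ∃ x, emb e x = g := by
  have hm : g ∈ centralizer ({t} : Set G) := by
    rw [mem_centralizer_iff]
    intro h hh
    rw [Set.mem_singleton_iff] at hh
    subst hh
    exact hg.symm
  refine ⟨e ⟨g, hm⟩, ?_⟩
  simp [emb]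

lemma emb_zM (ht : orderOf t = 2) : emb e zM = t := by
  have hmem : t ∈ centralizer ({t} : Set G) := by
    rw [mem_centralizer_iff]
    intro h hh
    rw [Set.mem_singleton_iff] at hh
    rw [hh]
  have ht1 : t ≠ 1 := by
    rintro rfl
    simp at ht
  have htt : t * t = 1 := by
    rw [← pow_two, ← ht, pow_orderOf_eq_one]
  have hc : ∀ y : Mdl, e ⟨t, hmem⟩ * y = y * e ⟨t, hmem⟩ := by
    intro y
    obtain ⟨y', rfl⟩ := e.surjective y
    rw [← map_mul, ← map_mul]
    congr 1
    apply Subtype.ext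
    have h := y'.2
    rw [mem_centralizer_iff] at h
    exact (h t rfl)
  have h2 : e ⟨t, hmem⟩ * e ⟨t, hmem⟩ = 1 := by
    rw [← map_mul]
    have : (⟨t, hmem⟩ : centralizer ({t} : Set G)) * ⟨t, hmem⟩ = 1 := Subtype.ext htt
    rw [this, map_one]
  have h3 : e ⟨t, hmem⟩ ≠ 1 := by
    intro h
    have := e.injective (h.trans (map_one e).symm)
    exact ht1 (congrArg Subtype.val this)
  have h4 := center_model _ hc h2 h3
  simp only [emb, MonoidHom.coe_comp, Function.comp_apply]
  rw [← h4]
  simp

/-- The image of `T`. -/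
noncomputable def TG : Subgroup G := TM.map (emb e)
/-- The image of `M`. -/
noncomputable def MG : Subgroup G := MM.map (emb e)

lemma card_TG : Nat.card (TG e) = 8 := by
  rw [TG, Subgroup.card_map_of_injective (emb_inj e), card_TM']

lemma card_MG : Nat.card (MG e) = 4 := by
  rw [MG, Subgroup.card_map_of_injective (emb_inj e), card_MM']

lemma MG_le : MG e ≤ TG e := Subgroup.map_mono MM_le_TM

lemma relIndex_MG : (MG e).relIndex (TG e) = 2 := by
  have h1 : Nat.card ((MG e).subgroupOf (TG e)) = 4 := by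
    rw [Nat.card_congr (Subgroup.subgroupOfEquivOfLe (MG_le e)).toEquiv, card_MG]
  have h2 := Subgroup.card_mul_index ((MG e).subgroupOf (TG e))
  rw [h1, card_TG] at h2
  rw [Subgroup.relIndex]
  omega

variable [Finite G]

include e in
lemma card_cen_t : Nat.card (centralizer ({t} : Set G)) = 120 := by
  rw [Nat.card_congr e.toEquiv, Nat.card_eq_fintype_card, card_mdl]

include e in
lemma card_eq_index : Nat.card G = 120 * (centralizer ({t} : Set G)).index := by
  rw [← card_cen_t e, Subgroup.card_mul_index]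

include e in
lemma no_index_two [IsSimpleGroup G] {N : Subgroup G} (hN : N.Normal) (hi : N.index = 2) : False := by
  have h0 := card_eq_index e
  rcases hN.eq_bot_or_eq_top with h | h
  · rw [h, Subgroup.index_bot] at hi
    have : 1 ≤ (centralizer ({t} : Set G)).index := Nat.pos_of_ne_zero Subgroup.index_ne_zero_of_finite
    omega
  · rw [h, Subgroup.index_top] at hi
    omega

/-- `T` is a Sylow `2`-subgroup. -/
theorem exists_sylow_TG (ht : IsTwoCentralInvolution t) : ∃ Q : Sylow 2 G, (Q : Subgroup G) = TG e := by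
  classical
  haveI hf2 : Fact (Nat.Prime 2) := ⟨Nat.prime_two⟩
  obtain ⟨P, hPt, hPc⟩ := ht.2
  have hPle : (P : Subgroup G) ≤ centralizer ({t} : Set G) := by
    intro x hx
    rw [mem_centralizer_iff]
    intro h hh
    rw [Set.mem_singleton_iff] at hh
    subst hh
    exact (hPc x hx).symm
  have hPd : Nat.card P ∣ 120 := by
    rw [← card_cen_t e]
    exact Subgroup.card_dvd_of_le hPle
  obtain ⟨k, hk⟩ := IsPGroup.iff_card.1 P.isPGroup'
  have hk3 : k ≤ 3 := by
    by_contra hk4
    have h1 : 2 ^ 4 ∣ 2 ^ k := pow_dvd_pow 2 (by omega)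
    have h2 : 2 ^ 4 ∣ 120 := h1.trans (hk ▸ hPd)
    norm_num at h2
  have hPcard : Nat.card P ≤ 8 := by
    rw [hk]
    calc 2 ^ k ≤ 2 ^ 3 := Nat.pow_le_pow_right (by norm_num) hk3
      _ = 8 := by norm_num
  have hTp : IsPGroup 2 (TG e) := IsPGroup.of_card (n := 3) (by rw [card_TG]; norm_num)
  obtain ⟨Q, hQ⟩ := hTp.exists_le_sylow
  have hQcard : Nat.card Q = Nat.card P := by
    rw [Sylow.card_eq_multiplicity, Sylow.card_eq_multiplicity]
  refine ⟨Q, (Subgroup.eq_of_le_of_card_ge hQ ?_).symm⟩
  rw [card_TG, hQcard]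
  exact hPcard

include e in
/-- All involutions are conjugate: a Thompson transfer. -/
theorem all_conj [IsSimpleGroup G] (ht : IsTwoCentralInvolution t) : ∀ y : G, y * y = 1 → y ≠ 1 → IsConj t y := by
  classical
  haveI hf2 : Fact (Nat.Prime 2) := ⟨Nat.prime_two⟩
  have ht2 := ht.1
  have hzM := emb_zM e ht2
  obtain ⟨Q, hQ⟩ := exists_sylow_TG e ht
  have hodd : Odd (TG e).index := by
    rw [← hQ]
    exact Nat.odd_iff.2 (Nat.mod_two_ne_zero.1 (fun h => Q.not_dvd_index (Nat.dvd_of_mod_eq_zero h)))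
  have ht1 : t ≠ 1 := by
    rintro rfl
    simp at ht2
  -- the transfer
  have key : ∀ x ∈ TG e, x * x = 1 → x ∉ MG e → ∃ g : G, g⁻¹ * x * g ∈ MG e := by
    intro x _ hxx hxM
    by_contra hno
    push Not at hno
    obtain ⟨N, hN, hNi, -⟩ := Cfsg.Agent.Lib.Transfer.IndexTwo.exists_normal_index_two_of_relIndex (TG e) hodd (MG e)
      (relIndex_MG e) x 1 (by rw [pow_one, pow_two]; exact hxx) (fun g _ => hno g) (by
        intro k hk hkd g _
        have hk2 : k = 2 := by
          have := Nat.le_of_dvd (by norm_num) hkd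
          rw [pow_one] at this
          omega
        subst hk2
        have : x ^ 2 = 1 := by rw [pow_two]; exact hxx
        rw [this]
        simp)
    exact no_index_two e hN hNi
  have hw1 : ∀ x ∈ TG e, x * x = 1 → x ∉ MG e → x ≠ 1 → IsConj x (emb e w1M) := by
    intro x hxT hxx hxM hx1
    obtain ⟨g, hg⟩ := key x hxT hxx hxM
    obtain ⟨w, hw, hwg⟩ := hg
    have hw1 : w ≠ 1 := by
      rintro rfl
      rw [map_one] at hwg
      apply hx1
      have : x = g * (g⁻¹ * x * g) * g⁻¹ := by group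
      rw [this, ← hwg]
      group
    obtain ⟨h, hh⟩ := conj_M w hw.1 hw.2 hw1
    rw [isConj_iff]
    refine ⟨emb e h * g⁻¹, ?_⟩
    have h2 : emb e w1M = emb e h * emb e w * (emb e h)⁻¹ := by
      rw [← hh, map_mul, map_mul, map_inv]
    rw [h2, hwg]
    group
  have hT1 : IsConj t (emb e w1M) := by
    refine hw1 t ?_ ?_ ?_ ht1
    · exact ⟨zM, zM_inV, hzM⟩
    · rw [← pow_two, ← ht2, pow_orderOf_eq_one]
    · rintro ⟨w, hw, hwe⟩
      have : w = zM := emb_inj e (hwe.trans hzM.symm)
      rw [this] at hw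
      exact zM_notM hw
  have hT2 : IsConj (emb e w2M) (emb e w1M) := by
    refine hw1 (emb e w2M) ⟨w2M, w2M_inV, rfl⟩ ?_ ?_ ?_
    · rw [← map_mul, T_sq _ w2M_inV, map_one]
    · rintro ⟨w, hw, hwe⟩
      have : w = w2M := emb_inj e hwe
      rw [this] at hw
      exact w2M_notM hw
    · intro h
      exact w2M_ne (emb_inj e (h.trans (map_one _).symm))
  have hTall : ∀ x ∈ TG e, x ≠ 1 → IsConj t x := by
    rintro x ⟨w, hw, rfl⟩ hx1
    have hw1' : w ≠ 1 := by
      rintro rfl
      exact hx1 (map_one _)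
    rcases conj_T w hw hw1' with rfl | ⟨h, hh⟩ | ⟨h, hh⟩
    · rw [hzM]
    · refine hT1.trans (IsConj.symm ?_)
      rw [isConj_iff]
      refine ⟨emb e h, ?_⟩
      rw [← hh, map_mul, map_mul, map_inv]
    · refine hT1.trans (hT2.symm.trans (IsConj.symm ?_))
      rw [isConj_iff]
      refine ⟨emb e h, ?_⟩
      rw [← hh, map_mul, map_mul, map_inv]
  intro y hyy hy1
  have hyo : orderOf y = 2 := orderOf_eq_prime (by rw [pow_two]; exact hyy) hy1
  have hyp : IsPGroup 2 (zpowers y) := IsPGroup.of_card (n := 1) (by rw [Nat.card_zpowers, hyo, pow_one])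
  obtain ⟨Q', hQ'⟩ := hyp.exists_le_sylow
  obtain ⟨g, hg⟩ := MulAction.exists_smul_eq G Q' Q
  have h1 : g * y * g⁻¹ ∈ TG e := by
    rw [← hQ, ← hg, Sylow.coe_subgroup_smul]
    exact ⟨y, hQ' (mem_zpowers y), rfl⟩
  have h2 : g * y * g⁻¹ ≠ 1 := by
    intro h
    apply hy1
    have : y = g⁻¹ * (g * y * g⁻¹) * g := by group
    rw [this, h]
    group
  refine (hTall _ h1 h2).trans (IsConj.symm ?_)
  rw [isConj_iff]
  exact ⟨g, rfl⟩

include e in
lemma conj_t_iff [IsSimpleGroup G] (ht : IsTwoCentralInvolution t) (s : G) : IsConj t s ↔ s * s = 1 ∧ s ≠ 1 := by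
  constructor
  · intro h
    rw [isConj_iff] at h
    obtain ⟨c, rfl⟩ := h
    have ht1 : t ≠ 1 := by
      rintro rfl
      have := ht.1
      simp at this
    have htt : t * t = 1 := by
      rw [← pow_two, ← ht.1, pow_orderOf_eq_one]
    constructor
    · calc c * t * c⁻¹ * (c * t * c⁻¹) = c * (t * t) * c⁻¹ := by group
        _ = 1 := by rw [htt]; group
    · intro h
      apply ht1
      have : t = c⁻¹ * (c * t * c⁻¹) * c := by group
      rw [this, h]
      group
  · rintro ⟨h1, h2⟩
    exact all_conj e ht s h1 h2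

/-- The centralizer of an element having `t` as a power. -/
theorem card_cen_emb {g : Mdl} {k : ℕ} (ht : orderOf t = 2) (hk : g ^ k = zM) :
    Nat.card (centralizer ({emb e g} : Set G)) = (Finset.univ.filter (fun x : Mdl => x * g = g * x)).card := by
  classical
  have hz := emb_zM e ht
  have ht' : (emb e g) ^ k = t := by rw [← map_pow, hk, hz]
  let f : {x : Mdl // x * g = g * x} → centralizer ({emb e g} : Set G) := fun x => ⟨emb e x.1, by
    rw [mem_centralizer_iff]
    intro h hh
    rw [Set.mem_singleton_iff] at hh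
    subst hh
    rw [← map_mul, ← map_mul, x.2]⟩
  have hf : Function.Bijective f := by
    constructor
    · intro a b hab
      have h0 : (f a).1 = (f b).1 := by rw [hab]
      exact Subtype.ext (emb_inj e h0)
    · rintro ⟨y, hy⟩
      rw [mem_centralizer_iff] at hy
      have hy' : emb e g * y = y * emb e g := hy _ rfl
      have hyt : y * t = t * y := by
        rw [← ht']
        exact ((Commute.pow_left (show Commute (emb e g) y from hy') k).eq).symm
      obtain ⟨x, rfl⟩ := exists_emb e hyt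
      refine ⟨⟨x, ?_⟩, rfl⟩
      apply emb_inj e
      rw [map_mul, map_mul]
      exact hy'.symm
  rw [← Nat.card_congr (Equiv.ofBijective f hf), Nat.card_eq_fintype_card, Fintype.card_subtype]

/-- The count of pairs of involutions with product a given element having `t` as a power. -/
theorem cnt_emb [IsSimpleGroup G] {g : Mdl} {k : ℕ} (ht : IsTwoCentralInvolution t) (hk : g ^ k = zM) :
    Cfsg.Agent.Lib.Recog13.Cnt t t (emb e g) =
      (Finset.univ.filter (fun x : Mdl => x * x = 1 ∧ x ≠ 1 ∧ (x * g) * (x * g) = 1 ∧ x * g ≠ 1)).card := by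
  classical
  have hz := emb_zM e ht.1
  have ht' : (emb e g) ^ k = t := by rw [← map_pow, hk, hz]
  have htt : t * t = 1 := by
    rw [← pow_two, ← ht.1, pow_orderOf_eq_one]
  rw [Cfsg.Agent.Lib.Recog13.Cnt]
  let f : {x : Mdl // x * x = 1 ∧ x ≠ 1 ∧ (x * g) * (x * g) = 1 ∧ x * g ≠ 1} →
      {s : G // IsConj t s ∧ IsConj (s * emb e g) t} := fun x => ⟨emb e x.1, by
    obtain ⟨hx, h1, h2, h3⟩ := x.2
    constructor
    · rw [conj_t_iff e ht]
      refine ⟨by rw [← map_mul, hx, map_one], ?_⟩
      intro h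
      exact h1 (emb_inj e (h.trans (map_one _).symm))
    · rw [isConj_comm, conj_t_iff e ht]
      refine ⟨by rw [← map_mul, ← map_mul, h2, map_one], ?_⟩
      intro h
      rw [← map_mul] at h
      exact h3 (emb_inj e (h.trans (map_one _).symm))⟩
  have hf : Function.Bijective f := by
    constructor
    · intro a b hab
      have h0 : (f a).1 = (f b).1 := by rw [hab]
      exact Subtype.ext (emb_inj e h0)
    · rintro ⟨s, hs1, hs2⟩
      rw [conj_t_iff e ht] at hs1
      rw [isConj_comm, conj_t_iff e ht] at hs2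
      have hinv : s * emb e g * s⁻¹ = (emb e g)⁻¹ := by
        have hs : s⁻¹ = s := inv_eq_of_mul_eq_one_left hs1.1
        rw [hs, eq_inv_iff_mul_eq_one]
        calc s * emb e g * s * emb e g = (s * emb e g) * (s * emb e g) := by group
          _ = 1 := hs2.1
      have hst : s * t * s⁻¹ = t := by
        rw [← ht', ← conj_pow, hinv, inv_pow, ht']
        exact inv_eq_of_mul_eq_one_left htt
      have hcomm : s * t = t * s := by
        calc s * t = s * t * s⁻¹ * s := by group
          _ = t * s := by rw [hst]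
      obtain ⟨x, rfl⟩ := exists_emb e hcomm
      refine ⟨⟨x, ?_, ?_, ?_, ?_⟩, rfl⟩
      · apply emb_inj e
        rw [map_mul, hs1.1, map_one]
      · rintro rfl
        exact hs1.2 (map_one _)
      · apply emb_inj e
        rw [map_mul, map_mul, hs2.1, map_one]
      · intro h
        apply hs2.2
        rw [← map_mul, h, map_one]
  rw [← Nat.card_congr (Equiv.ofBijective f hf), Nat.card_eq_fintype_card, Fintype.card_subtype]

end Cfsg.Agent.Lib.J1Ord
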