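import Mathlib
import Cfsg.Agent.Lib.J1Ord.Local
import Cfsg.Agent.Lib.M11Ord.Basic
import Cfsg.Agent.Lib.Char.Galois

/-!
# A finite simple group with involution centralizer `Z₂ × A₅`: character values
-/

set_option autoImplicit false
set_option linter.unusedSectionVars false

namespace Cfsg.Agent.Lib.J1Ord

open Cfsg Subgroup Finset
open Cfsg.Agent.Lib.M11Ord
open scoped ComplexConjugate

universe u

/-- The golden ratio. -/
noncomputable def phi : ℂ := ((1 + Real.sqrt 5) / 2 : ℝ)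

lemma sqrt5_sq : ((Real.sqrt 5 : ℝ) : ℂ) ^ 2 = 5 := by
  have h : Real.sqrt 5 ^ 2 = 5 := Real.sq_sqrt (by norm_num)
  have h2 : ((Real.sqrt 5 ^ 2 : ℝ) : ℂ) = ((5 : ℝ) : ℂ) := by rw [h]
  push_cast at h2
  exact h2

lemma phi_sq : phi ^ 2 = phi + 1 := by
  simp only [phi]
  push_cast
  linear_combination (1 / 4 : ℂ) * sqrt5_sq

lemma conj_phi : conj phi = phi := Complex.conj_ofReal _

lemma phi_indep_rat {x y : ℚ} (h : (x : ℂ) + y * phi = 0) : x = 0 ∧ y = 0 := by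
  have h1 : ((x : ℝ) + (y : ℝ) * ((1 + Real.sqrt 5) / 2) : ℝ) = 0 := by
    have : (((x : ℝ) + (y : ℝ) * ((1 + Real.sqrt 5) / 2) : ℝ) : ℂ) = 0 := by
      simp only [phi] at h
      push_cast at h ⊢
      exact h
    exact_mod_cast this
  have hirr : Irrational (Real.sqrt 5) := Nat.Prime.irrational_sqrt (p := 5) (by norm_num)
  have hy : y = 0 := by
    by_contra hy
    apply hirr
    refine ⟨(-(2 * x + y) / y : ℚ), ?_⟩
    have hy' : (y : ℝ) ≠ 0 := by exact_mod_cast hy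
    push_cast
    field_simp
    linear_combination (-2 : ℝ) * h1
  subst hy
  refine ⟨?_, rfl⟩
  simpa using h1

lemma phi_indep_int {x y : ℤ} (h : (x : ℂ) + y * phi = 0) : x = 0 ∧ y = 0 := by
  have h2 := phi_indep_rat (x := x) (y := y) (by push_cast; exact h)
  exact ⟨by exact_mod_cast h2.1, by exact_mod_cast h2.2⟩

/-- A fifth root of unity with the right traces. -/
lemma exists_zeta : ∃ ζ : ℂ, ζ ^ 5 = 1 ∧ ζ + ζ ^ 4 = phi - 1 ∧ ζ ^ 2 + ζ ^ 3 = -phi := by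
  obtain ⟨z, hz⟩ := IsAlgClosed.exists_pow_nat_eq ((phi - 1) ^ 2 - 4) (n := 2) (by norm_num)
  set p : ℂ := phi - 1 with hp
  have hp2 : p ^ 2 + p - 1 = 0 := by
    rw [hp]
    linear_combination phi_sq
  set ζ : ℂ := (p + z) / 2 with hζ
  have hQ : ζ ^ 2 - p * ζ + 1 = 0 := by
    rw [hζ]
    linear_combination (1 / 4 : ℂ) * hz
  have h3 : ζ ^ 3 + p * ζ + p = 0 := by
    linear_combination (ζ + p) * hQ + ζ * hp2
  have h4 : ζ ^ 4 + ζ - p = 0 := by
    linear_combination ζ * h3 - p * hQ - ζ * hp2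
  have h5 : ζ ^ 5 - 1 = 0 := by
    linear_combination ζ * h4 - hQ
  refine ⟨ζ, by linear_combination h5, ?_, ?_⟩
  · linear_combination h4
  · rw [hp] at hQ h3
    linear_combination hQ + h3

/-- A primitive sixth root of unity. -/
lemma exists_sixth : ∃ η : ℂ, η ^ 2 = η - 1 := by
  obtain ⟨z, hz⟩ := IsAlgClosed.exists_pow_nat_eq (-3 : ℂ) (n := 2) (by norm_num)
  refine ⟨(1 + z) / 2, ?_⟩
  linear_combination (1 / 4 : ℂ) * hz

section Mult

variable {G : Type u} [Group G] [Finite G]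

/-- Multiplicities of eigenvalues. -/
theorem mult_cyc {χ : G → ℂ} (hχ : IsCharacter G χ) (g : G) {n : ℕ} (hn : 0 < n) (hg : g ^ n = 1) {η : ℂ}
    (hη : η ^ n = 1) : ∃ m : ℕ, ∑ j ∈ range n, χ (g ^ j) * η ^ j = n * m := by
  classical
  obtain ⟨N, ρ, rfl⟩ := hχ
  obtain ⟨ι, hι, z, hz, hk⟩ := Cfsg.Agent.Lib.Char.Galois.character_eigen ρ g hn hg
  refine ⟨(univ.filter (fun i => z i * η = 1)).card, ?_⟩
  have h1 : ∀ j ∈ range n, ρ.character (g ^ j) * η ^ j = ∑ i, (z i * η) ^ j := by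
    intro j _
    rw [hk j, Finset.sum_mul]
    exact Finset.sum_congr rfl fun i _ => (mul_pow _ _ _).symm
  rw [Finset.sum_congr rfl h1, Finset.sum_comm]
  have h2 : ∀ i : ι, ∑ j ∈ range n, (z i * η) ^ j = if z i * η = 1 then (n : ℂ) else 0 := by
    intro i
    split_ifs with h
    · rw [h]
      simp
    · have h3 : (z i * η) ^ n = 1 := by rw [mul_pow, hz i, hη, one_mul]
      have h4 := geom_sum_mul (z i * η) n
      rw [h3, sub_self] at h4
      exact (mul_eq_zero.1 h4).resolve_right (sub_ne_zero.2 h)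
  rw [Finset.sum_congr rfl fun i _ => h2 i, Finset.sum_ite, Finset.sum_const, Finset.sum_const_zero, add_zero,
    nsmul_eq_mul]
  ring

variable {t : G} (e : ↥(centralizer ({t} : Set G)) ≃* Mdl)

lemma val_conj {χ : G → ℂ} (hχ : IsCharacter G χ) {x y : Mdl} (h : ∃ h : Mdl, h * x * h⁻¹ = y) :
    χ (emb e x) = χ (emb e y) := by
  obtain ⟨c, rfl⟩ := h
  rw [map_mul, map_mul, map_inv]
  exact (Cfsg.Agent.Lib.Char.Basic.isClassFunction_of_isCharacter hχ _ _).symm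

/-- The values on the elements of order six. -/
theorem row_c {χ : G → ℂ} (hχ : IsCharacter G χ) (ht : orderOf t = 2) :
    ∃ v N : ℤ, χ (emb e cM) = v ∧ χ t + 2 * v = 3 * N := by
  set g := emb e cM with hg
  have hpow : ∀ j, g ^ j = emb e (cM ^ j) := fun j => (map_pow _ _ _).symm
  have hg6 : g ^ 6 = 1 := by rw [hpow, c_six, map_one]
  have hY3 : χ (g ^ 3) = χ t := by rw [hpow, c_pow, emb_zM e ht]
  have hY5 : χ (g ^ 5) = χ g := by
    rw [hpow, hg]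
    exact (val_conj e hχ conj_c5).symm
  have hY4 : χ (g ^ 4) = χ (g ^ 2) := by
    rw [hpow, hpow]
    exact (val_conj e hχ conj_c24).symm
  obtain ⟨η, hη⟩ := exists_sixth
  have h3 : η ^ 3 = -1 := by linear_combination (η + 1) * hη
  have h6 : η ^ 6 = 1 := by
    have : η ^ 6 = (η ^ 3) ^ 2 := by ring
    rw [this, h3]
    norm_num
  have exp : ∀ x : ℂ, ∑ j ∈ range 6, χ (g ^ j) * x ^ j =
      χ 1 + χ g * x + χ (g ^ 2) * x ^ 2 + χ t * x ^ 3 + χ (g ^ 2) * x ^ 4 + χ g * x ^ 5 := by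
    intro x
    simp only [sum_range_succ, sum_range_zero, pow_zero, pow_one, hY3, hY4, hY5]
    ring
  obtain ⟨m₀, h0⟩ := mult_cyc hχ g (by norm_num) hg6 (η := 1) (by norm_num)
  obtain ⟨m₃, h1⟩ := mult_cyc hχ g (by norm_num) hg6 (η := -1) (by norm_num)
  obtain ⟨m₁, h2⟩ := mult_cyc hχ g (by norm_num) hg6 h6
  obtain ⟨m₂, h4⟩ := mult_cyc hχ g (by norm_num) hg6 (η := η ^ 2) (by
    have : (η ^ 2) ^ 6 = (η ^ 6) ^ 2 := by ring
    rw [this, h6]
    norm_num)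
  rw [exp] at h0 h1 h2 h4
  push_cast at h0 h1 h2 h4
  have h44 : η ^ 4 = -η := by linear_combination η * h3
  have h5 : η ^ 5 = 1 - η := by
    have : η ^ 5 = η ^ 3 * η ^ 2 := by ring
    rw [this, h3, hη]
    ring
  have a1 : (η ^ 2) ^ 2 = -η := by rw [← h44]; ring
  have a2 : (η ^ 2) ^ 3 = 1 := by
    have : (η ^ 2) ^ 3 = η ^ 6 := by ring
    rw [this, h6]
  have a3 : (η ^ 2) ^ 4 = η - 1 := by
    have : (η ^ 2) ^ 4 = η ^ 6 * η ^ 2 := by ring
    rw [this, h6, hη]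
    ring
  have a4 : (η ^ 2) ^ 5 = -η := by
    have : (η ^ 2) ^ 5 = η ^ 6 * η ^ 4 := by ring
    rw [this, h6, h44]
    ring
  have A : χ 1 + 2 * χ g + 2 * χ (g ^ 2) + χ t = 6 * m₀ := by
    rw [← h0]
    norm_num
    ring
  have B : χ 1 - 2 * χ g + 2 * χ (g ^ 2) - χ t = 6 * m₃ := by
    rw [← h1]
    norm_num
    ring
  have C : χ 1 + χ g - χ (g ^ 2) - χ t = 6 * m₁ := by
    rw [← h2, h3, h44, h5, hη]
    ring
  have D : χ 1 - χ g - χ (g ^ 2) + χ t = 6 * m₂ := by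
    rw [← h4, a1, a2, a3, a4, hη]
    ring
  refine ⟨(m₀ : ℤ) - m₃ + m₁ - m₂, (m₀ : ℤ) - m₃, ?_, ?_⟩
  · push_cast
    linear_combination (1 / 6 : ℂ) * A - (1 / 6 : ℂ) * B + (1 / 6 : ℂ) * C - (1 / 6 : ℂ) * D
  · push_cast
    linear_combination (1 / 2 : ℂ) * (A - B) - (1 / 3 : ℂ) * (A - B + C - D)

/-- The values on the elements of order ten. -/
theorem row_d {χ : G → ℂ} (hχ : IsCharacter G χ) (ht : orderOf t = 2) :
    ∃ a b q : ℤ, χ t = q ∧ χ (emb e d1M) = a + b * phi ∧ χ (emb e d2M) = a + b - b * phi ∧ (5 : ℤ) ∣ q - a - 3 * b := by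
  set g := emb e d1M with hg
  have hpow : ∀ j, g ^ j = emb e (d1M ^ j) := fun j => (map_pow _ _ _).symm
  have hg10 : g ^ 10 = 1 := by rw [hpow, d1_ten, map_one]
  have hY5 : χ (g ^ 5) = χ t := by rw [hpow, d1_pow, emb_zM e ht]
  have hY9 : χ (g ^ 9) = χ g := by
    rw [hpow, hg]
    exact (val_conj e hχ conj_d9).symm
  have hY3 : χ (g ^ 3) = χ (emb e d2M) := by
    rw [hpow]
    exact val_conj e hχ conj_d3
  have hY7 : χ (g ^ 7) = χ (emb e d2M) := by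
    rw [hpow]
    exact val_conj e hχ conj_d7
  set w₁ := χ g with hw₁
  set w₂ := χ (emb e d2M) with hw₂
  have key : ∀ η : ℂ, η ^ 5 = 1 → ∃ N : ℤ, χ t + w₁ * (η + η ^ 4) + w₂ * (η ^ 2 + η ^ 3) = 5 * N := by
    intro η hη
    have h10 : η ^ 10 = 1 := by
      have : η ^ 10 = (η ^ 5) ^ 2 := by ring
      rw [this, hη]
      norm_num
    have h10' : (-η) ^ 10 = 1 := by
      have : (-η) ^ 10 = η ^ 10 := by ring
      rw [this, h10]
    obtain ⟨m, hm⟩ := mult_cyc hχ g (by norm_num) hg10 h10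
    obtain ⟨m', hm'⟩ := mult_cyc hχ g (by norm_num) hg10 h10'
    refine ⟨(m : ℤ) - m', ?_⟩
    simp only [sum_range_succ, sum_range_zero, pow_zero, pow_one, hY3, hY5, hY7, hY9, ← hw₁] at hm hm'
    push_cast at hm hm' ⊢
    have h7 : η ^ 7 = η ^ 2 := by
      have : η ^ 7 = η ^ 5 * η ^ 2 := by ring
      rw [this, hη, one_mul]
    have h9 : η ^ 9 = η ^ 4 := by
      have : η ^ 9 = η ^ 5 * η ^ 4 := by ring
      rw [this, hη, one_mul]
    have e1 : (-η) ^ 2 = η ^ 2 := by ring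
    have e3 : (-η) ^ 3 = -η ^ 3 := by ring
    have e4 : (-η) ^ 4 = η ^ 4 := by ring
    have e5 : (-η) ^ 5 = -η ^ 5 := by ring
    have e6 : (-η) ^ 6 = η ^ 6 := by ring
    have e7 : (-η) ^ 7 = -η ^ 7 := by ring
    have e8 : (-η) ^ 8 = η ^ 8 := by ring
    have e9 : (-η) ^ 9 = -η ^ 9 := by ring
    rw [e1, e3, e4, e5, e6, e7, e8, e9] at hm'
    rw [h7, h9, hη] at hm hm'
    linear_combination (1 / 2 : ℂ) * hm - (1 / 2 : ℂ) * hm'
  obtain ⟨ζ, hζ5, hζ1, hζ2⟩ := exists_zeta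
  obtain ⟨N₀, h0⟩ := key 1 (by norm_num)
  obtain ⟨N₁, h1⟩ := key ζ hζ5
  obtain ⟨N₂, h2⟩ := key (ζ ^ 2) (by
    have : (ζ ^ 2) ^ 5 = (ζ ^ 5) ^ 2 := by ring
    rw [this, hζ5]
    norm_num)
  have hs1 : ζ ^ 2 + (ζ ^ 2) ^ 4 = -phi := by
    have : (ζ ^ 2) ^ 4 = ζ ^ 5 * ζ ^ 3 := by ring
    rw [this, hζ5, one_mul]
    exact hζ2
  have hs2 : (ζ ^ 2) ^ 2 + (ζ ^ 2) ^ 3 = phi - 1 := by
    have e1 : (ζ ^ 2) ^ 3 = ζ ^ 5 * ζ := by ring
    have e2 : (ζ ^ 2) ^ 2 = ζ ^ 4 := by ring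
    rw [e1, e2, hζ5, one_mul, add_comm]
    exact hζ1
  rw [hs1, hs2] at h2
  rw [hζ1, hζ2] at h1
  have h0' : χ t + 2 * w₁ + 2 * w₂ = 5 * N₀ := by linear_combination h0
  have hφ := phi_sq
  refine ⟨(N₀ : ℤ) - N₁, (N₁ : ℤ) - N₂, N₀ + 2 * N₁ + 2 * N₂, ?_, ?_, ?_, ?_⟩
  · push_cast
    linear_combination (1 / 5 : ℂ) * h0' + (2 / 5 : ℂ) * h1 + (2 / 5 : ℂ) * h2
  · push_cast
    linear_combination (1 / 5 : ℂ) * h0' + (1 / 5 : ℂ) * (phi - 1) * h1 - (1 / 5 : ℂ) * phi * h2 +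
      (-(2 / 5 : ℂ) * (w₁ - w₂)) * hφ
  · push_cast
    linear_combination (1 / 5 : ℂ) * h0' - (1 / 5 : ℂ) * phi * h1 + (1 / 5 : ℂ) * (phi - 1) * h2 +
      (-(2 / 5 : ℂ) * (w₂ - w₁)) * hφ
  · exact ⟨N₂, by ring⟩

/-- The value on a subgroup of order eight all of whose nonidentity elements are conjugate to `t`. -/
theorem row_T {χ : G → ℂ} (hχ : IsCharacter G χ) {T : Subgroup G} (hT : Nat.card T = 8)
    (hc : ∀ y ∈ T, y ≠ 1 → IsConj t y) : ∃ n : ℕ, χ 1 + 7 * χ t = 8 * n := by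
  classical
  haveI : Fintype T := Fintype.ofFinite _
  obtain ⟨n, hn⟩ := mult_of_vanish hχ (A := T) (S := (⊥ : Subgroup G)) (by
    intro a _ s hs
    rw [Subgroup.mem_bot] at hs
    rw [hs, mul_one, one_mul]) (by
    intro a _ s hs h1
    exact absurd ((Subgroup.mem_bot).1 hs) h1) 1
  refine ⟨n, ?_⟩
  rw [hT, Subgroup.card_bot] at hn
  simp only [MonoidHom.one_apply, Units.val_one, map_one, mul_one] at hn
  have hval : ∀ a ∈ (univ : Finset T).erase 1, χ (a : G) = χ t := by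
    intro a ha
    have ha1 : (a : G) ≠ 1 := fun h => (Finset.mem_erase.1 ha).1 (Subtype.ext h)
    obtain ⟨c, hc'⟩ := isConj_iff.1 (hc a a.2 ha1)
    rw [← hc']
    exact Cfsg.Agent.Lib.Char.Basic.isClassFunction_of_isCharacter hχ _ _
  have hcard : ((univ : Finset T).erase 1).card = 7 := by
    rw [Finset.card_erase_of_mem (Finset.mem_univ _), Finset.card_univ, ← Nat.card_eq_fintype_card, hT]
  rw [← Finset.add_sum_erase _ _ (Finset.mem_univ (1 : T)), Finset.sum_congr rfl hval, Finset.sum_const, hcard] at hn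
  simp only [OneMemClass.coe_one, nsmul_eq_mul] at hn
  push_cast at hn
  linear_combination hn

end Mult

end Cfsg.Agent.Lib.J1Ord
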