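import Mathlib
import Cfsg.Agent.Lib.J1Ord.Gram
import Cfsg.Agent.Lib.J1Ord.Values

/-!
# A finite simple group with involution centralizer `Z₂ × A₅`: the table of values
-/

set_option autoImplicit false
set_option linter.unusedSectionVars false

namespace Cfsg.Agent.Lib.J1Ord

open Cfsg Subgroup Finset
open Cfsg.Agent.Lib.M11Ord
open Cfsg.Agent.Lib.Blocks.Principal (trivChar coe_trivChar)
open Cfsg.Agent.Lib.J1Ord.Tab (Q V Aa Bb Gr)
open scoped ComplexConjugate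

universe u

variable {G : Type u} [Group G] [Finite G] {t : G} (e : ↥(centralizer ({t} : Set G)) ≃* Mdl)

/-- The shape of a row. -/
structure RowH (χ : IrrCharacter G) (z y τ x : ℤ) : Prop where
  ht : (χ : G → ℂ) t = (Q z y τ x : ℤ)
  hc : (χ : G → ℂ) (emb e cM) = (V z y τ x : ℤ)
  h1 : (χ : G → ℂ) (emb e d1M) = (Aa z y τ x : ℤ) + (Bb y τ : ℤ) * phi
  h2 : (χ : G → ℂ) (emb e d2M) = (Aa z y τ x : ℤ) + (Bb y τ : ℤ) - (Bb y τ : ℤ) * phi
  h8 : (8 : ℤ) ∣ (dg χ : ℤ) - Q z y τ x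

theorem exists_row [IsSimpleGroup G] (ht : IsTwoCentralInvolution t) (χ : IrrCharacter G) :
    ∃ z y τ x : ℤ, RowH e χ z y τ x := by
  obtain ⟨v, N, hv, hN⟩ := row_c e (isChar χ) ht.1
  obtain ⟨a, b, q, hq, h1, h2, h5⟩ := row_d e (isChar χ) ht.1
  obtain ⟨n, hn⟩ := row_T (isChar χ) (T := TG e) (card_TG e) (by
    intro y hy hy1
    obtain ⟨w, hw, rfl⟩ := hy
    refine all_conj e ht _ ?_ hy1
    rw [← map_mul, T_sq w hw, map_one])
  rw [dg_cast, hq] at hn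
  have hn' : (dg χ : ℤ) + 7 * q = 8 * n := by exact_mod_cast hn
  rw [hq] at hN
  have hN' : q + 2 * v = 3 * N := by exact_mod_cast hN
  obtain ⟨x, hx⟩ : ∃ x : ℤ, q + 5 * v - 6 * a - 3 * b = 15 * x :=
    ⟨(q + 5 * v - 6 * a - 3 * b) / 15, by omega⟩
  refine ⟨a + b + x, v - a - 2 * x, v - a - b - 2 * x, x, ?_⟩
  have e1 : Q (a + b + x) (v - a - 2 * x) (v - a - b - 2 * x) x = q := by
    simp only [Q]
    omega
  have e2 : V (a + b + x) (v - a - 2 * x) (v - a - b - 2 * x) x = v := by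
    simp only [V]
    omega
  have e3 : Aa (a + b + x) (v - a - 2 * x) (v - a - b - 2 * x) x = a := by
    simp only [Aa]
    omega
  have e4 : Bb (v - a - 2 * x) (v - a - b - 2 * x) = b := by
    simp only [Bb]
    omega
  refine ⟨?_, ?_, ?_, ?_, ?_⟩
  · rw [e1]; exact hq
  · rw [e2]; exact hv
  · rw [e3, e4]; exact h1
  · rw [e3, e4]; exact h2
  · rw [e1]
    exact ⟨n - q, by rw [mul_sub]; omega⟩

/-- Conjugates under the Galois group. -/
theorem gal_row [IsSimpleGroup G] (ht : IsTwoCentralInvolution t) {z y τ x : IrrCharacter G → ℤ}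
    (H : ∀ χ, RowH e χ (z χ) (y χ) (τ χ) (x χ)) (χ : IrrCharacter G) :
    ∃ χ' : IrrCharacter G, dg χ' = dg χ ∧ Q (z χ') (y χ') (τ χ') (x χ') = Q (z χ) (y χ) (τ χ) (x χ) ∧
      V (z χ') (y χ') (τ χ') (x χ') = V (z χ) (y χ) (τ χ) (x χ) ∧
      Aa (z χ') (y χ') (τ χ') (x χ') = Aa (z χ) (y χ) (τ χ) (x χ) + Bb (y χ) (τ χ) ∧
      Bb (y χ') (τ χ') = - Bb (y χ) (τ χ) := by
  obtain ⟨k, hk, hkp, hkm⟩ := Nat.forall_exists_prime_gt_and_modEq (Nat.card G + 6) (q := 10) (a := 3) (by norm_num) (by norm_num)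
  have hk10 : k % 10 = 3 := hkm
  have hcop : k.Coprime (Nat.card G) :=
    (Nat.Prime.coprime_iff_not_dvd hkp).2 (fun h => by
      have := Nat.le_of_dvd Nat.card_pos h
      omega)
  have htt : t ^ 2 = 1 := by rw [← ht.1, pow_orderOf_eq_one]
  have hχ' := Cfsg.Agent.Lib.Char.Galois.isIrrCharacter_pow_of_coprime χ.2 hcop
  set χ' : IrrCharacter G := ⟨fun g => (χ : G → ℂ) (g ^ k), hχ'⟩ with hdef
  have hval : ∀ g, (χ' : G → ℂ) g = (χ : G → ℂ) (g ^ k) := fun g => rfl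
  have hemb : ∀ g : Mdl, (emb e g) ^ k = emb e (g ^ k) := fun g => (map_pow _ _ _).symm
  have vt : (χ' : G → ℂ) t = (χ : G → ℂ) t := by
    rw [hval, pow_eq_pow_mod k htt, show k % 2 = 1 by omega, pow_one]
  have vc : (χ' : G → ℂ) (emb e cM) = (χ : G → ℂ) (emb e cM) := by
    rw [hval, hemb, pow_eq_pow_mod k c_six]
    have h3 : k % 6 ≠ 3 := by
      intro h
      have : 3 ∣ k := by omega
      have := (Nat.prime_dvd_prime_iff_eq Nat.prime_three hkp).1 this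
      omega
    have h15 : k % 6 = 1 ∨ k % 6 = 5 := by omega
    rcases h15 with h | h
    · rw [h, pow_one]
    · rw [h]
      exact (val_conj e (isChar χ) conj_c5).symm
  have v1 : (χ' : G → ℂ) (emb e d1M) = (χ : G → ℂ) (emb e d2M) := by
    rw [hval, hemb, pow_eq_pow_mod k d1_ten, hk10]
    exact val_conj e (isChar χ) conj_d3
  have v2 : (χ' : G → ℂ) (emb e d2M) = (χ : G → ℂ) (emb e d1M) := by
    rw [hval, hemb, pow_eq_pow_mod k d2_ten, hk10, d2_three]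
  have hdg : dg χ' = dg χ := by
    have h1 := dg_cast χ'
    rw [hval, one_pow, dg_cast] at h1
    exact_mod_cast h1.symm
  obtain ⟨a1, a2, a3, a4, -⟩ := H χ
  obtain ⟨b1, b2, b3, b4, -⟩ := H χ'
  refine ⟨χ', hdg, ?_, ?_, ?_, ?_⟩
  · rw [vt, a1] at b1
    exact_mod_cast b1.symm
  · rw [vc, a2] at b2
    exact_mod_cast b2.symm
  all_goals
    rw [v1, a4] at b3
    have h0 : (((Aa (z χ') (y χ') (τ χ') (x χ') - (Aa (z χ) (y χ) (τ χ) (x χ) + Bb (y χ) (τ χ))) : ℤ) : ℂ) +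
        ((Bb (y χ') (τ χ') + Bb (y χ) (τ χ) : ℤ) : ℂ) * phi = 0 := by
      push_cast
      linear_combination -b3
    obtain ⟨c1, c2⟩ := phi_indep_int h0
  · omega
  · omega

section Columns

lemma split_sum {ι : Type*} [Fintype ι] (f g : ι → ℤ) (c : ℤ)
    (h : ∑ j, ((f j : ℂ) + (g j : ℂ) * phi) = c) : ∑ j, f j = c ∧ ∑ j, g j = 0 := by
  have e : (((∑ j, f j) - c : ℤ) : ℂ) + ((∑ j, g j : ℤ) : ℂ) * phi = 0 := by
    push_cast
    rw [Finset.sum_add_distrib, ← Finset.sum_mul] at h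
    linear_combination h
  obtain ⟨h1, h2⟩ := phi_indep_int e
  exact ⟨by omega, h2⟩

/-- Conversion of a count sum from `ℂ` to `ℚ`. -/
lemma cnt_sum_cast {ι : Type*} [Fintype ι] {q w : ι → ℤ} {d : ι → ℕ} {I c : ℕ} (hI : (I : ℂ) ≠ 0)
    (h : (c : ℂ) * (120 : ℕ) = (I : ℂ) * ∑ j, (q j : ℂ) * (q j : ℂ) * (w j : ℂ) / (d j : ℂ)) :
    ∑ j, ((q j : ℤ) : ℚ) ^ 2 * ((w j : ℤ) : ℚ) / (d j : ℚ) = ((c * 120 : ℕ) : ℚ) / (I : ℚ) := by
  have hIq : (I : ℚ) ≠ 0 := by exact_mod_cast hI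
  rw [eq_div_iff hIq]
  have e : ((∑ j, ((q j : ℤ) : ℚ) ^ 2 * ((w j : ℤ) : ℚ) / (d j : ℚ) : ℚ) : ℂ) = ∑ j, (q j : ℂ) * (q j : ℂ) * (w j : ℂ) / (d j : ℂ) := by
    push_cast
    refine Finset.sum_congr rfl fun j _ => ?_
    ring
  have e2 : ((∑ j, ((q j : ℤ) : ℚ) ^ 2 * ((w j : ℤ) : ℚ) / (d j : ℚ) : ℚ) : ℂ) * (I : ℂ) = ((c * 120 : ℕ) : ℂ) := by
    rw [e]
    push_cast at h ⊢
    rw [h]
    ring
  exact_mod_cast e2

lemma not_conj_t_c [IsSimpleGroup G] (ht : IsTwoCentralInvolution t) : ¬ IsConj t (emb e cM) := by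
  rw [conj_t_iff e ht]
  rintro ⟨h, -⟩
  rw [← map_mul] at h
  exact c_sq (emb_inj e (by rw [h, map_one]))

lemma not_conj_t_d [IsSimpleGroup G] (ht : IsTwoCentralInvolution t) : ¬ IsConj t (emb e d1M) := by
  rw [conj_t_iff e ht]
  rintro ⟨h, -⟩
  rw [← map_mul] at h
  exact d1_sq (emb_inj e (by rw [h, map_one]))

lemma not_conj_c_d : ¬ IsConj (emb e cM) (emb e d1M) := by
  intro h
  obtain ⟨c, hc⟩ := isConj_iff.1 h
  apply d1_six
  apply emb_inj e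
  rw [map_pow, map_one, ← hc, conj_pow, ← map_pow, c_six, map_one]
  group

lemma not_conj_d_d (ht : orderOf t = 2) : ¬ IsConj (emb e d1M) (emb e d2M) := by
  intro h
  obtain ⟨c, hc⟩ := isConj_iff.1 h
  have h5 : c * t * c⁻¹ = t := by
    have := emb_zM e ht
    calc c * t * c⁻¹ = c * (emb e d1M) ^ 5 * c⁻¹ := by rw [← map_pow, d1_pow, this]
      _ = (c * emb e d1M * c⁻¹) ^ 5 := by rw [conj_pow]
      _ = (emb e d2M) ^ 5 := by rw [hc]
      _ = t := by rw [← map_pow, d2_pow, this]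
  obtain ⟨w, rfl⟩ := exists_emb e (g := c) (by
    rw [mul_inv_eq_iff_eq_mul] at h5
    exact h5)
  apply nconj_d12 w
  apply emb_inj e
  rw [map_mul, map_mul, map_inv]
  exact hc

lemma not_conj_one {g : G} (hg : g ≠ 1) : ¬ IsConj (1 : G) g := by
  intro h
  exact hg (isConj_one_right.1 h)

variable {z y τ x : IrrCharacter G → ℤ} (H : ∀ χ, RowH e χ (z χ) (y χ) (τ χ) (x χ))

include H

lemma conj_t_val (χ : IrrCharacter G) :
    conj ((χ : G → ℂ) t) = (Q (z χ) (y χ) (τ χ) (x χ) : ℤ) := by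
  rw [(H χ).ht, map_intCast]

lemma conj_c_val (χ : IrrCharacter G) :
    conj ((χ : G → ℂ) (emb e cM)) = (V (z χ) (y χ) (τ χ) (x χ) : ℤ) := by
  rw [(H χ).hc, map_intCast]

lemma conj_d1_val (χ : IrrCharacter G) :
    conj ((χ : G → ℂ) (emb e d1M)) = (Aa (z χ) (y χ) (τ χ) (x χ) : ℤ) + (Bb (y χ) (τ χ) : ℤ) * phi := by
  rw [(H χ).h1, map_add, map_mul, map_intCast, map_intCast, conj_phi]

lemma conj_d2_val (χ : IrrCharacter G) :
    conj ((χ : G → ℂ) (emb e d2M)) = (Aa (z χ) (y χ) (τ χ) (x χ) : ℤ) + (Bb (y χ) (τ χ) : ℤ) - (Bb (y χ) (τ χ) : ℤ) * phi := by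
  rw [(H χ).h2, map_sub, map_add, map_mul, map_intCast, map_intCast, conj_phi]

/-- The Gram matrix of the columns. -/
theorem gr_col [IsSimpleGroup G] (ht : IsTwoCentralInvolution t) :
    Gr (fun χ : IrrCharacter G => Q (z χ) (y χ) (τ χ) (x χ)) (fun χ => V (z χ) (y χ) (τ χ) (x χ))
      (fun χ => Aa (z χ) (y χ) (τ χ) (x χ)) (fun χ => Bb (y χ) (τ χ)) := by
  classical
  haveI : Fintype G := Fintype.ofFinite G
  have hqq := Cfsg.Agent.Lib.Char.CompleteCor.column_orth_conj (IsConj.refl t)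
  have hvv := Cfsg.Agent.Lib.Char.CompleteCor.column_orth_conj (IsConj.refl (emb e cM))
  have hdd := Cfsg.Agent.Lib.Char.CompleteCor.column_orth_conj (IsConj.refl (emb e d1M))
  have hd12 := Cfsg.Agent.Lib.Char.CompleteCor.column_orth_not_conj (not_conj_d_d e ht.1)
  have hqv := Cfsg.Agent.Lib.Char.CompleteCor.column_orth_not_conj (not_conj_t_c e ht)
  have hqd := Cfsg.Agent.Lib.Char.CompleteCor.column_orth_not_conj (not_conj_t_d e ht)
  have hvd := Cfsg.Agent.Lib.Char.CompleteCor.column_orth_not_conj (not_conj_c_d e)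
  rw [card_cen_t e] at hqq
  rw [card_cen_emb e ht.1 c_pow, cen_cM] at hvv
  rw [card_cen_emb e ht.1 d1_pow, cen_d1M] at hdd
  simp only [conj_t_val e H, conj_c_val e H, conj_d1_val e H, conj_d2_val e H] at hqq hvv hdd hd12 hqv hqd hvd
  simp only [(H _).ht, (H _).hc, (H _).h1] at hqq hvv hdd hd12 hqv hqd hvd
  have pqq : ∑ χ : IrrCharacter G, Q (z χ) (y χ) (τ χ) (x χ) * Q (z χ) (y χ) (τ χ) (x χ) = 120 := by
    exact_mod_cast hqq
  have pvv : ∑ χ : IrrCharacter G, V (z χ) (y χ) (τ χ) (x χ) * V (z χ) (y χ) (τ χ) (x χ) = 6 := by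
    exact_mod_cast hvv
  have pqv : ∑ χ : IrrCharacter G, Q (z χ) (y χ) (τ χ) (x χ) * V (z χ) (y χ) (τ χ) (x χ) = 0 := by
    exact_mod_cast hqv
  obtain ⟨p1, p2⟩ := split_sum (fun χ : IrrCharacter G => Aa (z χ) (y χ) (τ χ) (x χ) * Aa (z χ) (y χ) (τ χ) (x χ) + Bb (y χ) (τ χ) * Bb (y χ) (τ χ))
    (fun χ => 2 * (Aa (z χ) (y χ) (τ χ) (x χ) * Bb (y χ) (τ χ)) + Bb (y χ) (τ χ) * Bb (y χ) (τ χ)) 10 (by
      push_cast
      refine Eq.trans (Finset.sum_congr rfl fun χ _ => ?_) (hdd.trans (by norm_num))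
      linear_combination (-((Bb (y χ) (τ χ) : ℤ) : ℂ) * ((Bb (y χ) (τ χ) : ℤ) : ℂ)) * phi_sq)
  obtain ⟨p3, -⟩ := split_sum (fun χ : IrrCharacter G => Aa (z χ) (y χ) (τ χ) (x χ) * Aa (z χ) (y χ) (τ χ) (x χ) + Aa (z χ) (y χ) (τ χ) (x χ) * Bb (y χ) (τ χ) - Bb (y χ) (τ χ) * Bb (y χ) (τ χ))
    (fun _ => 0) 0 (by
      push_cast
      refine Eq.trans (Finset.sum_congr rfl fun χ _ => ?_) hd12
      linear_combination (((Bb (y χ) (τ χ) : ℤ) : ℂ) * ((Bb (y χ) (τ χ) : ℤ) : ℂ)) * phi_sq)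
  obtain ⟨p4, p5⟩ := split_sum (fun χ : IrrCharacter G => Q (z χ) (y χ) (τ χ) (x χ) * Aa (z χ) (y χ) (τ χ) (x χ))
    (fun χ => Q (z χ) (y χ) (τ χ) (x χ) * Bb (y χ) (τ χ)) 0 (by
      push_cast
      refine Eq.trans (Finset.sum_congr rfl fun χ _ => ?_) hqd
      ring)
  obtain ⟨p6, p7⟩ := split_sum (fun χ : IrrCharacter G => V (z χ) (y χ) (τ χ) (x χ) * Aa (z χ) (y χ) (τ χ) (x χ))
    (fun χ => V (z χ) (y χ) (τ χ) (x χ) * Bb (y χ) (τ χ)) 0 (by
      push_cast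
      refine Eq.trans (Finset.sum_congr rfl fun χ _ => ?_) hvd
      ring)
  rw [Finset.sum_add_distrib] at p1 p2
  rw [Finset.sum_sub_distrib, Finset.sum_add_distrib] at p3
  rw [← Finset.mul_sum] at p2
  exact ⟨pqq, pvv, by omega, by omega, by omega, pqv, p4, p5, p6, p7⟩

/-- The pairing of the columns with the degrees. -/
theorem deg_col [IsSimpleGroup G] (ht : IsTwoCentralInvolution t) :
    ∑ χ : IrrCharacter G, (dg χ : ℤ) * Q (z χ) (y χ) (τ χ) (x χ) = 0 ∧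
    ∑ χ : IrrCharacter G, (dg χ : ℤ) * V (z χ) (y χ) (τ χ) (x χ) = 0 ∧
    ∑ χ : IrrCharacter G, (dg χ : ℤ) * Aa (z χ) (y χ) (τ χ) (x χ) = 0 ∧
    ∑ χ : IrrCharacter G, (dg χ : ℤ) * Bb (y χ) (τ χ) = 0 := by
  classical
  haveI : Fintype G := Fintype.ofFinite G
  have ht1 : t ≠ 1 := by
    rintro rfl
    have := ht.1
    simp at this
  have hc1 : emb e cM ≠ 1 := fun h => c_sq (by
    apply emb_inj e
    rw [map_mul, h, map_one, one_mul])
  have hd1 : emb e d1M ≠ 1 := fun h => d1_sq (by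
    apply emb_inj e
    rw [map_mul, h, map_one, one_mul])
  have h1 := Cfsg.Agent.Lib.Char.CompleteCor.column_orth_not_conj (not_conj_one ht1)
  have h2 := Cfsg.Agent.Lib.Char.CompleteCor.column_orth_not_conj (not_conj_one hc1)
  have h3 := Cfsg.Agent.Lib.Char.CompleteCor.column_orth_not_conj (not_conj_one hd1)
  simp only [conj_t_val e H, conj_c_val e H, conj_d1_val e H, dg_cast] at h1 h2 h3
  obtain ⟨p1, p2⟩ := split_sum (fun χ : IrrCharacter G => (dg χ : ℤ) * Aa (z χ) (y χ) (τ χ) (x χ))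
    (fun χ => (dg χ : ℤ) * Bb (y χ) (τ χ)) 0 (by
      push_cast
      refine Eq.trans (Finset.sum_congr rfl fun χ _ => ?_) h3
      ring)
  refine ⟨by exact_mod_cast h1, by exact_mod_cast h2, p1, p2⟩

/-- The count sums. -/
theorem cnt_col [IsSimpleGroup G] (ht : IsTwoCentralInvolution t) :
    ∑ χ : IrrCharacter G, ((Q (z χ) (y χ) (τ χ) (x χ) : ℤ) : ℚ) ^ 2 * ((Q (z χ) (y χ) (τ χ) (x χ) : ℤ) : ℚ) / (dg χ : ℚ) =
      3600 / ((centralizer ({t} : Set G)).index : ℚ) ∧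
    ∑ χ : IrrCharacter G, ((Q (z χ) (y χ) (τ χ) (x χ) : ℤ) : ℚ) ^ 2 * ((V (z χ) (y χ) (τ χ) (x χ) : ℤ) : ℚ) / (dg χ : ℚ) =
      720 / ((centralizer ({t} : Set G)).index : ℚ) ∧
    ∑ χ : IrrCharacter G, ((Q (z χ) (y χ) (τ χ) (x χ) : ℤ) : ℚ) ^ 2 * ((Aa (z χ) (y χ) (τ χ) (x χ) : ℤ) : ℚ) / (dg χ : ℚ) =
      1200 / ((centralizer ({t} : Set G)).index : ℚ) ∧
    ∑ χ : IrrCharacter G, ((Q (z χ) (y χ) (τ χ) (x χ) : ℤ) : ℚ) ^ 2 * ((Bb (y χ) (τ χ) : ℤ) : ℚ) / (dg χ : ℚ) = 0 := by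
  classical
  haveI : Fintype G := Fintype.ofFinite G
  have htt : t * t = 1 := by
    rw [← pow_two, ← ht.1, pow_orderOf_eq_one]
  have hz := emb_zM e ht.1
  have hI : (((centralizer ({t} : Set G)).index : ℕ) : ℂ) ≠ 0 := by
    exact_mod_cast Subgroup.index_ne_zero_of_finite
  have c1 := Cfsg.Agent.Lib.Recog13.cnt_formula t t (emb e zM) htt
  have c2 := Cfsg.Agent.Lib.Recog13.cnt_formula t t (emb e cM) htt
  have c3 := Cfsg.Agent.Lib.Recog13.cnt_formula t t (emb e d1M) htt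
  rw [cnt_emb e ht (k := 1) (pow_one _), cnt_zM, card_cen_t e, hz] at c1
  rw [cnt_emb e ht c_pow, cnt_cM, card_cen_t e] at c2
  rw [cnt_emb e ht d1_pow, cnt_d1M, card_cen_t e] at c3
  simp only [dg_cast, (H _).ht, (H _).hc, (H _).h1] at c1 c2 c3
  have s1 := cnt_sum_cast (w := fun χ : IrrCharacter G => Q (z χ) (y χ) (τ χ) (x χ)) (q := fun χ : IrrCharacter G => Q (z χ) (y χ) (τ χ) (x χ))
    (d := dg) (c := 30) hI (by exact_mod_cast c1)
  have s2 := cnt_sum_cast (w := fun χ : IrrCharacter G => V (z χ) (y χ) (τ χ) (x χ)) (q := fun χ : IrrCharacter G => Q (z χ) (y χ) (τ χ) (x χ))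
    (d := dg) (c := 6) hI (by exact_mod_cast c2)
  set La : ℚ := ∑ χ : IrrCharacter G, ((Q (z χ) (y χ) (τ χ) (x χ) : ℤ) : ℚ) ^ 2 * ((Aa (z χ) (y χ) (τ χ) (x χ) : ℤ) : ℚ) / (dg χ : ℚ) with hLa
  set Lb : ℚ := ∑ χ : IrrCharacter G, ((Q (z χ) (y χ) (τ χ) (x χ) : ℤ) : ℚ) ^ 2 * ((Bb (y χ) (τ χ) : ℤ) : ℚ) / (dg χ : ℚ) with hLb
  set I : ℕ := (centralizer ({t} : Set G)).index with hIdef
  have hIq : (I : ℚ) ≠ 0 := by exact_mod_cast hI
  have e3 : (I : ℂ) * ((La : ℂ) + (Lb : ℂ) * phi) = 1200 := by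
    have : (La : ℂ) + (Lb : ℂ) * phi = ∑ χ : IrrCharacter G, ((Q (z χ) (y χ) (τ χ) (x χ) : ℤ) : ℂ) * ((Q (z χ) (y χ) (τ χ) (x χ) : ℤ) : ℂ) *
        (((Aa (z χ) (y χ) (τ χ) (x χ) : ℤ) : ℂ) + ((Bb (y χ) (τ χ) : ℤ) : ℂ) * phi) / (dg χ : ℂ) := by
      rw [hLa, hLb]
      push_cast
      rw [Finset.sum_mul, ← Finset.sum_add_distrib]
      refine Finset.sum_congr rfl fun χ _ => ?_
      ring
    rw [this, ← c3]
    push_cast
    norm_num
  have e4 : (((La - 1200 / (I : ℚ) : ℚ) : ℂ)) + ((Lb : ℚ) : ℂ) * phi = 0 := by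
    have hIc : (I : ℂ) ≠ 0 := hI
    push_cast
    field_simp
    linear_combination e3
  obtain ⟨r1, r2⟩ := phi_indep_rat e4
  refine ⟨?_, ?_, by linarith, r2⟩
  · rw [s1]; norm_num
  · rw [s2]; norm_num

end Columns

/-- The table of a simple group with the given involution centralizer. -/
theorem exists_tab [IsSimpleGroup G] (ht : IsTwoCentralInvolution t) :
    ∃ z y τ x : IrrCharacter G → ℤ, (∀ χ, RowH e χ (z χ) (y χ) (τ χ) (x χ)) ∧
      Tab.Tab (trivChar G) dg z y τ x (centralizer ({t} : Set G)).index := by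
  classical
  haveI : Fintype G := Fintype.ofFinite G
  choose z y τ x H using exists_row e ht
  refine ⟨z, y, τ, x, H, ?_⟩
  have hgr := gr_col e H ht
  obtain ⟨g1, g2, g3, g4, g5, g6, g7, g8, g9, g10⟩ := Tab.gram_fields hgr
  obtain ⟨d1, d2, d3, d4⟩ := deg_col e H ht
  obtain ⟨f1, f2, f3, f4⟩ := Tab.deg_fields (d := fun χ : IrrCharacter G => (dg χ : ℤ)) d1 d2 d3 d4
  obtain ⟨c1, c2, c3, c4⟩ := cnt_col e H ht
  have r0 := H (trivChar G)
  have a1 := r0.ht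
  have a2 := r0.hc
  have a3 := r0.h1
  simp only [coe_trivChar] at a1 a2 a3
  have b1 : Q (z (trivChar G)) (y (trivChar G)) (τ (trivChar G)) (x (trivChar G)) = 1 := by exact_mod_cast a1.symm
  have b2 : V (z (trivChar G)) (y (trivChar G)) (τ (trivChar G)) (x (trivChar G)) = 1 := by exact_mod_cast a2.symm
  have b3 : ((Aa (z (trivChar G)) (y (trivChar G)) (τ (trivChar G)) (x (trivChar G)) - 1 : ℤ) : ℂ) +
      ((Bb (y (trivChar G)) (τ (trivChar G)) : ℤ) : ℂ) * phi = 0 := by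
    push_cast
    linear_combination -a3
  obtain ⟨b4, b5⟩ := phi_indep_int b3
  simp only [Tab.Q, Tab.V, Tab.Aa, Tab.Bb] at b1 b2 b4 b5
  have hnc : ∃ u v : G, u * v ≠ v * u := ⟨emb e cM, emb e d1M, fun h => mdl_nc (emb_inj e (by
    rw [map_mul, map_mul]
    exact h))⟩
  exact
  { d_pos := dg_pos
    d_one := fun χ h => by
      by_contra hne
      exact Cfsg.Agent.Lib.Blocks.TI9.degree_ne_one_of_simple hnc hne (dg_cast χ) h
    d_i₀ := Cfsg.Agent.Lib.Blocks.Principal.charDegree_trivChar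
    z_i₀ := by omega
    y_i₀ := by omega
    t_i₀ := by omega
    x_i₀ := by omega
    gzz := g1
    gyy := g2
    gtt := g3
    gxx := g4
    gzy := g5
    gzt := g6
    gyt := g7
    gzx := g8
    gyx := g9
    gtx := g10
    dz := f1
    dy := f2
    dt := f3
    dx := f4
    mod8 := fun χ => (H χ).h8
    cq := c1
    cv := c2
    ca := c3
    cb := c4
    sq := by
      rw [sum_dg_sq, card_eq_index e]
    Ipos := Nat.pos_of_ne_zero Subgroup.index_ne_zero_of_finite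
    dvd := fun χ h => by
      haveI : Fintype G := Fintype.ofFinite G
      have h1 := Cfsg.Agent.Lib.Char.BrauerSCNum.dvd_of_value χ t _ (H χ).ht (dg χ) (dg_cast χ) (dg_pos χ).ne'
      have h2 : (Q (z χ) (y χ) (τ χ) (x χ)).natAbs = 1 := by
        rcases h with h | h <;> rw [h] <;> rfl
      rw [h2, mul_one] at h1
      exact_mod_cast h1
    gal := gal_row e ht H }

end Cfsg.Agent.Lib.J1Ord
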