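import Mathlib
import Cfsg.Agent.Lib.J1Ord.Build
import Cfsg.Agent.Lib.M11Ord.Five
import Cfsg.Agent.Lib.PGroup.PowZ

/-!
# A finite simple group with involution centralizer `Z₂ × A₅`: the order `189000` does not occur
-/

set_option autoImplicit false
set_option linter.unusedSectionVars false

namespace Cfsg.Agent.Lib.J1Ord

open Cfsg Subgroup Finset
open Cfsg.Agent.Lib.M11Ord
open Cfsg.Agent.Lib.Blocks.Principal (trivChar coe_trivChar)
open Cfsg.Agent.Lib.J1Ord.Tab (Q V Aa Bb Gr)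
open Cfsg.Agent.Lib.PGroup.PowZ
open scoped ComplexConjugate

universe u

/-- The sign character of a dihedral group. -/
def dihSign (n : ℕ) : DihedralGroup n →* ℂˣ :=
  MonoidHom.mk' (fun g => match g with
    | DihedralGroup.r _ => 1
    | DihedralGroup.sr _ => -1)
    (by rintro (a | a) (b | b) <;> simp)

/-- The elements of a dihedral group, split. -/
def dihEquiv (n : ℕ) : (ZMod n ⊕ ZMod n) ≃ DihedralGroup n where
  toFun := Sum.elim DihedralGroup.r DihedralGroup.sr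
  invFun g := match g with
    | DihedralGroup.r i => Sum.inl i
    | DihedralGroup.sr i => Sum.inr i
  left_inv := by rintro (a | a) <;> rfl
  right_inv := by rintro (a | a) <;> rfl

lemma dih_sum {n : ℕ} [NeZero n] (F : DihedralGroup n → ℂ) :
    ∑ g, F g = ∑ i, F (DihedralGroup.r i) + ∑ i, F (DihedralGroup.sr i) := by
  rw [← Equiv.sum_comp (dihEquiv n), Fintype.sum_sum_type]
  rfl

variable {G : Type u} [Group G] [Finite G]

/-- No involution can invert an element of order seven on which an irreducible character of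
degree `21` taking the value `5` on involutions vanishes. -/
theorem not_invert {s r : G} {κ : G → ℂ} (hκ : IsCharacter G κ) (hs : orderOf s = 7) (hrr : r * r = 1) (hr1 : r ≠ 1)
    (hrs : r * s * r⁻¹ = s⁻¹) (h1 : κ 1 = 21) (hv : ∀ g, 7 ∣ orderOf g → κ g = 0)
    (hi : ∀ g, g * g = 1 → g ≠ 1 → κ g = 5) : False := by
  classical
  have hs7 : s ^ 7 = 1 := by rw [← hs, pow_orderOf_eq_one]
  let f : DihedralGroup 7 →* G := dihedralHom s r hs7 hrr hrs
  have hc := Cfsg.Agent.Lib.Char.Basic.isCharacter_comp_hom hκ f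
  have hΛ : IsCharacter (DihedralGroup 7) (fun k => ((dihSign 7 k : ℂˣ) : ℂ)) := by
    obtain ⟨n, ρ, -, h⟩ := Cfsg.Agent.Lib.Char.LinearChars.isIrr_of_hom (dihSign 7)
    exact ⟨n, ρ, h⟩
  obtain ⟨u, hu⟩ := Cfsg.Agent.Lib.Char.Ortho.exists_nat_classInner_of_isCharacter hc hΛ
  rw [Cfsg.Agent.Lib.Char.Induced.classInner_def, DihedralGroup.nat_card, dih_sum] at hu
  have hr : ∀ i : ZMod 7, f (DihedralGroup.r i) = s ^ i.val := fun i => rfl
  have hsr : ∀ i : ZMod 7, f (DihedralGroup.sr i) = r * s ^ i.val := fun i => rfl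
  have hord : ∀ i : ZMod 7, i ≠ 0 → 7 ∣ orderOf (s ^ i.val) := by
    intro i hi0
    have h7 : Nat.Prime 7 := by norm_num
    have hne : s ^ i.val ≠ 1 := by
      intro h
      have h2 := orderOf_dvd_of_pow_eq_one h
      rw [hs] at h2
      have h3 := ZMod.val_lt i
      have h4 : i.val = 0 := by omega
      exact hi0 ((ZMod.val_eq_zero i).1 h4)
    have h5 : (s ^ i.val) ^ 7 = 1 := by rw [← pow_mul, mul_comm, pow_mul, hs7, one_pow]
    have h6 := orderOf_eq_prime (p := 7) (hp := ⟨h7⟩) h5 hne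
    rw [h6]
  have sgn_r : ∀ i : ZMod 7, ((dihSign 7 (DihedralGroup.r i) : ℂˣ) : ℂ) = 1 := fun i => rfl
  have sgn_s : ∀ i : ZMod 7, ((dihSign 7 (DihedralGroup.sr i) : ℂˣ) : ℂ) = -1 := fun i => rfl
  have hsum1 : ∑ i : ZMod 7, κ (f (DihedralGroup.r i)) * conj (((dihSign 7 (DihedralGroup.r i) : ℂˣ) : ℂ)) = 21 := by
    rw [Finset.sum_eq_single (0 : ZMod 7)]
    · rw [hr, ZMod.val_zero, pow_zero, h1, sgn_r, map_one, mul_one]
    · intro i _ hi0
      rw [hr, hv _ (hord i hi0), zero_mul]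
    · intro h
      exact absurd (Finset.mem_univ _) h
  have hinvol : ∀ k : ℕ, (r * s ^ k) * (r * s ^ k) = 1 := by
    intro k
    have h2 : r * s ^ k * r⁻¹ = (s ^ k)⁻¹ := by
      rw [← conj_pow, hrs, inv_pow]
    have hri : r⁻¹ = r := inv_eq_of_mul_eq_one_left hrr
    rw [hri] at h2
    calc r * s ^ k * (r * s ^ k) = (r * s ^ k * r) * s ^ k := by group
      _ = 1 := by rw [h2, inv_mul_cancel]
  have hne1 : ∀ k : ℕ, r * s ^ k ≠ 1 := by
    intro k h
    have h2 : r = (s ^ k)⁻¹ := eq_inv_of_mul_eq_one_left h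
    have h3 : r ^ 7 = 1 := by
      rw [h2, inv_pow, ← pow_mul, mul_comm, pow_mul, hs7, one_pow, inv_one]
    have h4 : r ^ 7 = r := by
      have : r ^ 7 = (r * r) ^ 3 * r := by rw [← pow_two, ← pow_mul, ← pow_succ]
      rw [this, hrr, one_pow, one_mul]
    exact hr1 (h4.symm.trans h3)
  have hsum2 : ∑ i : ZMod 7, κ (f (DihedralGroup.sr i)) * conj (((dihSign 7 (DihedralGroup.sr i) : ℂˣ) : ℂ)) = -35 := by
    have : ∀ i : ZMod 7, κ (f (DihedralGroup.sr i)) * conj (((dihSign 7 (DihedralGroup.sr i) : ℂˣ) : ℂ)) = -5 := by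
      intro i
      rw [hsr, hi _ (hinvol _) (hne1 _), sgn_s]
      simp
    rw [Finset.sum_congr rfl fun i _ => this i]
    simp [ZMod.card]
    norm_num
  rw [hsum1, hsum2] at hu
  have h14 : (u : ℂ) = -1 := by
    rw [← hu]
    norm_num
  have : ((u : ℤ) : ℂ) = ((-1 : ℤ) : ℂ) := by
    push_cast
    exact h14
  have h15 : (u : ℤ) = -1 := by exact_mod_cast this
  omega

lemma val_pow_of_int {χ : G → ℂ} (hχ : IsCharacter G χ) {g : G} (hg : g ^ 7 = 1) {n : ℤ} (hn : χ g = n) {j : ℕ}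
    (hj : j.Coprime 7) : χ (g ^ j) = n := by
  obtain ⟨m, ρ, rfl⟩ := hχ
  obtain ⟨τ, hτ⟩ := Cfsg.Agent.Lib.Char.Galois.exists_ringHom_pow 7 (by norm_num) j hj
  have := Cfsg.Agent.Lib.Char.Galois.map_character τ (by norm_num) hτ ρ g hg
  rw [hn, map_intCast] at this
  exact this.symm

variable {t : G} (e : ↥(centralizer ({t} : Set G)) ≃* Mdl)

lemma not_conj_seven {s : G} (hs7 : s ^ 7 = 1) {g : Mdl} (hg : g ^ 7 ≠ 1) : ¬ IsConj s (emb e g) := by
  intro h
  obtain ⟨c, hc⟩ := isConj_iff.1 h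
  apply hg
  apply emb_inj e
  rw [map_pow, map_one, ← hc, conj_pow, hs7]
  group

lemma phi_ne_half : (1 : ℂ) - 2 * phi ≠ 0 := by
  intro h
  have h1 : phi = 1 / 2 := by linear_combination (-1 / 2 : ℂ) * h
  have h2 := phi_sq
  rw [h1] at h2
  norm_num at h2

theorem no_1575 [IsSimpleGroup G] (ht : IsTwoCentralInvolution t) {z y τ x : IrrCharacter G → ℤ}
    (H : ∀ χ, RowH e χ (z χ) (y χ) (τ χ) (x χ))
    (hT : Tab.Tab (trivChar G) dg z y τ x (centralizer ({t} : Set G)).index)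
    (hI : (centralizer ({t} : Set G)).index = 1575)
    {ρ ξ ξ' κ : IrrCharacter G} (hρ : ρ ≠ trivChar G) (hdρ : dg ρ = 15) (zρ : z ρ = -1) (yρ : y ρ = 0) (τρ : τ ρ = 0)
    (xρ : x ρ = 0) (hdκ : dg κ = 21) (hQκ : Q (z κ) (y κ) (τ κ) (x κ) = 5) (hne : ξ ≠ ξ') (hx : x ξ = 1 ∨ x ξ = -1)
    (hx' : x ξ' = - x ξ) (hd : dg ξ' = dg ξ)
    (zξ : z ξ = 0) (yξ : y ξ = 0) (τξ : τ ξ = 0) (zξ' : z ξ' = 0) (yξ' : y ξ' = 0) (τξ' : τ ξ' = 0)
    (hxr : ∀ j, j ≠ ξ → j ≠ ξ' → x j = 0)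
    (hr1 : ∀ j, j ≠ trivChar G → j ≠ ρ → j ≠ ξ → j ≠ ξ' → 7 ∣ dg j ∨ Q (z j) (y j) (τ j) (x j) = 0)
    (hr2 : ∀ j, z j ≠ 0 → j = trivChar G ∨ j = ρ ∨ 7 ∣ dg j) : False := by
  classical
  haveI : Fintype G := Fintype.ofFinite G
  haveI : Fact (Nat.Prime 7) := ⟨by norm_num⟩
  have hcard : Nat.card G = 189000 := by
    rw [card_eq_index e, hI]
  obtain ⟨s, hs⟩ := exists_prime_orderOf_dvd_card' (G := G) 7 (by rw [hcard]; norm_num)
  have hs7 : s ^ 7 = 1 := by rw [← hs, pow_orderOf_eq_one]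
  have hvan : ∀ χ : IrrCharacter G, 7 ∣ dg χ → ∀ g, 7 ∣ orderOf g → (χ : G → ℂ) g = 0 := by
    intro χ hχ g hg
    exact vanish_of_dvd χ (p := 7) (n := 1) (by norm_num) (by rw [hcard]; norm_num) (by rw [hcard]; norm_num)
      (by simpa using hχ) g hg
  have hW0 : ∀ χ : IrrCharacter G, 7 ∣ dg χ → (χ : G → ℂ) s = 0 := fun χ hχ => hvan χ hχ s (by rw [hs])
  have htt : t * t = 1 := by
    rw [← pow_two, ← ht.1, pow_orderOf_eq_one]
  have hzt := emb_zM e ht.1
  -- No involution inverts `s`.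
  have hCnt : Cfsg.Agent.Lib.Recog13.Cnt t t s = 0 := by
    rw [Cfsg.Agent.Lib.Recog13.Cnt]
    haveI : IsEmpty {u : G // IsConj t u ∧ IsConj (u * s) t} := by
      constructor
      rintro ⟨u, h1, h2⟩
      obtain ⟨huu, hu1⟩ := (conj_t_iff e ht u).1 h1
      obtain ⟨hus, -⟩ := (conj_t_iff e ht _).1 h2.symm
      have hui : u⁻¹ = u := inv_eq_of_mul_eq_one_left huu
      have hinv : u * s * u⁻¹ = s⁻¹ := by
        rw [hui, eq_inv_iff_mul_eq_one]
        rw [← hus]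
        group
      refine not_invert (isChar κ) hs huu hu1 hinv ?_ (fun g hg => hvan κ (by rw [hdκ]; norm_num) g hg) ?_
      · rw [dg_cast, hdκ]
        norm_num
      · intro g hg1 hg2
        obtain ⟨c, hc⟩ := isConj_iff.1 (all_conj e ht g hg1 hg2)
        rw [← hc, Cfsg.Agent.Lib.Char.Basic.isClassFunction_of_isCharacter (isChar κ) _ _, (H κ).ht, hQκ]
        norm_num
    exact Nat.card_of_isEmpty
  -- Orthogonality relations
  have o1 := Cfsg.Agent.Lib.Char.CompleteCor.column_orth_not_conj (not_conj_seven e hs7 z_seven)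
  have o2 := Cfsg.Agent.Lib.Char.CompleteCor.column_orth_not_conj (not_conj_seven e hs7 c_seven)
  have o3 := Cfsg.Agent.Lib.Char.CompleteCor.column_orth_not_conj (not_conj_seven e hs7 d1_seven)
  have o4 := Cfsg.Agent.Lib.Char.CompleteCor.column_orth_not_conj (not_conj_seven e hs7 d2_seven)
  rw [hzt] at o1
  simp only [conj_t_val e H, conj_c_val e H, conj_d1_val e H, conj_d2_val e H] at o1 o2 o3 o4
  set W : IrrCharacter G → ℂ := fun χ => (χ : G → ℂ) s with hWdef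
  set SA : ℂ := ∑ χ : IrrCharacter G, W χ * ((Aa (z χ) (y χ) (τ χ) (x χ) : ℤ) : ℂ) with hSA
  set SB : ℂ := ∑ χ : IrrCharacter G, W χ * ((Bb (y χ) (τ χ) : ℤ) : ℂ) with hSB
  have o3' : SA + SB * phi = 0 := by
    rw [hSA, hSB, Finset.sum_mul, ← Finset.sum_add_distrib, ← o3]
    refine Finset.sum_congr rfl fun χ _ => ?_
    simp only [hWdef]
    ring
  have o4' : SA + SB - SB * phi = 0 := by
    rw [hSA, hSB, Finset.sum_mul, ← Finset.sum_add_distrib, ← Finset.sum_sub_distrib, ← o4]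
    refine Finset.sum_congr rfl fun χ _ => ?_
    simp only [hWdef]
    ring
  have hSB0 : SB = 0 := by
    have h5 : SB * (1 - 2 * phi) = 0 := by linear_combination o4' - o3'
    exact (mul_eq_zero.1 h5).resolve_right phi_ne_half
  have hSA0 : SA = 0 := by
    rw [hSB0] at o3'
    simpa using o3'
  have hSX : ∑ χ : IrrCharacter G, W χ * (x χ : ℂ) = 0 := by
    have : ∀ χ : IrrCharacter G, W χ * (x χ : ℂ) = (1 / 15 : ℂ) * ((χ : G → ℂ) s * ((Q (z χ) (y χ) (τ χ) (x χ) : ℤ) : ℂ)) +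
        (1 / 3 : ℂ) * ((χ : G → ℂ) s * ((V (z χ) (y χ) (τ χ) (x χ) : ℤ) : ℂ)) +
        (-2 / 5 : ℂ) * (W χ * ((Aa (z χ) (y χ) (τ χ) (x χ) : ℤ) : ℂ)) + (-1 / 5 : ℂ) * (W χ * ((Bb (y χ) (τ χ) : ℤ) : ℂ)) := by
      intro χ
      simp only [Tab.Q, Tab.V, Tab.Aa, Tab.Bb, hWdef]
      push_cast
      ring
    rw [Finset.sum_congr rfl fun χ _ => this χ]
    simp only [Finset.sum_add_distrib, ← Finset.mul_sum]
    rw [o1, o2, ← hSA, ← hSB, hSA0, hSB0]
    ring
  have hSZ : ∑ χ : IrrCharacter G, W χ * (z χ : ℂ) = 0 := by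
    have : ∀ χ : IrrCharacter G, W χ * (z χ : ℂ) = W χ * ((Aa (z χ) (y χ) (τ χ) (x χ) : ℤ) : ℂ) +
        W χ * ((Bb (y χ) (τ χ) : ℤ) : ℂ) + W χ * (x χ : ℂ) := by
      intro χ
      simp only [Tab.Aa, Tab.Bb]
      push_cast
      ring
    rw [Finset.sum_congr rfl fun χ _ => this χ]
    simp only [Finset.sum_add_distrib]
    rw [← hSA, ← hSB, hSX, hSA0, hSB0]
    ring
  have hWt : W (trivChar G) = 1 := rfl
  have hzt1 := hT.z_i₀
  have hWρ : W ρ = 1 := by
    have hsplit := Finset.sum_eq_add (s := univ) (f := fun χ : IrrCharacter G => W χ * (z χ : ℂ)) (trivChar G) ρ hρ.symm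
      (fun c _ hc => by
        by_cases hz : z c = 0
        · simp [hz]
        · rcases hr2 c hz with h | h | h
          · exact absurd h hc.1
          · exact absurd h hc.2
          · simp only [hWdef]
            rw [hW0 c h, zero_mul])
      (fun h => absurd (mem_univ _) h) (fun h => absurd (mem_univ _) h)
    rw [hSZ, hWt, hzt1, zρ] at hsplit
    push_cast at hsplit
    linear_combination hsplit
  have hxne : (x ξ : ℂ) ≠ 0 := by
    rcases hx with h | h <;> rw [h] <;> norm_num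
  have hWξ : W ξ' = W ξ := by
    have hsplit := Finset.sum_eq_add (s := univ) (f := fun χ : IrrCharacter G => W χ * (x χ : ℂ)) ξ ξ' hne
      (fun c _ hc => by
        rw [hxr c hc.1 hc.2]
        simp)
      (fun h => absurd (mem_univ _) h) (fun h => absurd (mem_univ _) h)
    rw [hSX, hx'] at hsplit
    push_cast at hsplit
    have h5 : (W ξ - W ξ') * (x ξ : ℂ) = 0 := by linear_combination -hsplit
    have h6 := (mul_eq_zero.1 h5).resolve_right hxne
    linear_combination -h6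
  -- The count
  have hf := Cfsg.Agent.Lib.Recog13.cnt_formula t t s htt
  rw [hCnt] at hf
  have hI0 : (((centralizer ({t} : Set G)).index : ℕ) : ℂ) ≠ 0 := by
    exact_mod_cast Subgroup.index_ne_zero_of_finite
  have hsum : ∑ χ : IrrCharacter G, (χ : G → ℂ) t * (χ : G → ℂ) t * (χ : G → ℂ) s / (χ : G → ℂ) 1 = 0 := by
    have h5 : ((centralizer ({t} : Set G)).index : ℂ) * ∑ χ : IrrCharacter G, (χ : G → ℂ) t * (χ : G → ℂ) t * (χ : G → ℂ) s / (χ : G → ℂ) 1 = 0 := by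
      rw [← hf]
      simp
    exact (mul_eq_zero.1 h5).resolve_left hI0
  simp only [(H _).ht, dg_cast] at hsum
  have hxt : x (trivChar G) = 0 := hT.x_i₀
  have hξ1 : ξ ≠ trivChar G := by
    rintro rfl
    rw [hxt] at hxne
    exact hxne (by norm_num)
  have hξ2 : ξ ≠ ρ := by
    rintro rfl
    rw [xρ] at hxne
    exact hxne (by norm_num)
  have hxne' : (x ξ' : ℂ) ≠ 0 := by
    rw [hx']
    push_cast
    exact neg_ne_zero.2 hxne
  have hξ'1 : ξ' ≠ trivChar G := by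
    intro h
    rw [h, hxt] at hxne'
    exact hxne' (by norm_num)
  have hξ'2 : ξ' ≠ ρ := by
    intro h
    rw [h, xρ] at hxne'
    exact hxne' (by norm_num)
  set f : IrrCharacter G → ℂ := fun χ => ((Q (z χ) (y χ) (τ χ) (x χ) : ℤ) : ℂ) * ((Q (z χ) (y χ) (τ χ) (x χ) : ℤ) : ℂ) * W χ / (dg χ : ℂ) with hf'
  have hS : ∑ χ ∈ ({trivChar G, ρ, ξ, ξ'} : Finset (IrrCharacter G)), f χ = ∑ χ : IrrCharacter G, f χ := by
    refine Finset.sum_subset (Finset.subset_univ _) fun j _ hj => ?_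
    simp only [Finset.mem_insert, Finset.mem_singleton, not_or] at hj
    rcases hr1 j hj.1 hj.2.1 hj.2.2.1 hj.2.2.2 with h | h
    · simp only [hf', hWdef]
      rw [hW0 j h]
      simp
    · simp only [hf']
      rw [h]
      simp
  have hS2 : ∑ χ ∈ ({trivChar G, ρ, ξ, ξ'} : Finset (IrrCharacter G)), f χ = f (trivChar G) + f ρ + f ξ + f ξ' := by
    rw [Finset.sum_insert (by simp [hρ.symm, hξ1.symm, hξ'1.symm]), Finset.sum_insert (by simp [hξ2.symm, hξ'2.symm]),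
      Finset.sum_pair hne]
    ring
  have hft : f (trivChar G) = 1 := by
    simp only [hf']
    rw [hWt, hT.d_i₀, hT.z_i₀, hT.y_i₀, hT.t_i₀, hT.x_i₀]
    norm_num [Tab.Q]
  have hfρ : f ρ = 1 / 15 := by
    simp only [hf']
    rw [hWρ, hdρ, zρ, yρ, τρ, xρ]
    norm_num [Tab.Q]
  have hsq : (x ξ : ℂ) * (x ξ : ℂ) = 1 := by
    rcases hx with h | h <;> rw [h] <;> norm_num
  have hfξ : f ξ = 16 * W ξ / (dg ξ : ℂ) := by
    simp only [hf']
    rw [zξ, yξ, τξ]
    have : Q 0 0 0 (x ξ) = 4 * x ξ := by simp [Tab.Q]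
    rw [this]
    push_cast
    congr 1
    linear_combination (16 * W ξ) * hsq
  have hfξ' : f ξ' = 16 * W ξ / (dg ξ : ℂ) := by
    simp only [hf']
    rw [zξ', yξ', τξ', hx', hd, hWξ]
    have : Q 0 0 0 (-x ξ) = -(4 * x ξ) := by simp [Tab.Q]
    rw [this]
    push_cast
    congr 1
    linear_combination (16 * W ξ) * hsq
  have hdξ0 : (dg ξ : ℂ) ≠ 0 := by exact_mod_cast (dg_pos ξ).ne'
  have hWval : W ξ = (((-(dg ξ : ℚ) / 30) : ℚ) : ℂ) := by
    have h5 : (1 : ℂ) + 1 / 15 + 16 * W ξ / (dg ξ : ℂ) + 16 * W ξ / (dg ξ : ℂ) = 0 := by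
      have hsum' : ∑ χ : IrrCharacter G, f χ = 0 := hsum
      rw [hS, hsum', hft, hfρ, hfξ, hfξ'] at hS2
      exact hS2.symm
    push_cast
    field_simp at h5 ⊢
    linear_combination (1 / 16 : ℂ) * h5
  have hint := Cfsg.Agent.Lib.Char.Values.IsCharacter.isIntegral (isChar ξ) s
  change IsIntegral ℤ (W ξ) at hint
  rw [hWval] at hint
  have hint2 : IsIntegral ℤ ((-(dg ξ : ℚ) / 30) : ℚ) := by
    have h2 : algebraMap ℚ ℂ ((-(dg ξ : ℚ) / 30) : ℚ) = (((-(dg ξ : ℚ) / 30) : ℚ) : ℂ) := rfl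
    rw [← h2] at hint
    exact (isIntegral_algebraMap_iff (algebraMap ℚ ℂ).injective).1 hint
  obtain ⟨n, hn⟩ := IsIntegrallyClosed.isIntegral_iff.1 hint2
  have hn' : ((n : ℤ) : ℚ) = -(dg ξ : ℚ) / 30 := hn
  have hen : (dg ξ : ℤ) = -30 * n := by
    have : ((dg ξ : ℤ) : ℚ) = ((-30 * n : ℤ) : ℚ) := by
      push_cast
      rw [hn']
      ring
    exact_mod_cast this
  have hWn : (ξ : G → ℂ) s = (n : ℂ) := by
    change W ξ = _
    rw [hWval, ← hn']
    simp
  obtain ⟨m, hm⟩ := mult_cyc (isChar ξ) s (n := 7) (by norm_num) hs7 (η := 1) (by norm_num)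
  simp only [Finset.sum_range_succ, Finset.sum_range_zero, one_pow, mul_one, pow_zero, zero_add] at hm
  rw [val_pow_of_int (isChar ξ) hs7 hWn (j := 1) (by norm_num), val_pow_of_int (isChar ξ) hs7 hWn (j := 2) (by norm_num),
    val_pow_of_int (isChar ξ) hs7 hWn (j := 3) (by norm_num), val_pow_of_int (isChar ξ) hs7 hWn (j := 4) (by norm_num),
    val_pow_of_int (isChar ξ) hs7 hWn (j := 5) (by norm_num), val_pow_of_int (isChar ξ) hs7 hWn (j := 6) (by norm_num),
    dg_cast] at hm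
  have hm' : (dg ξ : ℤ) + 6 * n = 7 * m := by
    have : (((dg ξ : ℤ) + 6 * n : ℤ) : ℂ) = ((7 * m : ℤ) : ℂ) := by
      push_cast
      linear_combination hm
    exact_mod_cast this
  have h8 := (H ξ).h8
  rw [zξ, yξ, τξ] at h8
  simp only [Tab.Q] at h8
  have hpos := dg_pos ξ
  have h420 : 420 ≤ dg ξ := by
    rcases hx with h | h <;> rw [h] at h8 <;> omega
  have hbig := Nat.pow_le_pow_left h420 2
  have hsum2 := sum_dg_sq (G := G)
  rw [Tab.sum_two (fun χ : IrrCharacter G => dg χ ^ 2) hne, hd, hcard] at hsum2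
  omega

include e in
/-- **Janko's theorem on the order**: a finite simple group with involution centralizer `Z₂ × A₅`
(the involution being `2`-central) has order `175560`. -/
theorem card_eq [IsSimpleGroup G] (ht : IsTwoCentralInvolution t) : Nat.card G = 175560 := by
  classical
  obtain ⟨z, y, τ, x, H, hT⟩ := exists_tab e ht
  rcases Tab.main hT with h | ⟨hI, ρ, ξ, ξ', κ, a1, a2, a3, a4, a5, a6, a7, a8, a9, a10, a11, a12, a13, a14, a15, a16, a17, a18, a19, a20, a21⟩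
  · rw [card_eq_index e, h]
  · exact (no_1575 e ht H hT hI a1 a2 a3 a4 a5 a6 a7 a8 a9 a10 a11 a12 a13 a14 a15 a16 a17 a18 a19 a20 a21).elim

end Cfsg.Agent.Lib.J1Ord
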