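import Mathlib

/-!
# General lemmas for the uniqueness of `J₁`
-/

set_option autoImplicit false

namespace Cfsg.Agent.Lib.J1Ord

open Subgroup
open scoped Pointwise

/-- An involution on a finite set has as many fixed points as points, modulo two. -/
theorem card_fixed_mod_two {X : Type*} [Finite X] (f : X → X) (hf : ∀ x, f (f x) = x) :
    Nat.card X ≡ Nat.card {x // f x = x} [MOD 2] := by
  classical
  haveI := Fintype.ofFinite X
  haveI hf2 : Fact (Nat.Prime 2) := ⟨Nat.prime_two⟩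
  let F : Function.End X := f
  have hF : F ^ 2 ^ 1 = 1 := by
    rw [pow_one, pow_two]
    funext x
    exact hf x
  have h := Equiv.Perm.card_fixedPoints_modEq hF
  have e1 : Nat.card {x // f x = x} = Nat.card (Function.fixedPoints F) := rfl
  rw [e1, Nat.card_eq_fintype_card, Nat.card_eq_fintype_card]
  convert h

/-- Two commuting involutions on a finite set of odd size have a common fixed point. -/
theorem common_fixed {X : Type*} [Finite X] (hX : Odd (Nat.card X)) (f g : X → X) (hf : ∀ x, f (f x) = x)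
    (hg : ∀ x, g (g x) = x) (hfg : ∀ x, f (g x) = g (f x)) : ∃ x, f x = x ∧ g x = x := by
  have h1 := card_fixed_mod_two f hf
  have h2 : Odd (Nat.card {x // f x = x}) := by
    rw [Nat.odd_iff] at hX ⊢
    unfold Nat.ModEq at h1
    omega
  let g' : {x // f x = x} → {x // f x = x} := fun x => ⟨g x.1, by rw [hfg, x.2]⟩
  have h3 := card_fixed_mod_two g' (fun x => Subtype.ext (hg x.1))
  have h4 : Odd (Nat.card {y // g' y = y}) := by
    rw [Nat.odd_iff] at h2 ⊢
    unfold Nat.ModEq at h3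
    omega
  have h5 : Nonempty {y // g' y = y} := by
    by_contra hc
    rw [not_nonempty_iff] at hc
    rw [Nat.card_of_isEmpty] at h4
    exact absurd h4 (by decide)
  obtain ⟨⟨⟨x, hx⟩, hy⟩⟩ := h5
  exact ⟨x, hx, congrArg Subtype.val hy⟩

/-- Elements of a subgroup generated by an involution. -/
theorem mem_zpowers_of_sq {Γ : Type*} [Group Γ] {τ y : Γ} (hτ : τ * τ = 1) (hy : y ∈ zpowers τ) : y = 1 ∨ y = τ := by
  obtain ⟨k, rfl⟩ := hy
  rcases Int.even_or_odd' k with ⟨m, rfl | rfl⟩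
  · left
    show τ ^ (2 * m) = 1
    rw [zpow_mul, zpow_two, hτ, one_zpow]
  · right
    show τ ^ (2 * m + 1) = τ
    rw [zpow_add, zpow_mul, zpow_two, hτ, one_zpow, one_mul, zpow_one]

/-- A subgroup of twice odd order has a subgroup of odd order containing all its elements of odd order. -/
theorem exists_odd_part {Γ : Type*} [Group Γ] [Finite Γ] (C : Subgroup Γ) {τ : Γ} (hτ : τ ∈ C) (hττ : τ * τ = 1)
    (hτ1 : τ ≠ 1) {r : ℕ} (hr : Odd r) (hC : Nat.card C = 2 * r) :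
    ∃ R : Subgroup Γ, R ≤ C ∧ Nat.card R = r ∧ ∀ y ∈ C, Odd (orderOf y) → y ∈ R := by
  haveI hf2 : Fact (Nat.Prime 2) := ⟨Nat.prime_two⟩
  let τ' : C := ⟨τ, hτ⟩
  have hτ'τ' : τ' * τ' = 1 := Subtype.ext hττ
  have hτ'1 : τ' ≠ 1 := fun h => hτ1 (congrArg Subtype.val h)
  have hord : orderOf τ' = 2 := orderOf_eq_prime (by rw [pow_two]; exact hτ'τ') hτ'1
  have hcP : Nat.card (zpowers τ') = 2 := by rw [Nat.card_zpowers, hord]
  have hpg : IsPGroup 2 (zpowers τ') := IsPGroup.of_card (n := 1) (by rw [hcP, pow_one])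
  have hidx : (zpowers τ').index = r := by
    have h := Subgroup.card_mul_index (zpowers τ')
    rw [hcP, hC] at h
    exact Nat.eq_of_mul_eq_mul_left (by norm_num) h
  have hnd : ¬ 2 ∣ (zpowers τ').index := by
    rw [hidx]
    exact hr.not_two_dvd_nat
  let P : Sylow 2 C := hpg.toSylow hnd
  have hP : (P : Subgroup C) = zpowers τ' := rfl
  have hnc : normalizer ((P : Subgroup C) : Set C) ≤ centralizer ((P : Subgroup C) : Set C) := by
    intro g hg
    rw [mem_normalizer_iff, hP] at hg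
    rw [mem_centralizer_iff]
    intro h hh
    have hh' : h ∈ zpowers τ' := by rw [← hP]; exact hh
    have h1 : g * τ' * g⁻¹ ∈ zpowers τ' := (hg τ').1 (mem_zpowers τ')
    have h2 : g * τ' * g⁻¹ = τ' := by
      rcases mem_zpowers_of_sq hτ'τ' h1 with h3 | h3
      · exfalso
        apply hτ'1
        have : τ' = g⁻¹ * (g * τ' * g⁻¹) * g := by group
        rw [this, h3]
        group
      · exact h3
    have h3 : g * τ' = τ' * g := by
      calc g * τ' = (g * τ' * g⁻¹) * g := by group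
        _ = τ' * g := by rw [h2]
    rcases mem_zpowers_of_sq hτ'τ' hh' with rfl | rfl
    · simp
    · exact h3.symm
  haveI hfi : (P : Subgroup C).FiniteIndex := ⟨by rw [hP, hidx]; exact hr.pos.ne'⟩
  have hcomp := MonoidHom.ker_transferSylow_isComplement' P hnc
  set K := (MonoidHom.transferSylow P hnc).ker with hK
  have hKcard : Nat.card K = r := by
    have h := hcomp.card_mul_card
    rw [show Nat.card ((P : Subgroup C)) = 2 from by rw [hP, hcP], hC, mul_comm] at h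
    exact Nat.eq_of_mul_eq_mul_left (by norm_num) h
  have hKidx : K.index = 2 := by
    have h := Subgroup.card_mul_index K
    rw [hKcard, hC] at h
    have hr0 : 0 < r := hr.pos
    rw [mul_comm 2 r] at h
    exact Nat.eq_of_mul_eq_mul_left hr0 h
  refine ⟨K.map C.subtype, ?_, ?_, ?_⟩
  · rintro _ ⟨y, -, rfl⟩
    exact y.2
  · rw [Subgroup.card_map_of_injective C.subtype_injective, hKcard]
  · intro y hy hodd
    have hsq : ∀ a : C, a ^ 2 ∈ K := Subgroup.sq_mem_of_index_two hKidx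
    obtain ⟨k, hk⟩ := hodd
    have hy' : (⟨y, hy⟩ : C) ^ (2 * k + 1) = 1 := by
      apply Subtype.ext
      show y ^ (2 * k + 1) = 1
      rw [← hk, pow_orderOf_eq_one]
    have h1 : (⟨y, hy⟩ : C) = ((⟨y, hy⟩ : C) ^ 2) ^ (k + 1) := by
      rw [← pow_mul]
      rw [show 2 * (k + 1) = (2 * k + 1) + 1 by ring, pow_succ, hy', one_mul]
    refine ⟨⟨y, hy⟩, ?_, rfl⟩
    rw [SetLike.mem_coe, h1]
    exact pow_mem (hsq _) _

/-- Conjugation by an involution normalizing a subgroup, as an automorphism. -/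
def conjAutOf {Γ : Type*} [Group Γ] (R : Subgroup Γ) (g : Γ) (hg : g * g = 1) (n : ∀ y ∈ R, g * y * g⁻¹ ∈ R) :
    MulAut R where
  toFun y := ⟨g * y * g⁻¹, n y y.2⟩
  invFun y := ⟨g * y * g⁻¹, n y y.2⟩
  left_inv y := by
    apply Subtype.ext
    have h : g⁻¹ = g := inv_eq_of_mul_eq_one_left hg
    show g * (g * y * g⁻¹) * g⁻¹ = y
    rw [h]
    calc g * (g * y * g) * g = (g * g) * y * (g * g) := by group
      _ = y := by rw [hg]; group
  right_inv y := by
    apply Subtype.ext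
    have h : g⁻¹ = g := inv_eq_of_mul_eq_one_left hg
    show g * (g * y * g⁻¹) * g⁻¹ = y
    rw [h]
    calc g * (g * y * g) * g = (g * g) * y * (g * g) := by group
      _ = y := by rw [hg]; group
  map_mul' a b := by
    apply Subtype.ext
    show g * (a * b) * g⁻¹ = g * a * g⁻¹ * (g * b * g⁻¹)
    group

/-- Two commuting involutions normalizing a subgroup of odd order normalize a Sylow subgroup of it. -/
theorem exists_invariant_sylow {Γ : Type*} [Group Γ] [Finite Γ] (R : Subgroup Γ) (hR : Odd (Nat.card R)) {p : ℕ}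
    [hp : Fact p.Prime] (hpR : p ∣ Nat.card R) {g₁ g₂ : Γ} (h₁ : g₁ * g₁ = 1) (h₂ : g₂ * g₂ = 1)
    (h₁₂ : g₁ * g₂ = g₂ * g₁) (n₁ : ∀ y ∈ R, g₁ * y * g₁⁻¹ ∈ R) (n₂ : ∀ y ∈ R, g₂ * y * g₂⁻¹ ∈ R) :
    ∃ Q : Subgroup Γ, Q ≤ R ∧ IsPGroup p Q ∧ p ∣ Nat.card Q ∧ (∀ y ∈ Q, g₁ * y * g₁⁻¹ ∈ Q) ∧
      (∀ y ∈ Q, g₂ * y * g₂⁻¹ ∈ Q) := by
  let τ₁ := conjAutOf R g₁ h₁ n₁
  let τ₂ := conjAutOf R g₂ h₂ n₂
  have hinv₁ : g₁⁻¹ = g₁ := inv_eq_of_mul_eq_one_left h₁
  have hinv₂ : g₂⁻¹ = g₂ := inv_eq_of_mul_eq_one_left h₂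
  have h11 : τ₁ * τ₁ = 1 := by
    ext y
    show g₁ * (g₁ * y * g₁⁻¹) * g₁⁻¹ = y
    rw [hinv₁]
    calc g₁ * (g₁ * y * g₁) * g₁ = (g₁ * g₁) * y * (g₁ * g₁) := by group
      _ = y := by rw [h₁]; group
  have h22 : τ₂ * τ₂ = 1 := by
    ext y
    show g₂ * (g₂ * y * g₂⁻¹) * g₂⁻¹ = y
    rw [hinv₂]
    calc g₂ * (g₂ * y * g₂) * g₂ = (g₂ * g₂) * y * (g₂ * g₂) := by group
      _ = y := by rw [h₂]; group
  have h12 : τ₁ * τ₂ = τ₂ * τ₁ := by
    ext y
    show g₁ * (g₂ * y * g₂⁻¹) * g₁⁻¹ = g₂ * (g₁ * y * g₁⁻¹) * g₂⁻¹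
    calc g₁ * (g₂ * y * g₂⁻¹) * g₁⁻¹ = (g₁ * g₂) * y * (g₁ * g₂)⁻¹ := by group
      _ = (g₂ * g₁) * y * (g₂ * g₁)⁻¹ := by rw [h₁₂]
      _ = g₂ * (g₁ * y * g₁⁻¹) * g₂⁻¹ := by group
  have hodd : Odd (Nat.card (Sylow p R)) := by
    let P₀ : Sylow p R := default
    have h1 := Sylow.card_dvd_index P₀
    have h2 := (Subgroup.index_dvd_card (P₀ : Subgroup R))
    exact hR.of_dvd_nat (h1.trans h2)
  obtain ⟨Q, hQ1, hQ2⟩ := common_fixed hodd (fun Q : Sylow p R => τ₁ • Q) (fun Q : Sylow p R => τ₂ • Q)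
    (fun Q => by
      show τ₁ • τ₁ • Q = Q
      rw [smul_smul, h11, one_smul])
    (fun Q => by
      show τ₂ • τ₂ • Q = Q
      rw [smul_smul, h22, one_smul])
    (fun Q => by
      show τ₁ • τ₂ • Q = τ₂ • τ₁ • Q
      rw [smul_smul, smul_smul, h12])
  refine ⟨(Q : Subgroup R).map R.subtype, ?_, Q.isPGroup'.map _, ?_, ?_, ?_⟩
  · rintro _ ⟨y, -, rfl⟩
    exact y.2
  · rw [Subgroup.card_map_of_injective R.subtype_injective]
    exact Q.dvd_card_of_dvd_card hpR
  · rintro _ ⟨y, hy, rfl⟩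
    have h := Subgroup.smul_mem_pointwise_smul y τ₁ (Q : Subgroup R) hy
    rw [← Sylow.pointwise_smul_def, hQ1] at h
    exact ⟨τ₁ y, h, rfl⟩
  · rintro _ ⟨y, hy, rfl⟩
    have h := Subgroup.smul_mem_pointwise_smul y τ₂ (Q : Subgroup R) hy
    rw [← Sylow.pointwise_smul_def, hQ2] at h
    exact ⟨τ₂ y, h, rfl⟩

/-- An involution normalizing a group of prime order centralizes or inverts it. -/
theorem conj_eq_or_inv {Γ : Type*} [Group Γ] {f g : Γ} {p : ℕ} (hp : p.Prime) (hf : orderOf f = p) (hg : g * g = 1)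
    (hm : g * f * g⁻¹ ∈ zpowers f) : g * f * g⁻¹ = f ∨ g * f * g⁻¹ = f⁻¹ := by
  obtain ⟨k, hk⟩ := hm
  have hk' : f ^ k = g * f * g⁻¹ := hk
  have hinv : g⁻¹ = g := inv_eq_of_mul_eq_one_left hg
  have h1 : g * (g * f * g⁻¹) * g⁻¹ = f := by
    rw [hinv]
    calc g * (g * f * g) * g = (g * g) * f * (g * g) := by group
      _ = f := by rw [hg]; group
  have h2 : g * (f ^ k) * g⁻¹ = f ^ (k * k) := by
    rw [← conj_zpow, ← hk', zpow_mul]
  rw [← hk', h2] at h1
  have h3 : f ^ (k * k - 1) = 1 := by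
    rw [zpow_sub, h1]
    simp
  have h4 : (orderOf f : ℤ) ∣ k * k - 1 := orderOf_dvd_iff_zpow_eq_one.2 h3
  rw [hf] at h4
  have h5 : (p : ℤ) ∣ (k - 1) * (k + 1) := by
    have : (k - 1) * (k + 1) = k * k - 1 := by ring
    rw [this]
    exact h4
  have hpi : Prime (p : ℤ) := Nat.prime_iff_prime_int.1 hp
  rcases hpi.dvd_or_dvd h5 with h6 | h6
  · left
    rw [← hf] at h6
    have h7 := orderOf_dvd_iff_zpow_eq_one.1 h6
    rw [← hk']
    rw [zpow_sub_one] at h7
    have : f ^ k = f := by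
      rw [mul_inv_eq_one] at h7
      exact h7
    exact this
  · right
    rw [← hf] at h6
    have h7 := orderOf_dvd_iff_zpow_eq_one.1 h6
    rw [← hk']
    rw [zpow_add_one] at h7
    exact eq_inv_of_mul_eq_one_left h7

end Cfsg.Agent.Lib.J1Ord
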