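import Mathlib
import Cfsg.Agent.Lib.J1Ord.Model
import Cfsg.Agent.Lib.J1Ord.Pres

/-!
# The model `Z₂ × A₅`: computations for the uniqueness of `J₁`
-/

set_option autoImplicit false

namespace Cfsg.Agent.Lib.J1Ord

open Equiv Multiplicative Cfsg.Agent.Lib.J1Ord.Pres

/-- the involution `(1 3)(2 4)` -/
def x₀ : A5 := ⟨swap 1 3 * swap 2 4, Perm.mem_alternatingGroup.2 (by decide)⟩
/-- the three-cycle `(0 1 4)` -/
def d₀ : A5 := ⟨swap 0 1 * swap 1 4, Perm.mem_alternatingGroup.2 (by decide)⟩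

/-- the element `x` of the model -/
def xM : Mdl := (1, x₀)
/-- the element `s` of the model -/
def sM : Mdl := (1, r₀)
/-- the element `a` of the model -/
def aM : Mdl := (1, u₁)
/-- the element `b` of the model -/
def bM : Mdl := (1, u₃)
/-- the element `c` of the model -/
def vM : Mdl := (1, u₂)
/-- the element `d` of the model -/
def dM : Mdl := (1, d₀)

section
set_option maxRecDepth 100000
set_option synthInstance.maxSize 5000
set_option synthInstance.maxHeartbeats 200000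

lemma ua_model : uaE xM sM = aM := by decide +kernel
lemma ub_model : ubE xM sM = bM := by decide +kernel
lemma dd_model : ddE xM sM = dM := by decide +kernel
lemma x_sq_model : xM * xM = 1 := by decide +kernel
lemma s_cube_model : sM * sM * sM = 1 := by decide +kernel
lemma xs5_model : (xM * sM) ^ 5 = 1 := by decide +kernel
lemma aa_model : aM * aM = 1 := by decide +kernel
lemma as3_model : (aM * sM) ^ 3 = 1 := by decide +kernel
lemma s_a_model : sM * aM * sM⁻¹ = bM := by decide +kernel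
lemma s_b_model : sM * bM * sM⁻¹ = vM := by decide +kernel
lemma ab_model : aM * bM = vM := by decide +kernel
lemma aM_T : inV aM.2 := by decide +kernel
lemma bM_T : inV bM.2 := by decide +kernel
lemma vM_T : inV vM.2 := by decide +kernel
lemma sM_T : ∀ y : Mdl, inV y.2 ↔ inV (sM * y * sM⁻¹).2 := by decide +kernel
lemma T_comm_model : ∀ x y : Mdl, inV x.2 → inV y.2 → x * y = y * x := by decide +kernel
lemma fix_s_model : ∀ y : Mdl, inV y.2 → sM * y * sM⁻¹ = y → y = 1 ∨ y = zM := by decide +kernel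
lemma no7_model : ∀ x : Mdl, x ^ 7 = 1 → x = 1 := by decide +kernel
lemma no11_model : ∀ x : Mdl, x ^ 11 = 1 → x = 1 := by decide +kernel
lemma no19_model : ∀ x : Mdl, x ^ 19 = 1 → x = 1 := by decide +kernel
lemma x_not_norm_model : ¬ inV (xM * aM * xM⁻¹).2 := by decide +kernel
lemma norm_count : (Finset.univ.filter (fun x : Mdl => ∀ y : Mdl, inV y.2 ↔ inV (x * y * x⁻¹).2)).card = 24 := by
  decide +kernel
lemma Tsharp_count : (Finset.univ.filter (fun x : Mdl => inV x.2 ∧ x ≠ 1)).card = 7 := by decide +kernel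
lemma cen_dM_count : (Finset.univ.filter (fun x : Mdl => x * dM = dM * x)).card = 6 := by decide +kernel
lemma a_d_model : aM * dM * aM⁻¹ = dM⁻¹ := by decide +kernel
lemma d_cube_model : dM ^ 3 = 1 := by decide +kernel
lemma d_ne_model : dM ≠ 1 := by decide +kernel
lemma d_ne_inv_model : dM⁻¹ ≠ dM := by decide +kernel
lemma sM_order : orderOf sM = 3 := by
  haveI : Fact (Nat.Prime 3) := ⟨Nat.prime_three⟩
  apply orderOf_eq_prime
  · decide +kernel
  · decide +kernel

/-- the first candidates -/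
lemma cand_I : ∀ φ : Mdl, φ ^ 5 = 1 → φ ≠ 1 → (zM * bM) * φ * (zM * bM)⁻¹ = φ⁻¹ →
    (φ = xM * sM * xM * sM⁻¹ ∨ φ ^ 2 = xM * sM * xM * sM⁻¹ ∨ φ ^ 3 = xM * sM * xM * sM⁻¹ ∨ φ ^ 4 = xM * sM * xM * sM⁻¹) ∨
    (φ = xM * sM ∨ φ ^ 2 = xM * sM ∨ φ ^ 3 = xM * sM ∨ φ ^ 4 = xM * sM) := by
  decide +kernel

/-- the second candidates -/
lemma cand_II : ∀ φ : Mdl, φ ^ 5 = 1 → φ ≠ 1 → vM * φ * vM⁻¹ = φ⁻¹ →
    (φ = xM * sM⁻¹ ∨ φ ^ 2 = xM * sM⁻¹ ∨ φ ^ 3 = xM * sM⁻¹ ∨ φ ^ 4 = xM * sM⁻¹) ∨
    (φ = xM * sM * xM * sM * xM ∨ φ ^ 2 = xM * sM * xM * sM * xM ∨ φ ^ 3 = xM * sM * xM * sM * xM ∨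
      φ ^ 4 = xM * sM * xM * sM * xM) := by
  decide +kernel

end

/-- Conjugation by the transposition `(0 1)` on the model. -/
def rhoA : A5 ≃* A5 := MulAut.conjNormal (swap (0 : Fin 5) 1)

/-- Conjugation by the transposition `(0 1)` on the model. -/
def rho : Mdl ≃* Mdl := MulEquiv.prodCongr (MulEquiv.refl _) rhoA

section
set_option maxRecDepth 100000
set_option synthInstance.maxSize 5000
set_option synthInstance.maxHeartbeats 200000

lemma rho_rho : ∀ x : Mdl, rho (rho x) = x := by decide +kernel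
lemma rho_s : rho sM = sM⁻¹ := by decide +kernel
lemma rho_a : rho aM = aM := by decide +kernel
lemma rho_T : ∀ x : Mdl, inV (rho x).2 ↔ inV x.2 := by decide +kernel

end

end Cfsg.Agent.Lib.J1Ord
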