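import Mathlib
import Cfsg.Agent.Lib.J1Ord.UniqModel
import Cfsg.Agent.Lib.J1Ord.Local
import Cfsg.Agent.Lib.Basic.SylowUtil

/-!
# The normalizer of the Sylow `2`-subgroup, and the element of order seven
-/

set_option autoImplicit false

namespace Cfsg.Agent.Lib.J1Ord

open Cfsg Subgroup

universe u

/-- A transitive count. -/
theorem card_subgroup_of_conj_trans {G : Type*} [Group G] [Finite G] (N : Subgroup G) (t : G) (Y : Finset G)
    (h1 : ∀ n ∈ N, n * t * n⁻¹ ∈ Y) (h2 : ∀ y ∈ Y, ∃ n ∈ N, n * t * n⁻¹ = y) :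
    Nat.card N = Y.card * Nat.card ↥(N ⊓ centralizer ({t} : Set G)) := by
  classical
  haveI := Fintype.ofFinite G
  let s : Finset G := Finset.univ.filter (· ∈ N)
  let s₀ : Finset G := Finset.univ.filter (· ∈ N ⊓ centralizer ({t} : Set G))
  have hs : Nat.card N = s.card := by
    rw [Nat.card_eq_fintype_card, Fintype.card_subtype]
  have hs₀ : Nat.card ↥(N ⊓ centralizer ({t} : Set G)) = s₀.card := by
    rw [Nat.card_eq_fintype_card, Fintype.card_subtype]
  rw [hs, hs₀]
  have hm : Set.MapsTo (fun n => n * t * n⁻¹) (s : Set G) (Y : Set G) := by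
    intro n hn
    have hn' : n ∈ N := (Finset.mem_filter.1 (Finset.mem_coe.1 hn)).2
    exact Finset.mem_coe.2 (h1 n hn')
  rw [Finset.card_eq_sum_card_fiberwise hm]
  have hfib : ∀ y ∈ Y, (s.filter (fun n => n * t * n⁻¹ = y)).card = s₀.card := by
    intro y hy
    obtain ⟨n₀, hn₀, hy₀⟩ := h2 y hy
    symm
    refine Finset.card_bij (fun m _ => n₀ * m) ?_ ?_ ?_
    · intro m hm
      have hm' := (Finset.mem_filter.1 hm).2
      rw [Subgroup.mem_inf, mem_centralizer_iff] at hm'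
      refine Finset.mem_filter.2 ⟨Finset.mem_filter.2 ⟨Finset.mem_univ _, mul_mem hn₀ hm'.1⟩, ?_⟩
      have hc : t * m = m * t := hm'.2 t rfl
      calc n₀ * m * t * (n₀ * m)⁻¹ = n₀ * (m * t) * m⁻¹ * n₀⁻¹ := by group
        _ = n₀ * (t * m) * m⁻¹ * n₀⁻¹ := by rw [hc]
        _ = n₀ * t * n₀⁻¹ := by group
        _ = y := hy₀
    · intro a _ b _ hab
      exact mul_left_cancel hab
    · intro b hb
      have hb' := Finset.mem_filter.1 hb
      have hbN : b ∈ N := (Finset.mem_filter.1 hb'.1).2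
      have hb2 : b * t * b⁻¹ = y := hb'.2
      refine ⟨n₀⁻¹ * b, Finset.mem_filter.2 ⟨Finset.mem_univ _, ?_⟩, by group⟩
      rw [Subgroup.mem_inf]
      refine ⟨mul_mem (inv_mem hn₀) hbN, ?_⟩
      rw [mem_centralizer_iff]
      intro h hh
      rw [Set.mem_singleton_iff] at hh
      subst hh
      have h3 : b * h * b⁻¹ = n₀ * h * n₀⁻¹ := hb2.trans hy₀.symm
      calc h * (n₀⁻¹ * b) = n₀⁻¹ * (n₀ * h * n₀⁻¹) * b := by group
        _ = n₀⁻¹ * (b * h * b⁻¹) * b := by rw [h3]
        _ = n₀⁻¹ * b * h := by group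
  rw [Finset.sum_congr rfl hfib, Finset.sum_const, smul_eq_mul]

variable {G : Type u} [Group G] {t : G} (e : ↥(centralizer ({t} : Set G)) ≃* Mdl)

lemma emb_mem_T {x : Mdl} : emb e x ∈ TG e ↔ inV x.2 := by
  constructor
  · rintro ⟨y, hy, hxy⟩
    have := emb_inj e hxy
    rw [← this]
    exact hy
  · intro h
    exact ⟨x, h, rfl⟩

lemma mem_T_iff {y : G} : y ∈ TG e ↔ ∃ x : Mdl, inV x.2 ∧ emb e x = y := by
  constructor
  · rintro ⟨x, hx, rfl⟩
    exact ⟨x, hx, rfl⟩
  · rintro ⟨x, hx, rfl⟩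
    exact ⟨x, hx, rfl⟩

lemma T_comm {y z : G} (hy : y ∈ TG e) (hz : z ∈ TG e) : y * z = z * y := by
  obtain ⟨u, hu, rfl⟩ := hy
  obtain ⟨v, hv, rfl⟩ := hz
  rw [← map_mul, ← map_mul, T_comm_model u v hu hv]

lemma T_sq' {y : G} (hy : y ∈ TG e) : y * y = 1 := by
  obtain ⟨u, hu, rfl⟩ := hy
  rw [← map_mul, T_sq u hu, map_one]

lemma t_mem_T (ht : orderOf t = 2) : t ∈ TG e := by
  have h := (emb_mem_T e).2 zM_inV
  rwa [emb_zM e ht] at h

lemma emb_mem_N_of {x : Mdl} (hx : ∀ y : Mdl, inV y.2 ↔ inV (x * y * x⁻¹).2) :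
    emb e x ∈ normalizer ((TG e : Subgroup G) : Set G) := by
  rw [mem_normalizer_iff]
  intro h
  constructor
  · rintro ⟨y, hy, rfl⟩
    rw [← map_inv, ← map_mul, ← map_mul]
    exact (emb_mem_T e).2 ((hx y).1 hy)
  · intro h2
    obtain ⟨z, hz, hzh⟩ := h2
    have hh : h = emb e (x⁻¹ * z * x) := by
      rw [map_mul, map_mul, map_inv]
      have h3 : emb e z = emb e x * h * (emb e x)⁻¹ := hzh
      rw [h3]
      group
    rw [hh]
    apply (emb_mem_T e).2
    apply (hx _).2
    have : x * (x⁻¹ * z * x) * x⁻¹ = z := by group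
    rw [this]
    exact hz

lemma norm_of_emb_mem_N {x : Mdl} (hx : emb e x ∈ normalizer ((TG e : Subgroup G) : Set G)) :
    ∀ y : Mdl, inV y.2 ↔ inV (x * y * x⁻¹).2 := by
  intro y
  rw [mem_normalizer_iff] at hx
  have h := hx (emb e y)
  rw [emb_mem_T, ← map_inv, ← map_mul, ← map_mul, emb_mem_T] at h
  exact h

/-- The normalizer of the Sylow subgroup. -/
noncomputable def NG : Subgroup G := normalizer ((TG e : Subgroup G) : Set G)

variable [Finite G]

lemma card_N_cap (ht : orderOf t = 2) : Nat.card ↥(NG e ⊓ centralizer ({t} : Set G)) = 24 := by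
  classical
  rw [← norm_count]
  let f : {x : Mdl // ∀ y : Mdl, inV y.2 ↔ inV (x * y * x⁻¹).2} → ↥(NG e ⊓ centralizer ({t} : Set G)) :=
    fun x => ⟨emb e x.1, by
      rw [Subgroup.mem_inf]
      refine ⟨emb_mem_N_of e x.2, ?_⟩
      rw [mem_centralizer_iff]
      intro h hh
      rw [Set.mem_singleton_iff] at hh
      subst hh
      exact (emb_comm e _).symm⟩
  have hf : Function.Bijective f := by
    constructor
    · intro a b hab
      have h0 : (f a).1 = (f b).1 := by rw [hab]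
      exact Subtype.ext (emb_inj e h0)
    · rintro ⟨g, hg⟩
      rw [Subgroup.mem_inf, mem_centralizer_iff] at hg
      have hc : g * t = t * g := (hg.2 t rfl).symm
      obtain ⟨x, rfl⟩ := exists_emb e hc
      exact ⟨⟨x, norm_of_emb_mem_N e hg.1⟩, rfl⟩
  rw [← Nat.card_congr (Equiv.ofBijective f hf), Nat.card_eq_fintype_card, Fintype.card_subtype]

/-- The nonidentity elements of the Sylow subgroup. -/
noncomputable def Tsharp : Finset G := by
  classical
  exact (Finset.univ.filter (fun x : Mdl => inV x.2 ∧ x ≠ 1)).image (emb e)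

lemma mem_Tsharp {y : G} : y ∈ Tsharp e ↔ y ∈ TG e ∧ y ≠ 1 := by
  classical
  simp only [Tsharp, Finset.mem_image, Finset.mem_filter, Finset.mem_univ, true_and]
  constructor
  · rintro ⟨x, ⟨hx, hx1⟩, rfl⟩
    exact ⟨(emb_mem_T e).2 hx, fun h => hx1 (emb_inj e (h.trans (map_one _).symm))⟩
  · rintro ⟨⟨x, hx, rfl⟩, hy⟩
    refine ⟨x, ⟨hx, ?_⟩, rfl⟩
    rintro rfl
    exact hy (map_one _)

lemma card_Tsharp : (Tsharp e).card = 7 := by
  classical
  rw [Tsharp, Finset.card_image_of_injective _ (emb_inj e), Tsharp_count]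

variable [IsSimpleGroup G]

/-- Burnside fusion in the Sylow subgroup. -/
theorem fus (ht : IsTwoCentralInvolution t) {y : G} (hy : y ∈ TG e) (hy1 : y ≠ 1) :
    ∃ n ∈ NG e, n * t * n⁻¹ = y := by
  haveI hf2 : Fact (Nat.Prime 2) := ⟨Nat.prime_two⟩
  obtain ⟨Q, hQ⟩ := exists_sylow_TG e ht
  have hc := all_conj e ht y (T_sq' e hy) hy1
  rw [isConj_iff] at hc
  obtain ⟨c, hc⟩ := hc
  obtain ⟨n, hn, hn2⟩ := Cfsg.Agent.Lib.Basic.SylowUtil.burnside_fusion Q ({t} : Set G) c
    (by
      intro x hx z hz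
      rw [Set.mem_singleton_iff] at hx
      subst hx
      rw [hQ] at hz
      exact T_comm e (t_mem_T e ht.1) hz)
    (by
      intro x hx z hz
      rw [Set.mem_singleton_iff] at hx
      subst hx
      rw [hQ] at hz
      rw [hc]
      exact T_comm e hy hz)
  refine ⟨n, ?_, ?_⟩
  · rw [NG, ← hQ]
    exact hn
  · rw [hn2 t rfl, hc]

/-- The order of the normalizer. -/
theorem card_N (ht : IsTwoCentralInvolution t) : Nat.card (NG e) = 168 := by
  rw [card_subgroup_of_conj_trans (NG e) t (Tsharp e), card_Tsharp, card_N_cap e ht.1]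
  · intro n hn
    rw [mem_Tsharp]
    constructor
    · rw [NG, mem_normalizer_iff] at hn
      exact (hn t).1 (t_mem_T e ht.1)
    · intro h
      have h1 : t = 1 := by
        have : t = n⁻¹ * (n * t * n⁻¹) * n := by group
        rw [this, h]
        group
      rw [h1] at ht
      have := ht.1
      simp at this
  · intro y hy
    rw [mem_Tsharp] at hy
    exact fus e ht hy.1 hy.2

end Cfsg.Agent.Lib.J1Ord
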