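import Mathlib
import Cfsg.Agent.Lib.J1Ord.UniqN

/-!
# The element of order seven in the normalizer of the Sylow `2`-subgroup
-/

set_option autoImplicit false

namespace Cfsg.Agent.Lib.J1Ord

open Cfsg Subgroup

universe u

/-- The order of a Sylow subgroup when the prime divides the order exactly once. -/
theorem card_sylow_prime {Γ : Type*} [Group Γ] [Finite Γ] {p : ℕ} [hp : Fact p.Prime] (Q : Sylow p Γ) {m : ℕ}
    (hm : Nat.card Γ = p * m) (hpm : ¬ p ∣ m) : Nat.card Q = p := by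
  obtain ⟨k, hk⟩ := IsPGroup.iff_card.1 Q.isPGroup'
  have hmul := Subgroup.card_mul_index (Q : Subgroup Γ)
  have hp0 : 0 < p := hp.out.pos
  rcases k with _ | _ | k
  · exfalso
    rw [hk, hm, pow_zero, one_mul] at hmul
    exact Q.not_dvd_index (hmul ▸ Dvd.intro m rfl)
  · rw [hk, pow_one]
  · exfalso
    apply hpm
    have h1 : p ^ (k + 2) ∣ p * m := hm ▸ (hk ▸ (Dvd.intro _ hmul))
    have h2 : p * p ∣ p * m := (Dvd.intro (p ^ k) (by ring)).trans h1
    exact Nat.dvd_of_mul_dvd_mul_left hp0 h2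

variable {G : Type u} [Group G] {t : G} (e : ↥(centralizer ({t} : Set G)) ≃* Mdl)

lemma s_mem_N : emb e sM ∈ NG e := emb_mem_N_of e sM_T

lemma s_comm_t : emb e sM * t = t * emb e sM := emb_comm e _

lemma s_cube : emb e sM * emb e sM * emb e sM = 1 := by
  rw [← map_mul, ← map_mul, s_cube_model, map_one]

include e in
lemma seven_free {g : G} (hg : g * t = t * g) (h7 : g ^ 7 = 1) : g = 1 := by
  obtain ⟨x, rfl⟩ := exists_emb e hg
  have : x ^ 7 = 1 := emb_inj e (by rw [map_pow, h7, map_one])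
  rw [no7_model x this, map_one]

variable [Finite G] [IsSimpleGroup G]

/-- An element of order seven normalized by `s`. -/
theorem exists_sylow7 (ht : IsTwoCentralInvolution t) :
    ∃ w₀ ∈ NG e, orderOf w₀ = 7 ∧ ∃ j, j < 7 ∧ emb e sM * w₀ * (emb e sM)⁻¹ = w₀ ^ j := by
  haveI hf7 : Fact (Nat.Prime 7) := ⟨by norm_num⟩
  haveI hf3 : Fact (Nat.Prime 3) := ⟨Nat.prime_three⟩
  have hN := card_N e ht
  have hcardQ : ∀ Q : Sylow 7 (NG e), Nat.card Q = 7 := fun Q =>
    card_sylow_prime Q (m := 24) (by rw [hN]) (by norm_num)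
  let P : Sylow 7 (NG e) := default
  have hn1 := card_sylow_modEq_one 7 (NG e)
  have hn2 := Sylow.card_dvd_index P
  have hidx : (P : Subgroup (NG e)).index = 24 := by
    have h := Subgroup.card_mul_index (P : Subgroup (NG e))
    rw [hcardQ P, hN] at h
    omega
  rw [hidx] at hn2
  have hn3 : ¬ 3 ∣ Nat.card (Sylow 7 (NG e)) := by
    have hle := Nat.le_of_dvd (by norm_num) hn2
    unfold Nat.ModEq at hn1
    generalize Nat.card (Sylow 7 (NG e)) = n at *
    clear hidx hcardQ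
    interval_cases n <;> omega
  let σ : NG e := ⟨emb e sM, s_mem_N e⟩
  have hσ : orderOf σ = 3 := by
    rw [← Subgroup.orderOf_coe]
    show orderOf (emb e sM) = 3
    rw [orderOf_injective (emb e) (emb_inj e), sM_order]
  have hp3 : IsPGroup 3 (zpowers σ) := IsPGroup.of_card (n := 1) (by rw [Nat.card_zpowers, hσ, pow_one])
  have hfix := hp3.card_modEq_card_fixedPoints (Sylow 7 (NG e))
  have hne : Nonempty (MulAction.fixedPoints (zpowers σ) (Sylow 7 (NG e))) := by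
    by_contra hc
    rw [not_nonempty_iff] at hc
    have h0 : Nat.card (MulAction.fixedPoints (zpowers σ) (Sylow 7 (NG e))) = 0 := Nat.card_of_isEmpty
    rw [h0] at hfix
    exact hn3 ((Nat.modEq_zero_iff_dvd).1 hfix)
  obtain ⟨⟨Q, hQ⟩⟩ := hne
  have hQσ : σ • Q = Q := hQ ⟨σ, mem_zpowers σ⟩
  rw [Sylow.smul_eq_iff_mem_normalizer] at hQσ
  replace hQσ : σ ∈ normalizer (((Q : Subgroup (NG e))) : Set (NG e)) := hQσ
  rw [mem_normalizer_iff] at hQσ
  have hQ7 := hcardQ Q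
  obtain ⟨w₁, hw₁, hw₁1⟩ : ∃ w₁ ∈ (Q : Subgroup (NG e)), w₁ ≠ 1 := by
    by_contra hc
    push Not at hc
    have : (Q : Subgroup (NG e)) = ⊥ := (Subgroup.eq_bot_iff_forall _).2 hc
    rw [this, Subgroup.card_bot] at hQ7
    omega
  have h7 : w₁ ^ 7 = 1 := by
    have h1 : (⟨w₁, hw₁⟩ : (Q : Subgroup (NG e))) ^ Nat.card Q = 1 := pow_card_eq_one'
    rw [hQ7] at h1
    exact congrArg Subtype.val h1
  have hord : orderOf w₁ = 7 := orderOf_eq_prime h7 hw₁1
  have hzp : zpowers w₁ = (Q : Subgroup (NG e)) := by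
    apply Subgroup.eq_of_le_of_card_ge
    · exact (Subgroup.zpowers_le).2 hw₁
    · rw [Nat.card_zpowers, hord, hQ7]
  have hcj : σ * w₁ * σ⁻¹ ∈ zpowers w₁ := by
    rw [hzp]
    exact (hQσ w₁).1 hw₁
  have hcj' := mem_powers_iff_mem_zpowers.2 hcj
  obtain ⟨n, hn⟩ := hcj'
  refine ⟨(w₁ : G), w₁.2, ?_, n % 7, Nat.mod_lt _ (by norm_num), ?_⟩
  · rw [Subgroup.orderOf_coe, hord]
  · have h2 : w₁ ^ (n % 7) = σ * w₁ * σ⁻¹ := by
      rw [← hn, ← hord, pow_mod_orderOf]
    have h3 := congrArg Subtype.val h2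
    exact h3.symm

omit [IsSimpleGroup G] in
/-- The exponents. -/
theorem exp_cube {σ w₀ : G} (hσ : σ * σ * σ = 1) (h7 : orderOf w₀ = 7) {j : ℕ} (hj : j < 7)
    (hc : σ * w₀ * σ⁻¹ = w₀ ^ j) : j = 1 ∨ j = 2 ∨ j = 4 := by
  have h1 : σ * (σ * (σ * w₀ * σ⁻¹) * σ⁻¹) * σ⁻¹ = w₀ := by
    have h0 : σ⁻¹ = σ * σ := by
      rw [inv_eq_iff_mul_eq_one, ← mul_assoc, hσ]
    calc σ * (σ * (σ * w₀ * σ⁻¹) * σ⁻¹) * σ⁻¹ = (σ * σ * σ) * w₀ * (σ * σ * σ)⁻¹ := by group
      _ = w₀ := by rw [hσ]; group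
  have h2 : σ * (w₀ ^ j) * σ⁻¹ = w₀ ^ (j * j) := by
    rw [← conj_pow, hc, ← pow_mul]
  have h3 : σ * (w₀ ^ (j * j)) * σ⁻¹ = w₀ ^ (j * j * j) := by
    rw [← conj_pow, hc, ← pow_mul]
    congr 1
    ring
  rw [hc, h2, h3] at h1
  have h4 : w₀ ^ (j * j * j) = w₀ ^ 1 := by rw [h1, pow_one]
  rw [pow_eq_pow_iff_modEq, h7] at h4
  unfold Nat.ModEq at h4
  clear h1 h2 h3 hc
  interval_cases j <;> simp_all

/-- An element of order seven normalized by `s` with the right exponent. -/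
theorem exists_w0 (ht : IsTwoCentralInvolution t) :
    ∃ w₀ ∈ NG e, orderOf w₀ = 7 ∧ ∃ j, (j = 2 ∨ j = 4) ∧ emb e sM * w₀ * (emb e sM)⁻¹ = w₀ ^ j := by
  obtain ⟨w₀, hw₀, h7, j, hj, hc⟩ := exists_sylow7 e ht
  refine ⟨w₀, hw₀, h7, j, ?_, hc⟩
  rcases exp_cube (s_cube e) h7 hj hc with rfl | h | h
  · exfalso
    rw [pow_one] at hc
    have ht1 : t ≠ 1 := by
      intro h
      have := ht.1
      rw [h] at this
      simp at this
    have hw1 : w₀ ≠ 1 := by
      intro h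
      rw [h, orderOf_one] at h7
      omega
    have hy : w₀ * t * w₀⁻¹ ∈ TG e := by
      rw [NG, mem_normalizer_iff] at hw₀
      exact (hw₀ t).1 (t_mem_T e ht.1)
    obtain ⟨z, hz, hzy⟩ := (mem_T_iff e).1 hy
    have hst : emb e sM * t * (emb e sM)⁻¹ = t := by
      rw [s_comm_t e]
      group
    have hfix : emb e (sM * z * sM⁻¹) = emb e z := by
      rw [map_mul, map_mul, map_inv, hzy]
      calc emb e sM * (w₀ * t * w₀⁻¹) * (emb e sM)⁻¹
          = (emb e sM * w₀ * (emb e sM)⁻¹) * (emb e sM * t * (emb e sM)⁻¹) *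
            (emb e sM * w₀ * (emb e sM)⁻¹)⁻¹ := by group
        _ = w₀ * t * w₀⁻¹ := by rw [hc, hst]
    rcases fix_s_model z hz (emb_inj e hfix) with rfl | rfl
    · apply ht1
      rw [map_one] at hzy
      have : t = w₀⁻¹ * (w₀ * t * w₀⁻¹) * w₀ := by group
      rw [this, ← hzy]
      group
    · rw [emb_zM e ht.1] at hzy
      apply hw1
      apply seven_free e
      · calc w₀ * t = (w₀ * t * w₀⁻¹) * w₀ := by group
          _ = t * w₀ := by rw [← hzy]
      · rw [← h7, pow_orderOf_eq_one]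
  · exact Or.inl h
  · exact Or.inr h

/-- An element of order seven moving `t` to `a`. -/
theorem exists_w (ht : IsTwoCentralInvolution t) :
    ∃ w ∈ NG e, w ^ 7 = 1 ∧ w * t * w⁻¹ = emb e aM ∧
      (emb e sM * w * (emb e sM)⁻¹ = w ^ 2 ∨ emb e sM * w * (emb e sM)⁻¹ = w ^ 4) := by
  classical
  obtain ⟨w₀, hw₀, h7, j, hj, hc⟩ := exists_w0 e ht
  have ht1 : t ≠ 1 := by
    intro h
    have := ht.1
    rw [h] at this
    simp at this
  have h71 : w₀ ^ 7 = 1 := by rw [← h7, pow_orderOf_eq_one]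
  let P₀ : ℕ → G := fun i => w₀ ^ i * t * (w₀ ^ i)⁻¹
  have hne : ∀ a b, a < b → b < 7 → P₀ a ≠ P₀ b := by
    intro a b hab hb h
    have hb' : w₀ ^ b = w₀ ^ a * w₀ ^ (b - a) := by
      rw [← pow_add]
      congr 1
      omega
    have h2 : w₀ ^ (b - a) * t * (w₀ ^ (b - a))⁻¹ = t := by
      have h3 : P₀ b = w₀ ^ a * (w₀ ^ (b - a) * t * (w₀ ^ (b - a))⁻¹) * (w₀ ^ a)⁻¹ := by
        show w₀ ^ b * t * (w₀ ^ b)⁻¹ = _
        rw [hb']
        group
      have h4 : P₀ a = w₀ ^ a * t * (w₀ ^ a)⁻¹ := rfl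
      rw [h4, h3] at h
      have h5 := mul_left_cancel (mul_right_cancel h)
      exact h5.symm
    have h3 : w₀ ^ (b - a) * t = t * w₀ ^ (b - a) := by
      calc w₀ ^ (b - a) * t = (w₀ ^ (b - a) * t * (w₀ ^ (b - a))⁻¹) * w₀ ^ (b - a) := by group
        _ = t * w₀ ^ (b - a) := by rw [h2]
    have h4 : w₀ ^ (b - a) = 1 := seven_free e h3 (by rw [← pow_mul, mul_comm, pow_mul, h71, one_pow])
    have h5 := orderOf_dvd_of_pow_eq_one h4
    rw [h7] at h5
    have := Nat.le_of_dvd (by omega) h5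
    omega
  have hinj : Set.InjOn P₀ (Finset.range 7 : Set ℕ) := by
    intro a ha b hb h
    have ha' := Finset.mem_range.1 (Finset.mem_coe.1 ha)
    have hb' := Finset.mem_range.1 (Finset.mem_coe.1 hb)
    rcases lt_trichotomy a b with h1 | h1 | h1
    · exact absurd h (hne a b h1 hb')
    · exact h1
    · exact absurd h.symm (hne b a h1 ha')
  have hsub : (Finset.range 7).image P₀ ⊆ Tsharp e := by
    intro y hy
    obtain ⟨i, -, rfl⟩ := Finset.mem_image.1 hy
    rw [mem_Tsharp]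
    constructor
    · have hp : w₀ ^ i ∈ NG e := pow_mem hw₀ i
      rw [NG, mem_normalizer_iff] at hp
      exact (hp t).1 (t_mem_T e ht.1)
    · intro h
      apply ht1
      have h5 : w₀ ^ i * t * (w₀ ^ i)⁻¹ = 1 := h
      have : t = (w₀ ^ i)⁻¹ * (w₀ ^ i * t * (w₀ ^ i)⁻¹) * w₀ ^ i := by group
      rw [this, h5]
      group
  have heq : (Finset.range 7).image P₀ = Tsharp e := by
    apply Finset.eq_of_subset_of_card_le hsub
    rw [card_Tsharp, Finset.card_image_of_injOn hinj, Finset.card_range]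
  have ha : emb e aM ∈ Tsharp e := by
    rw [mem_Tsharp]
    refine ⟨(emb_mem_T e).2 aM_T, fun h => ?_⟩
    have : aM = 1 := emb_inj e (h.trans (map_one _).symm)
    exact absurd this (by decide +kernel)
  rw [← heq] at ha
  obtain ⟨i, -, hi⟩ := Finset.mem_image.1 ha
  refine ⟨w₀ ^ i, pow_mem hw₀ i, ?_, hi, ?_⟩
  · rw [← pow_mul, mul_comm, pow_mul, h71, one_pow]
  · have hcj : emb e sM * w₀ ^ i * (emb e sM)⁻¹ = (w₀ ^ i) ^ j := by
      rw [← conj_pow, hc, ← pow_mul, ← pow_mul, mul_comm]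
    rcases hj with rfl | rfl
    · exact Or.inl hcj
    · exact Or.inr hcj

/-- The data of the element `w`. -/
structure GoodW {G : Type u} [Group G] {t : G} (e : ↥(centralizer ({t} : Set G)) ≃* Mdl) (w : G) : Prop where
  h7 : w ^ 7 = 1
  hs : emb e sM * w * (emb e sM)⁻¹ = w ^ 2
  hw : w * t * w⁻¹ = emb e aM
  hN : w ∈ NG e

omit [Finite G] [IsSimpleGroup G] in
lemma emb_trans (x : Mdl) : emb (e.trans rho) x = emb e (rho x) := by
  have h : rho.symm x = rho x := by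
    rw [MulEquiv.symm_apply_eq, rho_rho]
  simp only [emb, MonoidHom.coe_comp, Function.comp_apply, MulEquiv.coe_toMonoidHom, MulEquiv.symm_trans_apply, h]

omit [Finite G] [IsSimpleGroup G] in
lemma TG_trans : TG (e.trans rho) = TG e := by
  ext y
  rw [mem_T_iff, mem_T_iff]
  constructor
  · rintro ⟨x, hx, rfl⟩
    rw [emb_trans]
    exact ⟨rho x, (rho_T x).2 hx, rfl⟩
  · rintro ⟨x, hx, rfl⟩
    refine ⟨rho x, (rho_T x).2 hx, ?_⟩
    rw [emb_trans, rho_rho]

include e in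
/-- Up to the choice of the isomorphism, the exponent is two. -/
theorem exists_goodW (ht : IsTwoCentralInvolution t) :
    ∃ (e' : ↥(centralizer ({t} : Set G)) ≃* Mdl) (w : G), GoodW e' w := by
  obtain ⟨w, hN, h7, hw, h | h⟩ := exists_w e ht
  · exact ⟨e, w, h7, h, hw, hN⟩
  · refine ⟨e.trans rho, w, h7, ?_, ?_, ?_⟩
    · rw [emb_trans, rho_s, map_inv, inv_inv]
      set σ := emb e sM with hσ
      set v := σ⁻¹ * w * σ with hv
      have h1 : v ^ 4 = w := by
        have h3 := conj_pow (a := σ⁻¹) (b := w) (i := 4)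
        simp only [inv_inv] at h3
        rw [hv, h3, ← h]
        group
      have h2 : v ^ 7 = 1 := by
        have h3 := conj_pow (a := σ⁻¹) (b := w) (i := 7)
        simp only [inv_inv] at h3
        rw [hv, h3, h7]
        group
      calc v = v ^ 8 := by
            rw [show (8 : ℕ) = 7 + 1 by norm_num, pow_succ, h2, one_mul]
        _ = (v ^ 4) ^ 2 := by rw [← pow_mul]
        _ = w ^ 2 := by rw [h1]
    · rw [emb_trans, rho_a, hw]
    · have : NG (e.trans rho) = NG e := by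
        rw [NG, NG, TG_trans]
      rw [this]
      exact hN

end Cfsg.Agent.Lib.J1Ord
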