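import Mathlib
import Cfsg.Agent.Lib.J1Ord.UniqW
import Cfsg.Agent.Lib.J1Ord.UniqGen
import Cfsg.Agent.Lib.J1Ord.Kill

/-!
# An element of order five centralizing the element of order three
-/

set_option autoImplicit false

namespace Cfsg.Agent.Lib.J1Ord

open Cfsg Subgroup

universe u

/-- Arithmetic of the order of the centralizer. -/
theorem prime_of_C {n : ℕ} (h6 : 6 ∣ n) (hd : n ∣ 175560) (h4 : ¬ 4 ∣ n) (hn : n ≠ 6) :
    ∃ p, p.Prime ∧ p ∣ n ∧ (p = 5 ∨ p = 7 ∨ p = 11 ∨ p = 19) := by
  obtain ⟨m, rfl⟩ := h6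
  have hm1 : m ≠ 1 := by
    rintro rfl
    exact hn rfl
  have hmd : m ∣ 29260 := by
    have : 6 * m ∣ 6 * 29260 := by simpa using hd
    exact Nat.dvd_of_mul_dvd_mul_left (by norm_num) this
  have hm2 : ¬ 2 ∣ m := by
    rintro ⟨k, rfl⟩
    apply h4
    exact ⟨3 * k, by ring⟩
  refine ⟨m.minFac, Nat.minFac_prime hm1, (Nat.minFac_dvd m).trans (Dvd.intro_left 6 rfl), ?_⟩
  have hp := Nat.minFac_prime hm1
  have hpd : m.minFac ∣ 2 * 2 * 5 * 7 * 11 * 19 := (Nat.minFac_dvd m).trans hmd
  have hp2 : m.minFac ≠ 2 := by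
    intro h
    apply hm2
    rw [← h]
    exact Nat.minFac_dvd m
  have pr : ∀ q : ℕ, q.Prime → m.minFac ∣ q → m.minFac = q := fun q hq h =>
    (Nat.prime_dvd_prime_iff_eq hp hq).1 h
  rcases (Nat.Prime.dvd_mul hp).1 hpd with h | h
  · rcases (Nat.Prime.dvd_mul hp).1 h with h | h
    · rcases (Nat.Prime.dvd_mul hp).1 h with h | h
      · rcases (Nat.Prime.dvd_mul hp).1 h with h | h
        · rcases (Nat.Prime.dvd_mul hp).1 h with h | h
          · exact absurd (pr 2 Nat.prime_two h) hp2
          · exact absurd (pr 2 Nat.prime_two h) hp2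
        · exact Or.inl (pr 5 (by norm_num) h)
      · exact Or.inr (Or.inl (pr 7 (by norm_num) h))
    · exact Or.inr (Or.inr (Or.inl (pr 11 (by norm_num) h)))
  · exact Or.inr (Or.inr (Or.inr (pr 19 (by norm_num) h)))

variable {G : Type u} [Group G] {t : G} (e : ↥(centralizer ({t} : Set G)) ≃* Mdl)

lemma emb_d_comm_t : emb e dM * t = t * emb e dM := emb_comm e _

/-- The centralizer of `d` meets the centralizer of `t` in a group of order six. -/
lemma card_cap [Finite G] : Nat.card ↥(centralizer ({emb e dM} : Set G) ⊓ centralizer ({t} : Set G)) = 6 := by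
  classical
  rw [← cen_dM_count]
  let f : {x : Mdl // x * dM = dM * x} → ↥(centralizer ({emb e dM} : Set G) ⊓ centralizer ({t} : Set G)) :=
    fun x => ⟨emb e x.1, by
      rw [Subgroup.mem_inf, mem_centralizer_iff, mem_centralizer_iff]
      constructor
      · intro h hh
        rw [Set.mem_singleton_iff] at hh
        subst hh
        rw [← map_mul, ← map_mul, x.2]
      · intro h hh
        rw [Set.mem_singleton_iff] at hh
        subst hh
        exact (emb_comm e _).symm⟩
  have hf : Function.Bijective f := by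
    constructor
    · intro a b hab
      have h0 : (f a).1 = (f b).1 := by rw [hab]
      exact Subtype.ext (emb_inj e h0)
    · rintro ⟨g, hg⟩
      rw [Subgroup.mem_inf, mem_centralizer_iff, mem_centralizer_iff] at hg
      have hc : g * t = t * g := (hg.2 t rfl).symm
      obtain ⟨x, rfl⟩ := exists_emb e hc
      refine ⟨⟨x, ?_⟩, rfl⟩
      apply emb_inj e
      rw [map_mul, map_mul]
      exact (hg.1 _ rfl).symm
  rw [← Nat.card_congr (Equiv.ofBijective f hf), Nat.card_eq_fintype_card, Fintype.card_subtype]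

lemma mem_cen_d_iff {y : G} : y ∈ centralizer ({emb e dM} : Set G) ↔ y * emb e dM = emb e dM * y := by
  rw [mem_centralizer_iff]
  constructor
  · intro h
    exact (h _ rfl).symm
  · intro h z hz
    rw [Set.mem_singleton_iff] at hz
    subst hz
    exact h.symm

variable [Finite G]

/-- Four does not divide the order of the centralizer of `d`. -/
lemma not_four_dvd (ht : orderOf t = 2) : ¬ 4 ∣ Nat.card (centralizer ({emb e dM} : Set G)) := by
  intro h4
  haveI hf2 : Fact (Nat.Prime 2) := ⟨Nat.prime_two⟩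
  set C := centralizer ({emb e dM} : Set G) with hC
  have htC : t ∈ C := by
    rw [hC, mem_cen_d_iff]
    exact (emb_d_comm_t e).symm
  let t' : C := ⟨t, htC⟩
  have ht' : orderOf t' = 2 := by
    rw [← Subgroup.orderOf_coe]
    exact ht
  obtain ⟨K, hK1, hK2⟩ := Sylow.exists_subgroup_card_pow_prime_le 2 (n := 1) (m := 2) (by simpa using h4) (zpowers t')
    (by rw [Nat.card_zpowers, ht', pow_one]) (by norm_num)
  haveI hcomm := IsPGroup.isMulCommutative_of_card_eq_prime_sq hK1
  have hle : K.map C.subtype ≤ centralizer ({emb e dM} : Set G) ⊓ centralizer ({t} : Set G) := by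
    rintro _ ⟨y, hy, rfl⟩
    rw [Subgroup.mem_inf]
    refine ⟨y.2, ?_⟩
    rw [mem_centralizer_iff]
    intro z hz
    rw [Set.mem_singleton_iff] at hz
    subst hz
    have h1 : t' ∈ K := hK2 (mem_zpowers t')
    have h2 : (⟨t', h1⟩ : K) * ⟨y, hy⟩ = ⟨y, hy⟩ * ⟨t', h1⟩ := hcomm.is_comm.comm _ _
    have h3 := congrArg (fun z : K => ((z : C) : G)) h2
    exact h3
  have h5 := Subgroup.card_dvd_of_le hle
  rw [card_cap e, Subgroup.card_map_of_injective C.subtype_injective, hK1] at h5
  norm_num at h5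

lemma t_sq (ht : orderOf t = 2) : t * t = 1 := by
  rw [← pow_two, ← ht, pow_orderOf_eq_one]

lemma d_cube : (emb e dM) ^ 3 = 1 := by
  rw [← map_pow, d_cube_model, map_one]

lemma d_order : orderOf (emb e dM) = 3 := by
  haveI : Fact (Nat.Prime 3) := ⟨Nat.prime_three⟩
  refine orderOf_eq_prime (d_cube e) ?_
  intro h
  exact d_ne_model (emb_inj e (h.trans (map_one _).symm))

lemma a_conj_d : emb e aM * emb e dM * (emb e aM)⁻¹ = (emb e dM)⁻¹ := by
  rw [← map_inv, ← map_mul, ← map_mul, a_d_model, map_inv]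

lemma mem_zpowers_d {y : G} (hy : y ∈ zpowers (emb e dM)) : y = 1 ∨ y = emb e dM ∨ y = (emb e dM)⁻¹ := by
  have h3 := d_cube e
  obtain ⟨n, rfl⟩ := mem_powers_iff_mem_zpowers.2 hy
  have h := Nat.mod_lt n (show 3 > 0 by norm_num)
  have h2 : (emb e dM) ^ n = (emb e dM) ^ (n % 3) := by
    rw [← d_order e, pow_mod_orderOf]
  show (emb e dM) ^ n = 1 ∨ (emb e dM) ^ n = emb e dM ∨ (emb e dM) ^ n = (emb e dM)⁻¹
  rw [h2]
  generalize n % 3 = k at h
  interval_cases k
  · simp
  · simp
  · right; right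
    rw [eq_inv_iff_mul_eq_one, ← pow_succ, h3]

/-- The centralizer of `d` has index two in the normalizer of the subgroup generated by `d`. -/
lemma card_norm_d : Nat.card (normalizer ((zpowers (emb e dM) : Subgroup G) : Set G)) =
    2 * Nat.card (centralizer ({emb e dM} : Set G)) := by
  set d := emb e dM with hd
  set a := emb e aM with ha
  set C := centralizer ({d} : Set G) with hC
  set L := normalizer ((zpowers d : Subgroup G) : Set G) with hL
  have hCL : C ≤ L := by
    intro y hy
    rw [hL, mem_normalizer_iff]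
    have hy' : y * d = d * y := (mem_cen_d_iff e).1 hy
    have hc : ∀ k : ℤ, y * d ^ k * y⁻¹ = d ^ k := by
      intro k
      rw [← conj_zpow]
      congr 1
      rw [hy']
      group
    intro h
    constructor
    · rintro ⟨k, rfl⟩
      exact ⟨k, (hc k).symm⟩
    · intro h2
      obtain ⟨k, hk⟩ := h2
      have hk' : d ^ k = y * h * y⁻¹ := hk
      have : h = d ^ k := by
        have h3 := hc k
        rw [hk'] at h3
        have h4 : y * (y * h * y⁻¹) * y⁻¹ = y * h * y⁻¹ := h3
        have h5 : y * h * y⁻¹ = h := by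
          have := mul_left_cancel (mul_right_cancel h4)
          exact this
        rw [hk', h5]
      rw [this]
      exact ⟨k, rfl⟩
  have haL : a ∈ L := by
    rw [hL, mem_normalizer_iff]
    have h1 : a * d * a⁻¹ = d⁻¹ := a_conj_d e
    have hc : ∀ k : ℤ, a * d ^ k * a⁻¹ = (d ^ k)⁻¹ := by
      intro k
      rw [← conj_zpow, h1, inv_zpow]
    have hainv : a⁻¹ = a := by
      apply inv_eq_of_mul_eq_one_left
      rw [ha, ← map_mul, aa_model, map_one]
    intro h
    constructor
    · rintro ⟨k, rfl⟩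
      exact ⟨-k, by
        show d ^ (-k) = a * d ^ k * a⁻¹
        rw [hc, zpow_neg]⟩
    · rintro ⟨k, hk⟩
      have hk' : d ^ k = a * h * a⁻¹ := hk
      have : h = (d ^ k)⁻¹ := by
        have h3 := hc k
        rw [hk'] at h3
        rw [hk', ← h3, hainv]
        calc h = (a * a) * h * (a * a) := by
              rw [show a * a = 1 by rw [ha, ← map_mul, aa_model, map_one]]; group
          _ = a * (a * h * a) * a := by group
      rw [this]
      exact ⟨-k, by
        show d ^ (-k) = (d ^ k)⁻¹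
        rw [zpow_neg]⟩
  have hidx : (C.subgroupOf L).index = 2 := by
    rw [Subgroup.index_eq_two_iff]
    refine ⟨⟨a, haL⟩, ?_⟩
    rintro ⟨b, hb⟩
    have hb' : b ∈ normalizer ((zpowers d : Subgroup G) : Set G) := hb
    rw [mem_normalizer_iff] at hb'
    have h1 := (hb' d).1 (mem_zpowers d)
    have hne : b * d * b⁻¹ ≠ 1 := by
      intro h
      have : d = 1 := by
        have h2 : d = b⁻¹ * (b * d * b⁻¹) * b := by group
        rw [h2, h]
        group
      have h3 := d_order e
      rw [← hd, this, orderOf_one] at h3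
      omega
    have hmemC : ∀ y : G, y ∈ C ↔ y * d * y⁻¹ = d := by
      intro y
      rw [hC, mem_cen_d_iff]
      constructor
      · intro h
        rw [← hd] at h
        rw [h]
        group
      · intro h
        rw [← hd]
        calc y * d = (y * d * y⁻¹) * y := by group
          _ = d * y := by rw [h]
    have hdinv : d⁻¹ ≠ d := by
      intro h
      apply d_ne_inv_model
      apply emb_inj e
      rw [map_inv]
      exact h
    have hba : (b * a) * d * (b * a)⁻¹ = (b * d * b⁻¹)⁻¹ := by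
      have h2 : a * d * a⁻¹ = d⁻¹ := a_conj_d e
      calc (b * a) * d * (b * a)⁻¹ = b * (a * d * a⁻¹) * b⁻¹ := by group
        _ = (b * d * b⁻¹)⁻¹ := by rw [h2]; group
    rw [Subgroup.mem_subgroupOf, Subgroup.mem_subgroupOf]
    show Xor (b * a ∈ C) (b ∈ C)
    rw [hmemC, hmemC, hba]
    rcases mem_zpowers_d e h1 with h2 | h2 | h2
    · exact absurd h2 hne
    · rw [← hd] at h2
      rw [h2]
      right
      exact ⟨rfl, hdinv⟩
    · rw [← hd] at h2
      rw [h2, inv_inv]
      left
      exact ⟨rfl, hdinv⟩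
  have h1 := Subgroup.card_mul_index (C.subgroupOf L)
  rw [hidx, Nat.card_congr (Subgroup.subgroupOfEquivOfLe hCL).toEquiv] at h1
  rw [← h1, mul_comm]

variable [IsSimpleGroup G]

/-- The centralizer of `d` is bigger than the obvious group of order six. -/
lemma cen_ne_six (ht : IsTwoCentralInvolution t) : Nat.card (centralizer ({emb e dM} : Set G)) ≠ 6 := by
  intro h6
  haveI hf3 : Fact (Nat.Prime 3) := ⟨Nat.prime_three⟩
  have hG := card_eq e ht
  have hcz : Nat.card (zpowers (emb e dM)) = 3 := by rw [Nat.card_zpowers, d_order]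
  have hpg : IsPGroup 3 (zpowers (emb e dM)) := IsPGroup.of_card (n := 1) (by rw [hcz, pow_one])
  have hidx : (zpowers (emb e dM)).index = 58520 := by
    have h := Subgroup.card_mul_index (zpowers (emb e dM))
    rw [hcz, hG] at h
    omega
  let P : Sylow 3 G := hpg.toSylow (by rw [hidx]; norm_num)
  have hn := card_sylow_modEq_one 3 G
  rw [Sylow.card_eq_index_normalizer P] at hn
  have hP : (P : Subgroup G) = zpowers (emb e dM) := rfl
  have hL := card_norm_d e
  rw [h6] at hL
  have hi := Subgroup.card_mul_index (normalizer ((zpowers (emb e dM) : Subgroup G) : Set G))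
  rw [hL, hG] at hi
  have hn' : (normalizer ((zpowers (emb e dM) : Subgroup G) : Set G)).index ≡ 1 [MOD 3] := hn
  unfold Nat.ModEq at hn'
  omega

/-- The element `f`. -/
theorem exists_f (ht : IsTwoCentralInvolution t) :
    ∃ (f : G) (p : ℕ), (p = 5 ∨ p = 7 ∨ p = 11 ∨ p = 19) ∧ f ≠ 1 ∧ f ^ p = 1 ∧ emb e dM * f = f * emb e dM ∧
      t * f * t⁻¹ = f⁻¹ ∧ (emb e aM * f = f * emb e aM ∨ (t * emb e aM) * f = f * (t * emb e aM)) := by
  have hG := card_eq e ht
  have ht1 : t ≠ 1 := by
    intro h
    have := ht.1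
    rw [h] at this
    simp at this
  have htt := t_sq ht.1
  have htinv : t⁻¹ = t := inv_eq_of_mul_eq_one_left htt
  set d := emb e dM with hd
  set a := emb e aM with ha
  set C := centralizer ({d} : Set G) with hC
  have haa : a * a = 1 := by rw [ha, ← map_mul, aa_model, map_one]
  have hainv : a⁻¹ = a := inv_eq_of_mul_eq_one_left haa
  have hta : t * a = a * t := (emb_comm e aM).symm
  have hnd : Nat.card C ∣ 175560 := hG ▸ Subgroup.card_subgroup_dvd_card C
  have hcap : Nat.card ↥(C ⊓ centralizer ({t} : Set G)) = 6 := card_cap e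
  have h6 : 6 ∣ Nat.card C := by
    have := Subgroup.card_dvd_of_le (inf_le_left : C ⊓ centralizer ({t} : Set G) ≤ C)
    rwa [hcap] at this
  have h4 : ¬ 4 ∣ Nat.card C := not_four_dvd e ht.1
  have hn6 : Nat.card C ≠ 6 := cen_ne_six e ht
  obtain ⟨p, hp, hpC, hpc⟩ := prime_of_C h6 hnd h4 hn6
  obtain ⟨r, hr⟩ : ∃ r, Nat.card C = 2 * r := by
    obtain ⟨m, hm⟩ := h6
    exact ⟨3 * m, by rw [hm]; ring⟩
  have hrodd : Odd r := by
    rw [← Nat.not_even_iff_odd]
    rintro ⟨m, rfl⟩
    apply h4
    rw [hr]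
    exact ⟨m, by ring⟩
  have hmemC : ∀ y : G, y ∈ C ↔ y * d = d * y := fun y => mem_cen_d_iff e
  have htC : t ∈ C := (hmemC t).2 (emb_d_comm_t e).symm
  obtain ⟨R, hRC, hRcard, hRodd⟩ := exists_odd_part C htC htt ht1 hrodd hr
  have hp2 : p ≠ 2 := by
    rcases hpc with rfl | rfl | rfl | rfl <;> norm_num
  have hpR : p ∣ Nat.card R := by
    rw [hRcard]
    rw [hr] at hpC
    rcases (Nat.Prime.dvd_mul hp).1 hpC with h | h
    · exact absurd ((Nat.prime_dvd_prime_iff_eq hp Nat.prime_two).1 h) hp2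
    · exact h
  haveI hfp : Fact p.Prime := ⟨hp⟩
  have hoddR : ∀ y ∈ R, Odd (orderOf y) := by
    intro y hy
    have h1 := Subgroup.orderOf_dvd_natCard R hy
    rw [hRcard] at h1
    exact hrodd.of_dvd_nat h1
  have hnorm : ∀ g : G, (g * d * g⁻¹ = d ∨ g * d * g⁻¹ = d⁻¹) → ∀ y ∈ R, g * y * g⁻¹ ∈ R := by
    intro g hg y hy
    have hyC := (hmemC y).1 (hRC hy)
    apply hRodd
    · rw [hmemC]
      rcases hg with h | h
      · calc g * y * g⁻¹ * d = g * y * g⁻¹ * (g * d * g⁻¹) := by rw [h]
          _ = g * (y * d) * g⁻¹ := by group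
          _ = g * (d * y) * g⁻¹ := by rw [hyC]
          _ = (g * d * g⁻¹) * (g * y * g⁻¹) := by group
          _ = d * (g * y * g⁻¹) := by rw [h]
      · have h' : g * d⁻¹ * g⁻¹ = d := by
          have h2 : g * d⁻¹ * g⁻¹ = (g * d * g⁻¹)⁻¹ := by group
          rw [h2, h, inv_inv]
        calc g * y * g⁻¹ * d = g * y * g⁻¹ * (g * d⁻¹ * g⁻¹) := by rw [h']
          _ = g * (y * d⁻¹) * g⁻¹ := by group
          _ = g * (d⁻¹ * y) * g⁻¹ := by
              rw [show y * d⁻¹ = d⁻¹ * y from by
                calc y * d⁻¹ = d⁻¹ * (d * y) * d⁻¹ := by group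
                  _ = d⁻¹ * (y * d) * d⁻¹ := by rw [hyC]
                  _ = d⁻¹ * y := by group]
          _ = (g * d⁻¹ * g⁻¹) * (g * y * g⁻¹) := by group
          _ = d * (g * y * g⁻¹) := by rw [h']
    · have h1 : orderOf (g * y * g⁻¹) = orderOf y := (MulAut.conj g).orderOf_eq y
      rw [h1]
      exact hoddR y hy
  have htd : t * d * t⁻¹ = d := by
    have hdt : t * d = d * t := (emb_d_comm_t e).symm
    rw [hdt]
    group
  have nt : ∀ y ∈ R, t * y * t⁻¹ ∈ R := hnorm t (Or.inl htd)
  have na : ∀ y ∈ R, a * y * a⁻¹ ∈ R := hnorm a (Or.inr (a_conj_d e))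
  obtain ⟨Q, hQR, hQp, hQd, hQt, hQa⟩ :=
    exists_invariant_sylow R (by rwa [hRcard]) hpR htt haa hta nt na
  have hQcard : Nat.card Q = p := by
    obtain ⟨k, hk⟩ := IsPGroup.iff_card.1 hQp
    have hQG : Nat.card Q ∣ 175560 := hG ▸ Subgroup.card_subgroup_dvd_card Q
    rcases k with _ | _ | k
    · rw [hk, pow_zero] at hQd
      exact absurd (Nat.le_of_dvd (by norm_num) hQd) (by have := hp.two_le; omega)
    · rw [hk, pow_one]
    · exfalso
      rw [hk] at hQG
      have h1 : p * p ∣ 175560 := (Dvd.intro (p ^ k) (by ring)).trans hQG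
      rcases hpc with rfl | rfl | rfl | rfl <;> norm_num at h1
  obtain ⟨f, hfQ, hf1⟩ : ∃ f ∈ Q, f ≠ 1 := by
    by_contra hc
    push Not at hc
    have : Q = ⊥ := (Subgroup.eq_bot_iff_forall _).2 hc
    rw [this, Subgroup.card_bot] at hQcard
    exact hp.one_lt.ne hQcard
  have hfp' : f ^ p = 1 := by
    have h1 : (⟨f, hfQ⟩ : Q) ^ Nat.card Q = 1 := pow_card_eq_one'
    rw [hQcard] at h1
    exact congrArg Subtype.val h1
  have hord : orderOf f = p := orderOf_eq_prime hfp' hf1
  have hzp : zpowers f = Q := by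
    apply Subgroup.eq_of_le_of_card_ge
    · exact (Subgroup.zpowers_le).2 hfQ
    · rw [Nat.card_zpowers, hord, hQcard]
  have hfC : f * d = d * f := (hmemC f).1 (hRC (hQR hfQ))
  refine ⟨f, p, hpc, hf1, hfp', hfC.symm, ?_, ?_⟩
  · rcases conj_eq_or_inv hp hord htt (by rw [hzp]; exact hQt f hfQ) with h | h
    · exfalso
      have hmem : f ∈ C ⊓ centralizer ({t} : Set G) := by
        rw [Subgroup.mem_inf]
        refine ⟨hRC (hQR hfQ), ?_⟩
        rw [mem_centralizer_iff]
        intro z hz
        rw [Set.mem_singleton_iff] at hz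
        subst hz
        calc z * f = (z * f * z⁻¹) * z := by group
          _ = f * z := by rw [h]
      have h1 := Subgroup.orderOf_dvd_natCard _ hmem
      rw [hcap, hord] at h1
      rcases hpc with rfl | rfl | rfl | rfl <;> norm_num at h1
    · exact h
  · have hinv : t * f * t⁻¹ = f⁻¹ := by
      rcases conj_eq_or_inv hp hord htt (by rw [hzp]; exact hQt f hfQ) with h | h
      · exfalso
        have hmem : f ∈ C ⊓ centralizer ({t} : Set G) := by
          rw [Subgroup.mem_inf]
          refine ⟨hRC (hQR hfQ), ?_⟩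
          rw [mem_centralizer_iff]
          intro z hz
          rw [Set.mem_singleton_iff] at hz
          subst hz
          calc z * f = (z * f * z⁻¹) * z := by group
            _ = f * z := by rw [h]
        have h1 := Subgroup.orderOf_dvd_natCard _ hmem
        rw [hcap, hord] at h1
        rcases hpc with rfl | rfl | rfl | rfl <;> norm_num at h1
      · exact h
    rcases conj_eq_or_inv hp hord haa (by rw [hzp]; exact hQa f hfQ) with h | h
    · left
      calc a * f = (a * f * a⁻¹) * a := by group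
        _ = f * a := by rw [h]
    · right
      have h2 : (t * a) * f * (t * a)⁻¹ = f := by
        calc (t * a) * f * (t * a)⁻¹ = t * (a * f * a⁻¹) * t⁻¹ := by group
          _ = t * f⁻¹ * t⁻¹ := by rw [h]
          _ = (t * f * t⁻¹)⁻¹ := by group
          _ = f := by rw [hinv, inv_inv]
      calc (t * a) * f = ((t * a) * f * (t * a)⁻¹) * (t * a) := by group
        _ = f * (t * a) := by rw [h2]

end Cfsg.Agent.Lib.J1Ord
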