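import Cfsg.Agent.Lib.J1Ord.PresHom
import Cfsg.Agent.Lib.Compute.TC.J1PA.Final
import Cfsg.Agent.Lib.Compute.TC.J1PQ.Final
import Cfsg.Agent.Lib.Sporadic.J1.Basic
import Cfsg.Agent.S0457

/-!
# The presented group of order `175560` is `J₁`
-/

set_option autoImplicit false

namespace Cfsg.Agent.Lib.J1Ord.UniqJ1

open Cfsg.Spor Cfsg.Agent.Lib.Sporadic.J1 Cfsg.Agent.Lib.Sporadic.J1.PackedMat Cfsg.Agent.Lib.Sporadic.J1.Cert
open Cfsg.Agent.Lib.Sporadic.J1.Orders Cfsg.Agent.Lib.Sporadic.J1.Basic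
open Cfsg.Agent.Lib.J1Ord.Pres
open Cfsg.Agent.Lib.Compute.ToddCoxeterPresented

/-- word of `x` -/
def vx : List Bool := [false, false, false, true, true, true, false, false, true, false, true, true, true, false, true, true]
/-- word of `s` -/
def vs : List Bool := [true, false, false, true, false, false, true, false, false, true, false, false, true, true, false, false]
/-- word of `s⁻¹` -/
def vS : List Bool := [false, true, false, false, true, false, false, true, false, true, true, false, false, true, false, true]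
/-- word of `t` -/
def vt : List Bool := [true, true, true, false, true, false, true, true, true, true, false, true, false, true, false, false]
/-- word of `w` -/
def vw : List Bool := [true, true, false, false, true, true, false, false, false, true, true, false, false, false, true]
/-- word of `w⁻¹` -/
def vW : List Bool := [true, false, false, true, false, false, true, false, false, true, false, true, true, false, true, true, false, true]

/-- word of `a` -/
def va : List Bool := vx ++ (vS ++ (vx ++ (vs ++ vx)))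
/-- word of `b` -/
def vb : List Bool := vs ++ (va ++ vS)
/-- word of `d` -/
def vd : List Bool := vS ++ (vx ++ (vs ++ (vx ++ (vS ++ vx))))
/-- word of the last candidate -/
def vc : List Bool := vw ++ ((vx ++ (vs ++ (vx ++ vS))) ++ vW)

/-- the element `x` -/
def xJ : GL7 := wG vx
/-- the element `s` -/
def sJ : GL7 := wG vs
/-- the element `t` -/
def tJ : GL7 := wG vt
/-- the element `w` -/
def wJ : GL7 := wG vw

theorem sJ_inv : sJ⁻¹ = wG vS := by
  rw [sJ, inv_eq_iff_mul_eq_one, ← wG_append]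
  exact wG_eq_of (w := []) (by decide +kernel)

theorem wJ_inv : wJ⁻¹ = wG vW := by
  rw [wJ, inv_eq_iff_mul_eq_one, ← wG_append]
  exact wG_eq_of (w := []) (by decide +kernel)

theorem hua : uaE xJ sJ = wG va := by
  simp only [uaE, sJ_inv]
  simp only [xJ, sJ, va, wG_append, mul_assoc]

theorem hub : ubE xJ sJ = wG vb := by
  rw [ubE, hua, sJ_inv, sJ, vb, wG_append, wG_append, mul_assoc]

theorem hdd : ddE xJ sJ = wG vd := by
  simp only [ddE, sJ_inv]
  simp only [xJ, sJ, vd, wG_append, mul_assoc]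

theorem hcA : cAE xJ sJ wJ = wG vc := by
  simp only [cAE, sJ_inv, wJ_inv]
  simp only [xJ, sJ, wJ, vc, wG_append, mul_assoc]

theorem baseJ : ∀ y ∈ baseE xJ sJ tJ wJ, y = 1 := by
  apply base_of_eqs
  · rw [xJ, ← wG_append]
    exact wG_eq_of (w := []) (by decide +kernel)
  · rw [sJ, ← wG_append, ← wG_append]
    exact wG_eq_of (w := []) (by decide +kernel)
  · simp only [xJ, sJ, pow_succ, pow_zero, one_mul, ← wG_append]
    exact wG_eq_of (w := []) (by decide +kernel)
  · rw [tJ, ← wG_append]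
    exact wG_eq_of (w := []) (by decide +kernel)
  · simp only [tJ, xJ, ← wG_append]
    exact wG_eq_of (by decide +kernel)
  · simp only [tJ, sJ, ← wG_append]
    exact wG_eq_of (by decide +kernel)
  · simp only [wJ, pow_succ, pow_zero, one_mul, ← wG_append]
    exact wG_eq_of (w := []) (by decide +kernel)
  · simp only [wJ, sJ, ← wG_append]
    exact wG_eq_of (by decide +kernel)
  · rw [hua]
    simp only [wJ, tJ, ← wG_append]
    exact wG_eq_of (by decide +kernel)
  · rw [hua, hub]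
    simp only [wJ, ← wG_append]
    exact wG_eq_of (by decide +kernel)
  · rw [hua, hub]
    simp only [wJ, tJ, ← wG_append]
    exact wG_eq_of (by decide +kernel)
  · rw [hua, ← wG_append]
    exact wG_eq_of (w := []) (by decide +kernel)
  · rw [hua]
    simp only [sJ, pow_succ, pow_zero, one_mul, ← wG_append]
    exact wG_eq_of (w := []) (by decide +kernel)

theorem comJ : comE xJ sJ wJ (cAE xJ sJ wJ) = 1 := by
  apply comE_of_comm
  rw [hdd, hcA, ← wG_append, ← wG_append]
  exact wG_eq_of (by decide +kernel)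

set_option maxRecDepth 100000 in
/-- `jankoX` in terms of the generators -/
theorem X_word : jankoX = sJ *wJ⁻¹ *xJ *tJ *wJ⁻¹ *xJ *wJ⁻¹ *wJ⁻¹ *tJ  := by
  simp only [sJ_inv, wJ_inv]
  simp only [xJ, sJ, tJ, wJ, ← wG_append]
  exact (Cfsg.Agent.S0457.wX_eq.symm).trans (wG_eq_of (by decide +kernel))

set_option maxRecDepth 100000 in
/-- `jankoY` in terms of the generators -/
theorem Y_word : jankoY = sJ⁻¹ *xJ *sJ⁻¹ *wJ⁻¹ *xJ *sJ *tJ *wJ⁻¹ *xJ *wJ  := by
  simp only [sJ_inv, wJ_inv]
  simp only [xJ, sJ, tJ, wJ, ← wG_append]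
  exact (Cfsg.Agent.S0457.wY_eq.symm).trans (wG_eq_of (by decide +kernel))

theorem xJ_mem : xJ ∈ J1 := wG_mem _
theorem sJ_mem : sJ ∈ J1 := wG_mem _
theorem tJ_mem : tJ ∈ J1 := wG_mem _
theorem wJ_mem : wJ ∈ J1 := wG_mem _

theorem word_aux {Γ : Type*} [Group Γ] (K : Subgroup Γ) {x s t w y z : Γ}
    (hy : y = s *w⁻¹ *x *t *w⁻¹ *x *w⁻¹ *w⁻¹ *t )
    (hz : z = s⁻¹ *x *s⁻¹ *w⁻¹ *x *s *t *w⁻¹ *x *w )
    (h0 : x ∈ K) (h1 : s ∈ K) (h2 : t ∈ K) (h3 : w ∈ K) : y ∈ K ∧ z ∈ K := by
  subst hy hz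
  constructor
  · repeat' first | exact h0 | exact h1 | exact h2 | exact h3 | apply mul_mem | apply inv_mem
  · repeat' first | exact h0 | exact h1 | exact h2 | exact h3 | apply mul_mem | apply inv_mem

theorem word_mem (K : Subgroup GL7) (h0 : xJ ∈ K) (h1 : sJ ∈ K) (h2 : tJ ∈ K) (h3 : wJ ∈ K) :
    jankoX ∈ K ∧ jankoY ∈ K :=
  word_aux K X_word Y_word h0 h1 h2 h3

/-- The generators in `J₁`. -/
def fJ : Fin 4 → J1 := ![⟨xJ, xJ_mem⟩, ⟨sJ, sJ_mem⟩, ⟨tJ, tJ_mem⟩, ⟨wJ, wJ_mem⟩]

theorem baseJ' : ∀ y ∈ baseE (fJ 0) (fJ 1) (fJ 2) (fJ 3), y = 1 := by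
  intro y hy
  apply Subtype.ext
  have h1 := List.mem_map_of_mem (f := J1.subtype) hy
  rw [map_baseE] at h1
  exact baseJ _ h1

theorem comJ' : comE (fJ 0) (fJ 1) (fJ 3) (cAE (fJ 0) (fJ 1) (fJ 3)) = 1 := by
  apply Subtype.ext
  have h1 := map_comE J1.subtype (fJ 0) (fJ 1) (fJ 3) (cAE (fJ 0) (fJ 1) (fJ 3))
  rw [map_cAE] at h1
  exact h1.trans comJ

/-- The group with the last candidate. -/
abbrev PA := PresentedGroup Cfsg.Agent.Lib.Compute.TC.J1PA.RR

/-- The map to `J₁`. -/
noncomputable def homJ : PA →* J1 :=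
  PresentedGroup.toGroup (f := fJ) (fun r hr => lift_relA fJ baseJ' comJ' r hr)

theorem homJ_surj : Function.Surjective homJ := by
  have key : J1 ≤ homJ.range.map J1.subtype := by
    have hg : ∀ b : Fin 4, ((fJ b : J1) : GL7) ∈ homJ.range.map J1.subtype := fun b =>
      ⟨fJ b, ⟨PresentedGroup.of b, PresentedGroup.toGroup.of _⟩, rfl⟩
    have h0 := hg 0
    have h1 := hg 1
    have h2 := hg 2
    have h3 := hg 3
    change xJ ∈ _ at h0
    change sJ ∈ _ at h1
    change tJ ∈ _ at h2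
    change wJ ∈ _ at h3
    refine (Subgroup.closure_le _).2 ?_
    rintro g (rfl | hg')
    · exact (word_mem _ h0 h1 h2 h3).1
    · rw [Set.mem_singleton_iff] at hg'
      rw [hg']
      exact (word_mem _ h0 h1 h2 h3).2
  rintro ⟨g, hg⟩
  obtain ⟨z, hz, hzg⟩ := key hg
  obtain ⟨y, rfl⟩ := hz
  exact ⟨y, Subtype.ext hzg⟩

/-- The normalizer group. -/
abbrev PQ := PresentedGroup Cfsg.Agent.Lib.Compute.TC.J1PQ.RR

theorem card_PQ : Nat.card PQ = 168 :=
  Cfsg.Agent.Lib.Compute.TCFast.card_of_index rfl Cfsg.Agent.Lib.Compute.TC.J1PQ.index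

/-- the generators of the normalizer in the big group -/
noncomputable def fQ : Fin 4 → PA :=
  ![PresentedGroup.mk _ Ua, PresentedGroup.mk _ S, PresentedGroup.mk _ Tz, PresentedGroup.mk _ W]

theorem baseP : ∀ y ∈ baseE (PresentedGroup.mk Cfsg.Agent.Lib.Compute.TC.J1PA.RR X) (PresentedGroup.mk _ S)
    (PresentedGroup.mk _ Tz) (PresentedGroup.mk _ W), y = 1 := by
  intro y hy
  rw [← map_baseE] at hy
  obtain ⟨r, hr, rfl⟩ := List.mem_map.1 hy
  exact PresentedGroup.one_of_mem (List.mem_append_left _ hr)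

theorem normP : ∀ y ∈ normE (fQ 0) (fQ 1) (fQ 2) (fQ 3), y = 1 := by
  have h := norm_of_base baseP
  have h0 : fQ 0 = uaE (PresentedGroup.mk Cfsg.Agent.Lib.Compute.TC.J1PA.RR X) (PresentedGroup.mk _ S) :=
    map_uaE _ _ _
  rw [h0]
  exact h

/-- The map from the normalizer group. -/
noncomputable def homQ : PQ →* PA :=
  PresentedGroup.toGroup (f := fQ) (fun r hr => lift_norm fQ normP r hr)

theorem range_homQ : homQ.range = HOf Cfsg.Agent.Lib.Compute.TC.J1PA.RR Cfsg.Agent.Lib.Compute.TC.J1PA.D.Hs := by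
  apply le_antisymm
  · rintro _ ⟨y, rfl⟩
    have hle : (⊤ : Subgroup PQ) ≤ (HOf Cfsg.Agent.Lib.Compute.TC.J1PA.RR Cfsg.Agent.Lib.Compute.TC.J1PA.D.Hs).comap homQ := by
      rw [← PresentedGroup.closure_range_of, Subgroup.closure_le]
      rintro _ ⟨b, rfl⟩
      show homQ (PresentedGroup.of b) ∈ (HOf Cfsg.Agent.Lib.Compute.TC.J1PA.RR Cfsg.Agent.Lib.Compute.TC.J1PA.D.Hs)
      rw [homQ, PresentedGroup.toGroup.of]
      have : ∀ z : F4, z ∈ Hgens → PresentedGroup.mk Cfsg.Agent.Lib.Compute.TC.J1PA.RR z ∈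
          HOf Cfsg.Agent.Lib.Compute.TC.J1PA.RR Cfsg.Agent.Lib.Compute.TC.J1PA.D.Hs := fun z hz =>
        ⟨z, Subgroup.subset_closure (show z ∈ {h | h ∈ Hgens} from hz), rfl⟩
      fin_cases b
      · exact this _ (by simp [Hgens])
      · exact this _ (by simp [Hgens])
      · exact this _ (by simp [Hgens])
      · exact this _ (by simp [Hgens])
    exact hle (Subgroup.mem_top y)
  · rw [Subgroup.map_le_iff_le_comap, Subgroup.closure_le]
    intro z hz
    have hb : ∀ b : Fin 4, fQ b ∈ homQ.range := fun b =>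
      ⟨PresentedGroup.of b, by rw [homQ, PresentedGroup.toGroup.of]⟩
    change z ∈ Hgens at hz
    simp only [Hgens, List.mem_cons, List.not_mem_nil, or_false] at hz
    rcases hz with rfl | rfl | rfl | rfl
    · exact hb 0
    · exact hb 1
    · exact hb 2
    · exact hb 3

theorem card_PA : Finite PA ∧ Nat.card PA ≤ 175560 := by
  haveI : Finite PQ := Nat.finite_of_card_ne_zero (by rw [card_PQ]; norm_num)
  have h := Cfsg.Agent.Lib.Compute.TCChain.card_le_step homQ range_homQ
    Cfsg.Agent.Lib.Compute.TC.J1PA.index (by norm_num)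
  rw [card_PQ] at h
  exact ⟨h.1, h.2.trans (by norm_num)⟩

/-- The presented group is `J₁`. -/
noncomputable def isoPA : PA ≃* J1 :=
  haveI := card_PA.1
  MulEquiv.ofBijective homJ
    (homJ_surj.bijective_of_nat_card_le (by rw [card_J1]; exact card_PA.2))

theorem simple_PA : IsSimpleGroup PA :=
  haveI := Cfsg.Agent.S0457.simple_J1
  isoPA.isSimpleGroup

end Cfsg.Agent.Lib.J1Ord.UniqJ1
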