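import Mathlib
import Cfsg.Agent.Lib.J1Ord.UniqF
import Cfsg.Agent.Lib.J1Ord.UniqJ1
import Cfsg.Agent.Lib.Compute.TC.J1PB.Final
import Cfsg.Agent.Lib.Compute.TC.J1PC.Final
import Cfsg.Agent.Lib.Compute.TC.J1PD.Final

/-!
# A finite simple group with involution centralizer `Z₂ × A₅` is `J₁`
-/

set_option autoImplicit false

namespace Cfsg.Agent.Lib.J1Ord

open Cfsg Subgroup Cfsg.Agent.Lib.J1Ord.Pres Cfsg.Spor

universe u

/-- Conjugates of powers. -/
theorem conj_pow_inv_aux {Γ : Type*} [Group Γ] (w f : Γ) (p : ℕ) : (w⁻¹ * f * w) ^ p = w⁻¹ * f ^ p * w := by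
  have h := conj_pow (a := w⁻¹) (b := f) (i := p)
  simpa only [inv_inv] using h

variable {G : Type u} [Group G] {t : G} {e : ↥(centralizer ({t} : Set G)) ≃* Mdl} {w : G}

section Rel

variable (hg : GoodW e w) (ht : orderOf t = 2)

include hg

lemma s_w_eq : emb e sM * w = w * w * emb e sM := by
  have h := hg.hs
  rw [pow_two] at h
  rw [← h]
  group

lemma conj_emb_t : (emb e sM)⁻¹ * t * emb e sM = t := by
  have h := emb_comm e sM
  calc (emb e sM)⁻¹ * t * emb e sM = (emb e sM)⁻¹ * (t * emb e sM) := by group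
    _ = (emb e sM)⁻¹ * (emb e sM * t) := by rw [h]
    _ = t := by group

lemma rel_wa : w * emb e aM * w⁻¹ = emb e bM := by
  have h1 := hg.hw
  have h2 := hg.hs
  rw [pow_two] at h2
  have h3 := conj_emb_t hg
  have h4 : emb e sM * emb e aM * (emb e sM)⁻¹ = emb e bM := by
    rw [← map_inv, ← map_mul, ← map_mul, s_a_model]
  calc w * emb e aM * w⁻¹ = (w * w) * t * (w * w)⁻¹ := by rw [← h1]; group
    _ = (emb e sM * w * (emb e sM)⁻¹) * t * (emb e sM * w * (emb e sM)⁻¹)⁻¹ := by rw [h2]
    _ = emb e sM * (w * ((emb e sM)⁻¹ * t * emb e sM) * w⁻¹) * (emb e sM)⁻¹ := by group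
    _ = emb e sM * emb e aM * (emb e sM)⁻¹ := by rw [h3, h1]
    _ = emb e bM := h4

lemma rel_wwb : w * (w * emb e bM * w⁻¹) * w⁻¹ = emb e vM := by
  have h0 := rel_wa hg
  have h2 := hg.hs
  rw [pow_two] at h2
  have h4 : emb e sM * emb e bM * (emb e sM)⁻¹ = emb e vM := by
    rw [← map_inv, ← map_mul, ← map_mul, s_b_model]
  have h5 : emb e sM * emb e aM * (emb e sM)⁻¹ = emb e bM := by
    rw [← map_inv, ← map_mul, ← map_mul, s_a_model]
  calc w * (w * emb e bM * w⁻¹) * w⁻¹ = (w * w) * emb e bM * (w * w)⁻¹ := by group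
    _ = (emb e sM * w * (emb e sM)⁻¹) * (emb e sM * emb e aM * (emb e sM)⁻¹) *
        (emb e sM * w * (emb e sM)⁻¹)⁻¹ := by rw [h2, h5]
    _ = emb e sM * (w * emb e aM * w⁻¹) * (emb e sM)⁻¹ := by group
    _ = emb e vM := by rw [h0, h4]

lemma rel_wb : w * emb e bM * w⁻¹ = t * emb e aM := by
  have h0 := rel_wa hg
  have h1 := hg.hw
  have h2 := rel_wwb hg
  have h3 : emb e aM * emb e bM = emb e vM := by
    rw [← map_mul, ab_model]
  -- conjugate `a b = c` by `w⁻¹`
  have h4 : w⁻¹ * emb e aM * w = t := by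
    rw [← h1]
    group
  have h5 : w⁻¹ * emb e bM * w = emb e aM := by
    rw [← h0]
    group
  have h6 : w⁻¹ * emb e vM * w = w * emb e bM * w⁻¹ := by
    rw [← h2]
    group
  calc w * emb e bM * w⁻¹ = w⁻¹ * emb e vM * w := h6.symm
    _ = w⁻¹ * (emb e aM * emb e bM) * w := by rw [h3]
    _ = (w⁻¹ * emb e aM * w) * (w⁻¹ * emb e bM * w) := by group
    _ = t * emb e aM := by rw [h4, h5]

lemma rel_a_t : t * emb e aM = emb e aM * t := (emb_comm e aM).symm

include ht

lemma rel_wtb : w * (t * emb e bM) * w⁻¹ = t := by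
  have h1 := hg.hw
  have h2 := rel_wb hg
  have haa : emb e aM * emb e aM = 1 := by rw [← map_mul, aa_model, map_one]
  calc w * (t * emb e bM) * w⁻¹ = (w * t * w⁻¹) * (w * emb e bM * w⁻¹) := by group
    _ = emb e aM * (t * emb e aM) := by rw [h1, h2]
    _ = (emb e aM * t) * emb e aM := by group
    _ = (t * emb e aM) * emb e aM := by rw [emb_comm e aM]
    _ = t := by rw [mul_assoc, haa, mul_one]

omit ht in
lemma rel_www_t : w * w * w * t * w⁻¹ * w⁻¹ * w⁻¹ = t * emb e aM := by
  have h1 := hg.hw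
  have h0 := rel_wa hg
  have h2 := rel_wb hg
  calc w * w * w * t * w⁻¹ * w⁻¹ * w⁻¹ = w * (w * (w * t * w⁻¹) * w⁻¹) * w⁻¹ := by group
    _ = t * emb e aM := by rw [h1, h0, h2]

lemma rel_www_v : w * w * w * emb e vM * w⁻¹ * w⁻¹ * w⁻¹ = t := by
  have h1 := hg.hw
  have h0 := rel_wa hg
  have h2 := rel_wb hg
  have h3 : emb e aM * emb e bM = emb e vM := by
    rw [← map_mul, ab_model]
  have h4 : w * emb e vM * w⁻¹ = emb e bM * (t * emb e aM) := by
    rw [← h3]
    calc w * (emb e aM * emb e bM) * w⁻¹ = (w * emb e aM * w⁻¹) * (w * emb e bM * w⁻¹) := by group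
      _ = emb e bM * (t * emb e aM) := by rw [h0, h2]
  have h5 : emb e bM * (t * emb e aM) = t * emb e vM := by
    have hbt : emb e bM * t = t * emb e bM := emb_comm e bM
    have hba : emb e bM * emb e aM = emb e vM := by
      rw [← h3, ← map_mul, ← map_mul, T_comm_model _ _ bM_T aM_T]
    calc emb e bM * (t * emb e aM) = (emb e bM * t) * emb e aM := by group
      _ = t * (emb e bM * emb e aM) := by rw [hbt]; group
      _ = t * emb e vM := by rw [hba]
  have h6 : w * (t * emb e vM) * w⁻¹ = t * emb e bM := by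
    calc w * (t * emb e vM) * w⁻¹ = (w * t * w⁻¹) * (w * emb e vM * w⁻¹) := by group
      _ = emb e aM * (t * emb e vM) := by rw [h1, h4, h5]
      _ = (emb e aM * t) * emb e vM := by group
      _ = (t * emb e aM) * emb e vM := by rw [emb_comm e aM]
      _ = t * (emb e aM * emb e vM) := by group
      _ = t * emb e bM := by
          congr 1
          rw [← h3, ← map_mul, ← map_mul, ← mul_assoc, aa_model, one_mul]
  calc w * w * w * emb e vM * w⁻¹ * w⁻¹ * w⁻¹ = w * (w * (w * emb e vM * w⁻¹) * w⁻¹) * w⁻¹ := by group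
    _ = t := by rw [h4, h5, h6, rel_wtb hg ht]

omit ht

/-- The common relators hold. -/
theorem base_holds (ht : orderOf t = 2) : ∀ y ∈ baseE (emb e xM) (emb e sM) t w, y = 1 := by
  have hua : uaE (emb e xM) (emb e sM) = emb e aM := by rw [← map_uaE, ua_model]
  have hub : ubE (emb e xM) (emb e sM) = emb e bM := by rw [← map_ubE, ub_model]
  have htt : t * t = 1 := by rw [← pow_two, ← ht, pow_orderOf_eq_one]
  apply base_of_eqs
  · rw [← map_mul, x_sq_model, map_one]
  · rw [← map_mul, ← map_mul, s_cube_model, map_one]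
  · rw [← map_mul, ← map_pow, xs5_model, map_one]
  · exact htt
  · exact (emb_comm e xM).symm
  · exact (emb_comm e sM).symm
  · exact hg.h7
  · exact s_w_eq hg
  · rw [hua, ← hg.hw]
    group
  · rw [hua, hub, ← rel_wa hg]
    group
  · rw [hua, hub]
    calc w * emb e bM = (w * emb e bM * w⁻¹) * w := by group
      _ = t * emb e aM * w := by rw [rel_wb hg]
  · rw [hua, ← map_mul, aa_model, map_one]
  · rw [hua, ← map_mul, ← map_pow, as3_model, map_one]

end Rel

section Cand

variable [Finite G] [IsSimpleGroup G]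

/-- One of the four relations holds. -/
theorem exists_cand (ht : IsTwoCentralInvolution t) (hg : GoodW e w) :
    comE (emb e xM) (emb e sM) w (cAE (emb e xM) (emb e sM) w) = 1 ∨
    comE (emb e xM) (emb e sM) w (cBE (emb e xM) (emb e sM) w) = 1 ∨
    comE (emb e xM) (emb e sM) w (cCE (emb e xM) (emb e sM) w) = 1 ∨
    comE (emb e xM) (emb e sM) w (cDE (emb e xM) (emb e sM) w) = 1 := by
  obtain ⟨f, p, hpc, hf1, hfp, hdf, htf, hcase⟩ := exists_f e ht
  have hdd : ddE (emb e xM) (emb e sM) = emb e dM := by rw [← map_ddE, dd_model]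
  have hpow : ∀ (c : G) (k : ℕ), c = f ^ k → ddE (emb e xM) (emb e sM) * c = c * ddE (emb e xM) (emb e sM) := by
    intro c k hc
    rw [hdd, hc]
    exact ((show Commute (emb e dM) f from hdf).pow_right k).eq
  -- the exponent is five
  have hfive : ∀ φ : Mdl, φ ≠ 1 → φ ^ p = 1 → φ ^ 5 = 1 := by
    intro φ h1 h2
    rcases hpc with rfl | rfl | rfl | rfl
    · exact h2
    · exact absurd (no7_model φ h2) h1
    · exact absurd (no11_model φ h2) h1
    · exact absurd (no19_model φ h2) h1
  have hxs : ∀ u v : Mdl, emb e (u * v) = emb e u * emb e v := fun u v => map_mul _ _ _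
  rcases hcase with hc | hc
  · -- type I
    set f₁ := w⁻¹ * f * w with hf₁
    have ht₁ : f₁ * t = t * f₁ := by
      have h1 : w * t * w⁻¹ * f = f * (w * t * w⁻¹) := by rw [hg.hw]; exact hc
      calc f₁ * t = w⁻¹ * (f * (w * t * w⁻¹)) * w := by rw [hf₁]; group
        _ = w⁻¹ * (w * t * w⁻¹ * f) * w := by rw [h1]
        _ = t * f₁ := by rw [hf₁]; group
    obtain ⟨φ, hφ⟩ := exists_emb e ht₁
    have hf₁f : f = w * emb e φ * w⁻¹ := by rw [hφ, hf₁]; group
    have hφ1 : φ ≠ 1 := by
      rintro rfl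
      apply hf1
      rw [hf₁f, map_one]
      group
    have hφp : φ ^ p = 1 := by
      apply emb_inj e
      rw [map_pow, hφ, map_one, hf₁, conj_pow_inv_aux w f p, hfp]
      group
    have hφ5 := hfive φ hφ1 hφp
    have hinv : (zM * bM) * φ * (zM * bM)⁻¹ = φ⁻¹ := by
      apply emb_inj e
      rw [map_mul, map_mul, map_inv, map_inv, map_mul, emb_zM e ht.1, hφ]
      have h1 : w⁻¹ * t * w = t * emb e bM := by
        have h2 := rel_wtb hg ht.1
        calc w⁻¹ * t * w = w⁻¹ * (w * (t * emb e bM) * w⁻¹) * w := by rw [h2]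
          _ = t * emb e bM := by group
      have h3 : t * emb e bM = w⁻¹ * t * w := h1.symm
      rw [h3, hf₁]
      calc w⁻¹ * t * w * (w⁻¹ * f * w) * (w⁻¹ * t * w)⁻¹ = w⁻¹ * (t * f * t⁻¹) * w := by group
        _ = (w⁻¹ * f * w)⁻¹ := by rw [htf]; group
    have hconj : ∀ k : ℕ, w * emb e (φ ^ k) * w⁻¹ = f ^ k := by
      intro k
      rw [map_pow, hφ, hf₁, ← conj_pow]
      congr 1
      group
    have hA : ∀ k : ℕ, φ ^ k = xM * sM * xM * sM⁻¹ → cAE (emb e xM) (emb e sM) w = f ^ k := by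
      intro k hk
      rw [← hconj k, hk, cAE]
      simp only [map_mul, map_inv]
    have hB : ∀ k : ℕ, φ ^ k = xM * sM → cBE (emb e xM) (emb e sM) w = f ^ k := by
      intro k hk
      rw [← hconj k, hk, cBE]
      simp only [map_mul]
    rcases cand_I φ hφ5 hφ1 hinv with h | h
    · left
      apply comE_of_comm
      rcases h with h | h | h | h
      · exact hpow _ 1 (hA 1 (by rw [pow_one]; exact h))
      · exact hpow _ 2 (hA 2 h)
      · exact hpow _ 3 (hA 3 h)
      · exact hpow _ 4 (hA 4 h)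
    · right; left
      apply comE_of_comm
      rcases h with h | h | h | h
      · exact hpow _ 1 (hB 1 (by rw [pow_one]; exact h))
      · exact hpow _ 2 (hB 2 h)
      · exact hpow _ 3 (hB 3 h)
      · exact hpow _ 4 (hB 4 h)
  · -- type II
    set W3 := w * w * w with hW3
    set f₁ := W3⁻¹ * f * W3 with hf₁
    have hW3t : W3 * t * W3⁻¹ = t * emb e aM := by
      have h := rel_www_t hg
      rw [hW3]
      calc w * w * w * t * (w * w * w)⁻¹ = w * w * w * t * w⁻¹ * w⁻¹ * w⁻¹ := by group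
        _ = t * emb e aM := h
    have hW3v : W3 * emb e vM * W3⁻¹ = t := by
      have h := rel_www_v hg ht.1
      rw [hW3]
      calc w * w * w * emb e vM * (w * w * w)⁻¹ = w * w * w * emb e vM * w⁻¹ * w⁻¹ * w⁻¹ := by group
        _ = t := h
    have ht₁ : f₁ * t = t * f₁ := by
      have h1 : W3 * t * W3⁻¹ * f = f * (W3 * t * W3⁻¹) := by rw [hW3t]; exact hc
      calc f₁ * t = W3⁻¹ * (f * (W3 * t * W3⁻¹)) * W3 := by rw [hf₁]; group
        _ = W3⁻¹ * (W3 * t * W3⁻¹ * f) * W3 := by rw [h1]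
        _ = t * f₁ := by rw [hf₁]; group
    obtain ⟨φ, hφ⟩ := exists_emb e ht₁
    have hf₁f : f = W3 * emb e φ * W3⁻¹ := by rw [hφ, hf₁]; group
    have hφ1 : φ ≠ 1 := by
      rintro rfl
      apply hf1
      rw [hf₁f, map_one]
      group
    have hφp : φ ^ p = 1 := by
      apply emb_inj e
      rw [map_pow, hφ, map_one, hf₁, conj_pow_inv_aux W3 f p, hfp]
      group
    have hφ5 := hfive φ hφ1 hφp
    have hinv : vM * φ * vM⁻¹ = φ⁻¹ := by
      apply emb_inj e
      rw [map_mul, map_mul, map_inv, map_inv, hφ]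
      have h1 : W3⁻¹ * t * W3 = emb e vM := by
        calc W3⁻¹ * t * W3 = W3⁻¹ * (W3 * emb e vM * W3⁻¹) * W3 := by rw [hW3v]
          _ = emb e vM := by group
      rw [← h1, hf₁]
      calc W3⁻¹ * t * W3 * (W3⁻¹ * f * W3) * (W3⁻¹ * t * W3)⁻¹ = W3⁻¹ * (t * f * t⁻¹) * W3 := by group
        _ = (W3⁻¹ * f * W3)⁻¹ := by rw [htf]; group
    have hconj : ∀ k : ℕ, W3 * emb e (φ ^ k) * W3⁻¹ = f ^ k := by
      intro k
      rw [map_pow, hφ, hf₁, ← conj_pow]
      congr 1
      group
    have hC : ∀ k : ℕ, φ ^ k = xM * sM⁻¹ → cCE (emb e xM) (emb e sM) w = f ^ k := by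
      intro k hk
      rw [← hconj k, hk, cCE, hW3]
      simp only [map_mul, map_inv]
      group
    have hD : ∀ k : ℕ, φ ^ k = xM * sM * xM * sM * xM → cDE (emb e xM) (emb e sM) w = f ^ k := by
      intro k hk
      rw [← hconj k, hk, cDE, hW3]
      simp only [map_mul]
      group
    rcases cand_II φ hφ5 hφ1 hinv with h | h
    · right; right; left
      apply comE_of_comm
      rcases h with h | h | h | h
      · exact hpow _ 1 (hC 1 (by rw [pow_one]; exact h))
      · exact hpow _ 2 (hC 2 h)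
      · exact hpow _ 3 (hC 3 h)
      · exact hpow _ 4 (hC 4 h)
    · right; right; right
      apply comE_of_comm
      rcases h with h | h | h | h
      · exact hpow _ 1 (hD 1 (by rw [pow_one]; exact h))
      · exact hpow _ 2 (hD 2 h)
      · exact hpow _ 3 (hD 3 h)
      · exact hpow _ 4 (hD 4 h)

end Cand

section Final

open Cfsg.Agent.Lib.Compute.ToddCoxeterPresented Cfsg.Agent.Lib.J1Ord.UniqJ1

/-- The generators in the group. -/
noncomputable def fG (e : ↥(centralizer ({t} : Set G)) ≃* Mdl) (w : G) : Fin 4 → G := ![emb e xM, emb e sM, t, w]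

lemma x_not_N (e : ↥(centralizer ({t} : Set G)) ≃* Mdl) : emb e xM ∉ NG e := by
  intro h
  have h1 := norm_of_emb_mem_N e h aM
  exact x_not_norm_model (h1.1 aM_T)

lemma T_le_N (e : ↥(centralizer ({t} : Set G)) ≃* Mdl) : TG e ≤ NG e := Subgroup.le_normalizer

/-- A relation which collapses the coset table gives a contradiction. -/
theorem collapse {R : Set (FreeGroup (Fin 4))} (hi : (HOf R Hgens).index = 1)
    (hR : ∀ r ∈ R, FreeGroup.lift (fG e w) r = 1) (hg : GoodW e w) (ht : orderOf t = 2) : False := by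
  let φ : PresentedGroup R →* G := PresentedGroup.toGroup hR
  have hφ : ∀ z, φ (PresentedGroup.mk R z) = FreeGroup.lift (fG e w) z := fun z => rfl
  have hX := image_mem_of_index_one hi φ (NG e) (by
    intro z hz
    rw [hφ]
    simp only [Hgens, List.mem_cons, List.not_mem_nil, or_false] at hz
    rcases hz with rfl | rfl | rfl | rfl
    · have h : FreeGroup.lift (fG e w) Ua = uaE (emb e xM) (emb e sM) := by
        rw [Ua, map_uaE, lift_X, lift_S]
        rfl
      rw [h, ← map_uaE, ua_model]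
      exact T_le_N e ((emb_mem_T e).2 aM_T)
    · rw [lift_S]
      exact s_mem_N e
    · rw [lift_Tz]
      exact T_le_N e (t_mem_T e ht)
    · rw [lift_W]
      exact hg.hN) (PresentedGroup.mk R X)
  rw [hφ, lift_X] at hX
  exact x_not_N e hX

/-- The good relation gives an isomorphism. -/
theorem iso_of_A [Finite G] [IsSimpleGroup G] (ht : IsTwoCentralInvolution t) (hg : GoodW e w)
    (hA : comE (emb e xM) (emb e sM) w (cAE (emb e xM) (emb e sM) w) = 1) : Nonempty (G ≃* J1) := by
  have hR : ∀ r ∈ Cfsg.Agent.Lib.Compute.TC.J1PA.RR, FreeGroup.lift (fG e w) r = 1 :=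
    fun r hr => lift_relA (fG e w) (base_holds hg ht.1) hA r hr
  let φ : PA →* G := PresentedGroup.toGroup hR
  have ht1 : t ≠ 1 := by
    intro h
    have := ht.1
    rw [h] at this
    simp at this
  haveI hs := simple_PA
  have hinj : Function.Injective φ := by
    rw [← MonoidHom.ker_eq_bot_iff]
    rcases (MonoidHom.normal_ker φ).eq_bot_or_eq_top with h | h
    · exact h
    · exfalso
      apply ht1
      have h1 : PresentedGroup.of (2 : Fin 4) ∈ φ.ker := by
        rw [h]
        trivial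
      have h2 : φ (PresentedGroup.of (2 : Fin 4)) = t := PresentedGroup.toGroup.of hR
      rw [← h2]
      exact h1
  have hcard : Nat.card G ≤ Nat.card PA := by
    rw [card_eq e ht, Nat.card_congr isoPA.toEquiv, Cfsg.Agent.Lib.Sporadic.J1.Basic.card_J1]
  have hbij := hinj.bijective_of_nat_card_le hcard
  exact ⟨(MulEquiv.ofBijective φ hbij).symm.trans isoPA⟩

/-- **The uniqueness of `J₁`.** -/
theorem iso_J1 [Finite G] [IsSimpleGroup G] (ht : IsTwoCentralInvolution t)
    (e₀ : ↥(centralizer ({t} : Set G)) ≃* Mdl) : Nonempty (G ≃* J1) := by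
  obtain ⟨e', w', hg⟩ := exists_goodW e₀ ht
  have hb := base_holds hg ht.1
  rcases exists_cand ht hg with h | h | h | h
  · exact iso_of_A ht hg h
  · exact (collapse Cfsg.Agent.Lib.Compute.TC.J1PB.index
      (fun r hr => lift_relB (fG e' w') hb h r hr) hg ht.1).elim
  · exact (collapse Cfsg.Agent.Lib.Compute.TC.J1PC.index
      (fun r hr => lift_relC (fG e' w') hb h r hr) hg ht.1).elim
  · exact (collapse Cfsg.Agent.Lib.Compute.TC.J1PD.index
      (fun r hr => lift_relD (fG e' w') hb h r hr) hg ht.1).elim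

end Final

end Cfsg.Agent.Lib.J1Ord
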