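import Mathlib
import Cfsg.Agent.Lib.J1Ord.O175E8
import Cfsg.Agent.Lib.J1Ord.O175Six
import Cfsg.Agent.Lib.J1Ord.UniqMain
import Cfsg.Agent.S0494

/-!
# The centralizer of an involution in a simple group of order 175560 is `Z₂ × A₅`
-/

set_option autoImplicit false

namespace Cfsg.Agent.Lib.J1Ord.O175

open Subgroup Cfsg.Agent.S4274 Cfsg.Agent.Lib.SmallOrd.InvolTools

universe u

variable {G : Type u} [Group G] [Finite G]

/-- Two commuting involutions do not centralize an element of order five. -/
theorem no_comm_pair [IsSimpleGroup G] (hG : Nat.card G = 175560) {f u v : G} (hf : orderOf f = 5) (hu : u * u = 1)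
    (hu1 : u ≠ 1) (hv : v * v = 1) (hv1 : v ≠ 1) (huv : u ≠ v) (hc : u * v = v * u) (hfu : u * f = f * u)
    (hfv : v * f = f * v) : False := by
  haveI h5 : Fact (Nat.Prime 5) := ⟨by norm_num⟩
  have hvA : v ∉ zpowers u := by
    intro h
    rcases Cfsg.Agent.Lib.J1Ord.mem_zpowers_of_sq hu h with h1 | h1
    · exact hv1 h1
    · exact huv h1.symm
  have hcu : Commute u v := hc
  have hfc : Commute u f := hfu
  have hfc2 : Commute v f := hfv
  obtain ⟨W, hWc, hW⟩ := exists_subgroup_union (zpowers u) v hvA (by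
    intro α hα
    obtain ⟨k, rfl⟩ := mem_zpowers_iff.1 hα
    have e : v * u ^ k * v⁻¹ = u ^ k := by
      rw [((hcu.symm).zpow_right k).eq]
      group
    rw [e]
    exact zpow_mem (mem_zpowers u) k) (by
    rw [hv]
    exact one_mem _)
  have ho : orderOf u = 2 := orderOf_eq_prime (by rw [pow_two]; exact hu) hu1
  rw [Nat.card_zpowers, ho] at hWc
  have hle : W ≤ centralizer ({f} : Set G) := by
    intro g hg
    rw [mem_centralizer_singleton_iff]
    rcases hW g hg with h | ⟨α, hα, rfl⟩
    · obtain ⟨k, rfl⟩ := mem_zpowers_iff.1 h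
      exact (hfc.zpow_left k).eq
    · obtain ⟨k, rfl⟩ := mem_zpowers_iff.1 hα
      exact (hfc2.mul_left (hfc.zpow_left k)).eq
  have h4 := Subgroup.card_dvd_of_le hle
  rw [hWc, card_cen_of_order (ex_of hG (by simp)) hf] at h4
  exact not_four_dvd_cc hG (p := 5) (by simp) h4

/-- A point outside a small set. -/
theorem exists_mem_not_mem {P : Subgroup G} (F : Finset G) (h : F.card < Nat.card P) : ∃ x ∈ P, x ∉ F := by
  by_contra hcon
  push Not at hcon
  have h1 : (P : Set G) ⊆ (F : Set G) := fun x hx => hcon x hx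
  have h2 := Set.ncard_le_ncard h1 (Finset.finite_toSet F)
  rw [Set.ncard_coe_finset, ← Nat.card_coe_set_eq] at h2
  have h3 : Nat.card (P : Set G) = Nat.card P := rfl
  omega

theorem z2_cases : ∀ z : Multiplicative (ZMod 2), z = 1 ∨ z = Multiplicative.ofAdd 1 := by decide

theorem z2_sq : (Multiplicative.ofAdd 1 : Multiplicative (ZMod 2)) * Multiplicative.ofAdd 1 = 1 := by decide

theorem z2_ne : (Multiplicative.ofAdd 1 : Multiplicative (ZMod 2)) ≠ 1 := by decide

/-- **The centralizer of an involution.** -/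
theorem iso_mdl [IsSimpleGroup G] (hG : Nat.card G = 175560) (P : Sylow 2 G) {t : G} (ht : t ∈ P) (ht1 : t ≠ 1) :
    Nonempty (centralizer ({t} : Set G) ≃* Cfsg.Agent.Lib.J1Ord.Mdl) := by
  classical
  haveI h5 : Fact (Nat.Prime 5) := ⟨by norm_num⟩
  haveI hf2 : Fact (Nat.Prime 2) := ⟨Nat.prime_two⟩
  have hP := exp_two hG P
  have hcP := card_sylow_two hG P
  have hcomm : ∀ {a b : G}, a ∈ (P : Subgroup G) → b ∈ (P : Subgroup G) → a * b = b * a := fun ha hb =>
    comm_of_exp_two (P := (P : Subgroup G)) hP ha hb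
  have htt := hP t ht
  set X := centralizer ({t} : Set G) with hX
  have hcX : Nat.card X = 120 := card_cen_inv hG P ht ht1
  have hPX : (P : Subgroup G) ≤ X := by
    intro a ha
    rw [hX, mem_centralizer_singleton_iff]
    exact hcomm ha ht
  -- the elements `a`, `b`
  obtain ⟨a, ha, haF⟩ := exists_mem_not_mem (P := (P : Subgroup G)) {1, t} (by
    refine lt_of_le_of_lt (Finset.card_le_two) ?_
    rw [show Nat.card (P : Subgroup G) = 8 from hcP]
    norm_num)
  simp only [Finset.mem_insert, Finset.mem_singleton, not_or] at haF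
  obtain ⟨b, hb, hbF⟩ := exists_mem_not_mem (P := (P : Subgroup G)) {1, t, a, a * t} (by
    refine lt_of_le_of_lt (Finset.card_le_four) ?_
    rw [show Nat.card (P : Subgroup G) = 8 from hcP]
    norm_num)
  simp only [Finset.mem_insert, Finset.mem_singleton, not_or] at hbF
  have haa := hP a ha
  have hbb := hP b hb
  -- the hyperplane
  obtain ⟨M, hMc, hM⟩ := exists_subgroup_union (zpowers a) b (by
    intro h
    rcases Cfsg.Agent.Lib.J1Ord.mem_zpowers_of_sq haa h with h1 | h1
    · exact hbF.1 h1
    · exact hbF.2.2.1 h1) (by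
    intro α hα
    obtain ⟨k, rfl⟩ := mem_zpowers_iff.1 hα
    have hcu : Commute a b := hcomm ha hb
    have e : b * a ^ k * b⁻¹ = a ^ k := by
      rw [((hcu.symm).zpow_right k).eq]
      group
    rw [e]
    exact zpow_mem (mem_zpowers a) k) (by
    rw [hbb]
    exact one_mem _)
  have hoa : orderOf a = 2 := orderOf_eq_prime (by rw [pow_two]; exact haa) haF.1
  rw [Nat.card_zpowers, hoa] at hMc
  have hAP : zpowers a ≤ (P : Subgroup G) := by
    rw [zpowers_le]
    exact ha
  have hMP : M ≤ (P : Subgroup G) := by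
    intro g hg
    rcases hM g hg with h | ⟨α, hα, rfl⟩
    · exact hAP h
    · exact mul_mem hb (hAP hα)
  have htM : t ∉ M := by
    intro h
    rcases hM t h with h1 | ⟨α, hα, h1⟩
    · rcases Cfsg.Agent.Lib.J1Ord.mem_zpowers_of_sq haa h1 with h2 | h2
      · exact ht1 h2
      · exact haF.2 h2.symm
    · rcases Cfsg.Agent.Lib.J1Ord.mem_zpowers_of_sq haa hα with h2 | h2
      · rw [h2, mul_one] at h1
        exact hbF.2.1 h1.symm
      · apply hbF.2.2.2
        have hcu : b * a = a * b := hcomm hb ha
        rw [h1, h2, hcu, ← mul_assoc, haa, one_mul]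
  -- the transfer
  let S : Subgroup X := (P : Subgroup G).subgroupOf X
  let M' : Subgroup X := M.subgroupOf X
  let t' : X := ⟨t, mem_centralizer_singleton_iff.2 rfl⟩
  have hcS : Nat.card S = 8 := by
    rw [Nat.card_congr (subgroupOfEquivOfLe hPX).toEquiv]
    exact hcP
  have hidxS : S.index = 15 := by
    have h8 := Subgroup.card_mul_index S
    rw [hcS, hcX] at h8
    omega
  have hodd : Odd S.index := by
    rw [hidxS]
    decide
  have hMX : M ≤ X := hMP.trans hPX
  have hcM' : Nat.card M' = 4 := by
    rw [Nat.card_congr (subgroupOfEquivOfLe hMX).toEquiv]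
    exact hMc
  have hM'S : M' ≤ S := fun x hx => hMP hx
  have hrel : M'.relIndex S = 2 := by
    have h0 := Subgroup.card_mul_index (M'.subgroupOf S)
    rw [Nat.card_congr (subgroupOfEquivOfLe hM'S).toEquiv, hcM', hcS] at h0
    show (M'.subgroupOf S).index = 2
    omega
  have ht'cen : ∀ g : X, g * t' = t' * g := by
    intro g
    apply Subtype.ext
    exact mem_centralizer_singleton_iff.1 g.2
  have ht't' : t' * t' = 1 := Subtype.ext htt
  have ht'conj : ∀ g : X, g⁻¹ * t' * g = t' := by
    intro g
    rw [mul_assoc, ← ht'cen g]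
    group
  have ht'M : t' ∉ M' := htM
  obtain ⟨H₀, hH₀n, hH₀i, htH⟩ := Cfsg.Agent.Lib.Transfer.IndexTwo.exists_normal_index_two_of_relIndex
    S hodd M' hrel t' 1 (by rw [pow_one, pow_two]; exact ht't')
    (by
      intro g _
      rw [ht'conj g]
      exact ht'M)
    (by
      intro k hk hkd g _
      have hk2 : k = 2 := by
        have := Nat.le_of_dvd (by norm_num) hkd
        rw [pow_one] at this
        omega
      subst hk2
      rw [pow_two, ht't']
      simp)
  have hcH : Nat.card H₀ = 60 := by
    have h8 := Subgroup.card_mul_index H₀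
    rw [hH₀i, hcX] at h8
    omega
  have htnot : ∀ u : H₀, ((u : X) : G) ≠ t := by
    intro u h
    apply htH
    have e : (u : X) = t' := Subtype.ext h
    rw [← e]
    exact u.2
  haveI hsimple : IsSimpleGroup H₀ := by
    apply simple_of_sixty hcH
    · intro u f hu hu1 hf huf
      have hu' : ((u : X) : G) * ((u : X) : G) = 1 := congrArg (fun z : H₀ => ((z : X) : G)) hu
      have hu1' : ((u : X) : G) ≠ 1 := by
        intro h
        apply hu1
        apply Subtype.ext
        apply Subtype.ext
        exact h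
      have hf' : orderOf ((f : X) : G) = 5 := by
        rw [Subgroup.orderOf_coe, Subgroup.orderOf_coe, hf]
      exact no_comm_pair hG hf' hu' hu1' htt ht1 (htnot u) (mem_centralizer_singleton_iff.1 (u : X).2)
        (congrArg (fun z : H₀ => ((z : X) : G)) huf) (mem_centralizer_singleton_iff.1 (f : X).2).symm
    · intro f hf
      by_contra hno
      push Not at hno
      set y : G := ((f : X) : G) with hy_def
      have hy : orderOf y = 5 := by
        rw [hy_def, Subgroup.orderOf_coe, Subgroup.orderOf_coe, hf]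
      have hyt : y * t = t * y := mem_centralizer_singleton_iff.1 (f : X).2
      have hH : ∀ g : H₀, ((g : X) : G) * y * ((g : X) : G)⁻¹ ∈ zpowers y := by
        intro g
        obtain ⟨k, hk⟩ := mem_zpowers_iff.1 (hno g)
        refine mem_zpowers_iff.2 ⟨k, ?_⟩
        have := congrArg (fun z : H₀ => ((z : X) : G)) hk
        simpa using this
      have hall : ∀ x ∈ (P : Subgroup G), x * y * x⁻¹ ∈ zpowers y := by
        intro x hx
        by_cases hxH : (⟨x, hPX hx⟩ : X) ∈ H₀
        · exact hH ⟨⟨x, hPX hx⟩, hxH⟩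
        · have h1 : (⟨x, hPX hx⟩ : X) * t' ∈ H₀ := by
            have h2 := Subgroup.mul_mem_iff_of_index_two hH₀i (a := (⟨x, hPX hx⟩ : X)) (b := t')
            rw [h2]
            exact ⟨fun h3 => absurd h3 hxH, fun h3 => absurd h3 htH⟩
          have h2 := hH ⟨_, h1⟩
          have e : x * t * y * (x * t)⁻¹ = x * y * x⁻¹ := by
            calc x * t * y * (x * t)⁻¹ = x * (t * y) * t⁻¹ * x⁻¹ := by group
              _ = x * (y * t) * t⁻¹ * x⁻¹ := by rw [hyt]
              _ = x * y * x⁻¹ := by group
          have h3 : x * t * y * (x * t)⁻¹ ∈ zpowers y := h2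
          rwa [e] at h3
      have comm_of : ∀ c : G, c * y * c⁻¹ = y → c * y = y * c := by
        intro c hc
        calc c * y = (c * y * c⁻¹) * c := by group
          _ = y * c := by rw [hc]
      have comm_t : ∀ c ∈ (P : Subgroup G), c * t = t * c := fun c hc => hcomm hc ht
      rcases Cfsg.Agent.Lib.J1Ord.conj_eq_or_inv (by norm_num) hy haa (hall a ha) with h1 | h1
      · exact no_comm_pair hG hy haa haF.1 htt ht1 haF.2 (comm_t a ha) (comm_of a h1) hyt.symm
      · rcases Cfsg.Agent.Lib.J1Ord.conj_eq_or_inv (by norm_num) hy hbb (hall b hb) with h2 | h2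
        · exact no_comm_pair hG hy hbb hbF.1 htt ht1 hbF.2.1 (comm_t b hb) (comm_of b h2) hyt.symm
        · have hab : a * b ∈ (P : Subgroup G) := mul_mem ha hb
          refine no_comm_pair hG hy (hP _ hab) ?_ htt ht1 ?_ (comm_t _ hab) (comm_of _ ?_) hyt.symm
          · intro h
            apply hbF.2.2.1
            calc b = a * a * b := by rw [haa, one_mul]
              _ = a * (a * b) := by group
              _ = a := by rw [h, mul_one]
          · intro h
            apply hbF.2.2.2
            calc b = a * a * b := by rw [haa, one_mul]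
              _ = a * (a * b) := by group
              _ = a * t := by rw [h]
          · have e1 : a * b * y * (a * b)⁻¹ = a * (b * y * b⁻¹) * a⁻¹ := by group
            have e2 : a * y⁻¹ * a⁻¹ = (a * y * a⁻¹)⁻¹ := by group
            rw [e1, h2, e2, h1, inv_inv]
  obtain ⟨θ⟩ := Cfsg.Agent.S0494.result hcH
  have hall := z2_cases
  have hoo := z2_sq
  have hone := z2_ne
  let φ₁ : Multiplicative (ZMod 2) →* X := MonoidHom.mk' (fun z => if z = 1 then 1 else t') (by
    intro x y
    rcases hall x with rfl | rfl <;> rcases hall y with rfl | rfl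
    · simp
    · simp
    · simp
    · rw [hoo, if_pos rfl, if_neg hone, ht't'])
  have hφ1 : φ₁ 1 = 1 := map_one _
  have hφ2 : φ₁ (Multiplicative.ofAdd 1) = t' := by
    show (if (Multiplicative.ofAdd 1 : Multiplicative (ZMod 2)) = 1 then (1 : X) else t') = t'
    exact if_neg hone
  let ι : Cfsg.Agent.Lib.J1Ord.Mdl →* X := MonoidHom.noncommCoprod φ₁ (H₀.subtype.comp θ.symm.toMonoidHom) (by
    intro m n
    rcases hall m with rfl | rfl
    · rw [hφ1]
      exact Commute.one_left _
    · rw [hφ2]
      exact (ht'cen _).symm)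
  have hι : ∀ z w, ι (z, w) = φ₁ z * ((θ.symm w : H₀) : X) := fun z w => rfl
  have hinj : Function.Injective ι := by
    rw [injective_iff_map_eq_one]
    rintro ⟨z, w⟩ h
    rw [hι] at h
    rcases hall z with rfl | rfl
    · rw [hφ1, one_mul] at h
      have h1 : θ.symm w = 1 := Subtype.ext h
      have h2 : w = 1 := by
        have := congrArg θ h1
        simpa using this
      rw [h2]
      rfl
    · exfalso
      rw [hφ2] at h
      apply htH
      have h1 : t' = ((θ.symm w : H₀) : X)⁻¹ := eq_inv_of_mul_eq_one_left h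
      rw [h1]
      exact H₀.inv_mem (θ.symm w).2
  have hbij : Function.Bijective ι := hinj.bijective_of_nat_card_le (by
    rw [hcX, Nat.card_eq_fintype_card, Cfsg.Agent.Lib.J1Ord.card_mdl])
  exact ⟨(MulEquiv.ofBijective ι hbij).symm⟩

/-- **A simple group of order 175560 is `J₁`.** -/
theorem iso_j1 [IsSimpleGroup G] (hG : Nat.card G = 175560) : Nonempty (G ≃* Cfsg.Spor.J1) := by
  classical
  haveI hf2 : Fact (Nat.Prime 2) := ⟨Nat.prime_two⟩
  obtain ⟨P⟩ : Nonempty (Sylow 2 G) := inferInstance
  obtain ⟨t, ht, ht1⟩ := exists_mem_not_mem (P := (P : Subgroup G)) {1} (by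
    rw [show Nat.card (P : Subgroup G) = 8 from card_sylow_two hG P]
    norm_num)
  simp only [Finset.mem_singleton] at ht1
  have htt := exp_two hG P t ht
  have hTC : Cfsg.IsTwoCentralInvolution t :=
    ⟨orderOf_eq_prime (by rw [pow_two]; exact htt) ht1, P, ht,
      fun x hx => comm_of_exp_two (P := (P : Subgroup G)) (exp_two hG P) hx ht⟩
  obtain ⟨e₀⟩ := iso_mdl hG P ht ht1
  exact Cfsg.Agent.Lib.J1Ord.iso_J1 hTC e₀

end Cfsg.Agent.Lib.J1Ord.O175
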