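import Cfsg.Agent.Lib.J1Ord.Pres
import Cfsg.Agent.Lib.Compute.TCChain

/-!
# Maps out of the presented groups
-/

set_option autoImplicit false

namespace Cfsg.Agent.Lib.J1Ord.Pres

open Cfsg.Agent.Lib.Compute.ToddCoxeterPresented

section Lift

variable {Γ : Type*} [Group Γ] (f : Fin 4 → Γ)

theorem lift_X : FreeGroup.lift f X = f 0 := FreeGroup.lift_apply_of
theorem lift_S : FreeGroup.lift f S = f 1 := FreeGroup.lift_apply_of
theorem lift_Tz : FreeGroup.lift f Tz = f 2 := FreeGroup.lift_apply_of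
theorem lift_W : FreeGroup.lift f W = f 3 := FreeGroup.lift_apply_of

theorem lift_base (h : ∀ y ∈ baseE (f 0) (f 1) (f 2) (f 3), y = 1) : ∀ r ∈ base, FreeGroup.lift f r = 1 := by
  intro r hr
  apply h
  rw [← lift_X f, ← lift_S f, ← lift_Tz f, ← lift_W f, ← map_baseE]
  exact List.mem_map_of_mem hr

theorem lift_norm (h : ∀ y ∈ normE (f 0) (f 1) (f 2) (f 3), y = 1) : ∀ r ∈ normR, FreeGroup.lift f r = 1 := by
  intro r hr
  apply h
  rw [← lift_X f, ← lift_S f, ← lift_Tz f, ← lift_W f, ← map_normE]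
  exact List.mem_map_of_mem hr

theorem lift_relA (h : ∀ y ∈ baseE (f 0) (f 1) (f 2) (f 3), y = 1)
    (h2 : comE (f 0) (f 1) (f 3) (cAE (f 0) (f 1) (f 3)) = 1) : ∀ r ∈ relA, FreeGroup.lift f r = 1 := by
  intro r hr
  rcases List.mem_append.1 hr with hr | hr
  · exact lift_base f h r hr
  · rw [List.mem_singleton] at hr
    rw [hr, map_comE, map_cAE, lift_X, lift_S, lift_W, h2]

theorem lift_relB (h : ∀ y ∈ baseE (f 0) (f 1) (f 2) (f 3), y = 1)
    (h2 : comE (f 0) (f 1) (f 3) (cBE (f 0) (f 1) (f 3)) = 1) : ∀ r ∈ relB, FreeGroup.lift f r = 1 := by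
  intro r hr
  rcases List.mem_append.1 hr with hr | hr
  · exact lift_base f h r hr
  · rw [List.mem_singleton] at hr
    rw [hr, map_comE, map_cBE, lift_X, lift_S, lift_W, h2]

theorem lift_relC (h : ∀ y ∈ baseE (f 0) (f 1) (f 2) (f 3), y = 1)
    (h2 : comE (f 0) (f 1) (f 3) (cCE (f 0) (f 1) (f 3)) = 1) : ∀ r ∈ relC, FreeGroup.lift f r = 1 := by
  intro r hr
  rcases List.mem_append.1 hr with hr | hr
  · exact lift_base f h r hr
  · rw [List.mem_singleton] at hr
    rw [hr, map_comE, map_cCE, lift_X, lift_S, lift_W, h2]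

theorem lift_relD (h : ∀ y ∈ baseE (f 0) (f 1) (f 2) (f 3), y = 1)
    (h2 : comE (f 0) (f 1) (f 3) (cDE (f 0) (f 1) (f 3)) = 1) : ∀ r ∈ relD, FreeGroup.lift f r = 1 := by
  intro r hr
  rcases List.mem_append.1 hr with hr | hr
  · exact lift_base f h r hr
  · rw [List.mem_singleton] at hr
    rw [hr, map_comE, map_cDE, lift_X, lift_S, lift_W, h2]

end Lift

section Eqs

variable {Γ : Type*} [Group Γ] {x s t w : Γ}

/-- The common relators hold when some equations without inverses hold. -/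
theorem base_of_eqs (h1 : x * x = 1) (h2 : s * s * s = 1) (h3 : (x * s) ^ 5 = 1) (h4 : t * t = 1)
    (h5 : t * x = x * t) (h6 : t * s = s * t) (h7 : w ^ 7 = 1) (h8 : s * w = w * w * s)
    (h9 : w * t = uaE x s * w) (h10 : w * uaE x s = ubE x s * w) (h11 : w * ubE x s = t * uaE x s * w)
    (h12 : uaE x s * uaE x s = 1) (h13 : (uaE x s * s) ^ 3 = 1) : ∀ y ∈ baseE x s t w, y = 1 := by
  intro y hy
  simp only [baseE, List.mem_cons, List.not_mem_nil, or_false] at hy
  rcases hy with rfl | rfl | rfl | rfl | rfl | rfl | rfl | rfl | rfl | rfl | rfl | rfl | rfl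
  · exact h1
  · exact h2
  · exact h3
  · exact h4
  · rw [h5]; group
  · rw [h6]; group
  · exact h7
  · rw [h8]; group
  · rw [h9]; group
  · rw [h10]; group
  · rw [h11]; group
  · exact h12
  · exact h13

theorem comE_of_comm {c : Γ} (h : ddE x s * c = c * ddE x s) : comE x s w c = 1 := by
  rw [comE, h]
  group

theorem norm_of_base (h : ∀ y ∈ baseE x s t w, y = 1) : ∀ y ∈ normE (uaE x s) s t w, y = 1 := by
  have h1 : ∀ y ∈ baseE x s t w, y = 1 := h
  simp only [baseE, List.mem_cons, List.not_mem_nil, or_false, forall_eq_or_imp, forall_eq] at h1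
  obtain ⟨h1, h2, h3, h4, h5, h6, h7, h8, h9, h10, h11, h12, h13⟩ := h1
  have hcx : t * x = x * t := by
    have : t * x * t⁻¹ * x⁻¹ * (x * t) = t * x := by group
    rw [← this, h5]
    group
  have hcs : t * s = s * t := by
    have : t * s * t⁻¹ * s⁻¹ * (s * t) = t * s := by group
    rw [← this, h6]
    group
  have hcx' : t * x⁻¹ = x⁻¹ * t := by
    rw [eq_inv_of_mul_eq_one_left h1, inv_inv, hcx]
  have hcs' : t * s⁻¹ = s⁻¹ * t := by
    have : s⁻¹ * (s * t) * s⁻¹ = t * s⁻¹ := by group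
    rw [← this, ← hcs]
    group
  have hca : t * uaE x s = uaE x s * t := by
    simp only [uaE]
    calc t * (x * s⁻¹ * x * s * x) = (t * x) * s⁻¹ * x * s * x := by group
      _ = x * (t * s⁻¹) * x * s * x := by rw [hcx]; group
      _ = x * s⁻¹ * (t * x) * s * x := by rw [hcs']; group
      _ = x * s⁻¹ * x * (t * s) * x := by rw [hcx]; group
      _ = x * s⁻¹ * x * s * (t * x) := by rw [hcs]; group
      _ = x * s⁻¹ * x * s * x * t := by rw [hcx]; group
  intro y hy
  simp only [normE, List.mem_cons, List.not_mem_nil, or_false] at hy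
  rcases hy with rfl | rfl | rfl | rfl | rfl | rfl | rfl | rfl | rfl | rfl | rfl
  · exact h12
  · exact h2
  · exact h13
  · exact h4
  · rw [hca]; group
  · exact h6
  · exact h7
  · exact h8
  · exact h9
  · exact h10
  · exact h11

end Eqs

/-- A subgroup of index one contains everything: the image of a map out of a presented group lies in any subgroup
containing the images of the generators of a subgroup of index one. -/
theorem image_mem_of_index_one {α : Type*} {R : Set (FreeGroup α)} {Hs : List (FreeGroup α)}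
    (h : (HOf R Hs).index = 1) {Γ : Type*} [Group Γ] (φ : PresentedGroup R →* Γ) (K : Subgroup Γ)
    (hK : ∀ w ∈ Hs, φ (PresentedGroup.mk R w) ∈ K) (y : PresentedGroup R) : φ y ∈ K := by
  have h1 : HOf R Hs = ⊤ := Subgroup.index_eq_one.1 h
  have h2 : y ∈ HOf R Hs := by rw [h1]; trivial
  have h3 : HOf R Hs ≤ K.comap φ := by
    rw [Subgroup.map_le_iff_le_comap, Subgroup.closure_le]
    intro w hw
    exact hK w hw
  exact h3 h2

end Cfsg.Agent.Lib.J1Ord.Pres
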